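/-
P18, chapter A: a strongly closed elementary abelian 2-subgroup (port of P14/A2, P14/A).
-/
import Cfsg.Agent.P14.A
import Cfsg.Agent.P14.CB1

set_option autoImplicit false
set_option linter.unusedSectionVars false

namespace Cfsg.Agent.P18.A

open Subgroup Cfsg Cfsg.Agent Cfsg.Agent.FT Cfsg.Agent.H7.SC Cfsg.Agent.P14
open Cfsg.Agent.P14.St (I3)
open Cfsg.Agent.P14.Lc (vc nm_of_red)
open scoped commutatorElement

universe u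

/-- Chapter N for an abstract inductive hypothesis. -/
def NS (K : ℕ → Prop) : Prop := ∀ (G : Type u) [Group G] [Finite G] (L V B : Subgroup G), I3 G →
  K (𝐂(V).relIndex L + 1) → H7.SC.Red L V → IsElementaryAbelian 2 V → L ≤ 𝐍(V) → B ≤ L →
  IsPGroup 2 B → H2.NF B V

/-- Chapter P for an abstract inductive hypothesis. -/
def PS (K : ℕ → Prop) : Prop := ∀ (G : Type u) [Group G] [Finite G] (S V : Subgroup G), I3 G →
  K (Nat.card G) → 𝐂(pCoreOf 2 (⊤ : Subgroup G)) ≤ pCoreOf 2 ⊤ → IsSyl 2 S ⊤ → V ≤ S →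
  IsElementaryAbelian 2 V → S ≤ 𝐍(V) → H2.NF S V →
  (∀ Y : Subgroup G, Y ≠ ⊤ → S ≤ Y → Y ≤ 𝐍(V)) → 𝐍(H7.SC.jj S) ≤ 𝐍(V) → ⊤ ≤ 𝐍(V)

variable {G : Type u} [Group G] [Finite G] {K : ℕ → Prop}

theorem i3_bar (h : I3 G) (X N : Subgroup G) [(N.subgroupOf X).Normal] :
    I3 (X ⧸ N.subgroupOf X) := (h.subgroup X).of_surjective _ (QuotientGroup.mk'_surjective _)

/-- Chapter A below order `n`. -/
def AH (n : ℕ) : Prop := ∀ (M : Type u) [Group M] [Finite M], Nat.card M < n → I3 M →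
  2 ∣ Nat.card M → ∃ A : Subgroup M, IsElementaryAbelian 2 A ∧ A ≠ ⊥ ∧ SC ⊤ A

theorem AH.rel {n : ℕ} (h : AH.{u} n) {N T : Subgroup G} (hn : 𝐨(N) < n) (h3 : I3 G)
    (hT : IsSyl 2 T N) (h0 : T ≠ ⊥) : ∃ A ≤ T, A ≠ ⊥ ∧ A ≤ 𝐂(A) ∧ SCl N T A := by
  obtain ⟨A, a1, a2, a3⟩ := h N hn (h3.subgroup N) (by
    by_contra c; exact h0 ((hT.eq_bot_iff Nat.prime_two).2 c))
  have a4 : IsElementaryAbelian 2 (A.map N.subtype) := H5.elemAb_map _ a1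
  obtain ⟨g, hg, k⟩ := hT.exists_le_conj Nat.prime_two (elemAb_isPGroup a4) (map_subtype_le A)
  have k1 := hT.conj_of_mem_norm (le_norm_self N hg)
  have k2 : SCl N (T ^ᵍ g) (A.map N.subtype) := by
    rintro _ ⟨a, ha, rfl⟩ x hx e
    exact ⟨_, a3 ((T ^ᵍ g).subgroupOf N) le_top k1.pgrp.comap_subtype (map_le_iff_le_comap.1 k) a ha
      ⟨x, hx⟩ (mem_top _) e, rfl⟩
  have k3 := k2.conj g⁻¹
  rw [conj_eq_of_mem (inv_mem hg), conj_conj_inv] at k3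
  exact ⟨_, le_conj_iff.1 k, fun e => a2 ((map_eq_bot_iff_of_injective A N.subtype_injective).1
    (conj_eq_bot_iff.1 e)), conj_le_cent_iff.2 (isMulComm_iff_le_cent.1 a4.1), k3⟩

theorem AH.exists_cn {n : ℕ} (h : AH.{u} n) {X T : Subgroup G} (hn : 𝐨(X) < n) (h3 : I3 G)
    (hT : IsSyl 2 T X) : ∃ B ≤ T, Cn X T B B ∧ T ⊓ 𝐂(B) ≤ B := by
  obtain ⟨B, -, ⟨hB, hc⟩, hmax⟩ := exists_maximal_ge_of_wellFoundedGT
    (fun B => B ≤ T ∧ Cn X T B B) ⊥ ⟨bot_le, .bot⟩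
  refine ⟨B, hB, hc, ?_⟩
  by_contra hne
  have hTH : T ≤ X ⊓ 𝐍(B) := le_inf hT.le (hc.scl.le_norm hT.le hB)
  have hH := hT.of_le hTH inf_le_left
  have ctrl := hc.ctrl hT hB
  have hHX : X ⊓ 𝐍(B) ≤ X := inf_le_left
  have hHB : X ⊓ 𝐍(B) ≤ 𝐍(B) := inf_le_right
  generalize X ⊓ 𝐍(B) = H at hTH hH ctrl hHX hHB
  have := H1.normal_subgroupOf_of_le hHB
  have hBH := hB.trans hTH
  have hC : H ⊓ 𝐂(B) ⊲ H :=
    ⟨inf_le_left, H1.le_normalizer_inf (le_norm_self H) (H1.le_normalizer_centralizer hHB)⟩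
  have hN : H1.bar H B (H ⊓ 𝐂(B)) ⊲ ⊤ :=
    ⟨le_top, H1.bar_top (Y := H) (N := B) ▸ H1.bar_le_normalizer hC.2⟩
  have hS : IsSyl 2 (H1.bar H B T) ⊤ := H1.bar_top (Y := H) (N := B) ▸ hH.bar Nat.prime_two le_rfl
  have hd : 𝐨(H1.bar H B (H ⊓ 𝐂(B))) ∣ 𝐨(X) :=
    (H1.card_bar_dvd _).trans (Subgroup.card_dvd_of_le (inf_le_left.trans hHX))
  obtain ⟨V, v1, v2, v3, v4⟩ := h.rel ((Nat.le_of_dvd Nat.card_pos hd).trans_lt hn)
    (i3_bar h3 H B) (hS.inf_normal Nat.prime_two hN) fun e => hne (by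
      rw [← H1.bar_eq_bot_iff (N := B) (inf_le_left.trans hTH), ← le_bot_iff, ← e]
      exact le_inf (H1.bar_mono inf_le_left) (H1.bar_mono (inf_le_inf_right _ hTH)))
  obtain ⟨W, w1, w2, w3, w4⟩ := exists_scl_of_normal hN hS v1 v2 v3 v4
  have d1 : H1.unbar H B W ≤ T :=
    (H1.unbar_mono (w1.trans inf_le_left)).trans (H1.unbar_bar_of_le hB hTH).le
  have d2 : H1.unbar H B W ≤ (H ⊓ 𝐂(B)) ⊔ B :=
    (H1.unbar_mono (w1.trans inf_le_right)).trans (H1.unbar_bar hBH inf_le_left).le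
  have d3 : B ≤ H1.unbar H B W := H1.le_unbar hBH W
  have d4 : SCl H T (H1.unbar H B W) := fun d hd g hg e => by
    obtain ⟨hd1, hd2⟩ := H1.mem_unbar.1 hd
    have := w4 _ hd2 (H1.qmk H B ⟨g, hg⟩) (mem_top _) (by
      rw [← map_inv, ← map_mul, ← map_mul]; exact H1.qmk_mem_bar e)
    rw [← map_inv, ← map_mul, ← map_mul] at this
    exact H1.coe_mem_unbar.2 this
  have d5 : ⁅H1.unbar H B W, H1.unbar H B W⁆ ≤ B := by
    rw [← H1.bar_le_centralizer_iff (H1.unbar_le W) (H1.unbar_le W), H1.bar_unbar]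
    exact w3
  have d6 : B ⊔ (H1.unbar H B W ⊓ (H ⊓ 𝐂(B))) = H1.unbar H B W := by
    rw [sup_comm, ← H1.dedekind_right (inf_le_left.trans hHB) d3, inf_eq_left.2 d2]
  have d7 := hc.sup hT.le hB (W := H1.unbar H B W ⊓ (H ⊓ 𝐂(B))) (inf_le_right.trans inf_le_right)
  rw [d6] at d7
  have d8 := hmax ⟨d1, .step B _ d7 (ctrl.scl d1 d4) le_rfl d5⟩ d3
  exact w2 (by rw [← H1.bar_unbar W]; exact (H1.bar_eq_bot_iff (H1.unbar_le W)).2 d8)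

theorem tf0 (mono : ∀ m n, K n → m ≤ n → K m) (hN : NS.{u} K)
    (ch : 𝐂(pCoreOf 2 (⊤ : Subgroup G)) ≤ pCoreOf 2 ⊤)
    (h3 : I3 G) (hk : K (Nat.card G + 1)) {T : Subgroup G} (hT : IsSyl 2 T ⊤) :
    ⊤ ≤ 𝐂(oz T) ⊔ 𝐍(jj T) := by
  obtain ⟨h1, h2, h3'⟩ := mon ch hT le_rfl (elemAb_oz T) (red_oz T)
  have hn : ⊤ ≤ 𝐍(H2.nclIn ⊤ (oz T)) := H2.le_normalizer_nclIn _ _
  have h4 := jj_le_cent (hN G ⊤ _ T h3 (mono _ _ hk (Nat.succ_le_succ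
    ((relIndex_le_card _ _).trans card_top.le))) h3' h2 hn le_top hT.pgrp)
    (h1.trans (hT.pCoreOf_le Nat.prime_two)) h2
  have h5 : 𝐂(H2.nclIn ⊤ (oz T)) ⊲ ⊤ := ⟨le_top, H1.le_normalizer_centralizer hn⟩
  rw [← (hT.inf_normal Nat.prime_two h5).frattini Nat.prime_two h5]
  refine sup_le_sup (cent_anti (H2.le_nclIn _ _)) (inf_le_right.trans ?_)
  rw [jj, ← H5.thompsonSubgroupOf_eq_of_le inf_le_left (le_inf (H5.thompsonSubgroupOf_le T) h4)]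
  exact H5.normalizer_le_normalizer_thompsonSubgroupOf _

/-- The hypothesis of the inductive step. -/
structure Lc (K : ℕ → Prop) (G : Type u) [Group G] : Prop where
  mono : ∀ m n, K n → m ≤ n → K m
  hN : NS.{u} K
  hP : PS.{u} K
  n3 : I3 G
  kh : K (Nat.card G)
  ah : AH.{u} (Nat.card G)
  nrm : ∀ K : Subgroup G, IsPGroup 2 K → K ≠ ⊥ → 𝐍(K) ≠ ⊤

namespace Lc

variable (hG : Lc K G)
include hG

theorem n3b (X : Subgroup G) : I3 (X ⧸ (od X).subgroupOf X) := i3_bar hG.n3 X _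

theorem khb {X : Subgroup G} (hX : X ≠ ⊤) : K (Nat.card (X ⧸ (od X).subgroupOf X) + 1) :=
  hG.mono _ _ hG.kh ((Nat.le_of_dvd Nat.card_pos (card_br_dvd X)).trans_lt (card_lt_top hX))

theorem con {X T : Subgroup G} (hX : X ≠ ⊤) (hT : IsSyl 2 T X) :
    ∃ B ≤ T, Cn X T B B ∧ T ≤ X ⊓ 𝐍(B) ∧ P14.Con (X ⊓ 𝐍(B)) := by
  obtain ⟨B, h1, h2, h3⟩ := hG.ah.exists_cn (card_lt_top hX) hG.n3 hT
  have h4 : T ≤ X ⊓ 𝐍(B) := le_inf hT.le (h2.scl.le_norm hT.le h1)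
  exact ⟨B, h1, h2, h4, con_of (hT.of_le h4 inf_le_left) h1 inf_le_right h3⟩

theorem tf {X T : Subgroup G} (hX : X ≠ ⊤) (hc : P14.Con X) (hT : IsSyl 2 T X) :
    ⊤ ≤ br X (X ⊓ 𝐍(oz T)) ⊔ br X (X ⊓ 𝐍(jj T)) := by
  have h1 := tf0 hG.mono hG.hN hc (hG.n3b X) (hG.khb hX) (isSyl_br hT)
  have hJ : jj T ≤ T := H5.thompsonSubgroupOf_le T
  rw [jj_br hT.pgrp hT.le, norm_br (hT.pgrp.to_le hJ) (hJ.trans hT.le)] at h1
  exact h1.trans (sup_le_sup_right ((cent_anti (br_oz_le hT.le)).trans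
    ((cent_br (hT.pgrp.to_le (oz_le T)) ((oz_le T).trans hT.le)).trans
      (H1.bar_mono (inf_le_inf_left _ (cent_le_norm _))))) _)

variable {S V : Subgroup G} (h : VV S V)
include h

theorem nf : H2.NF S V :=
  hG.hN G 𝐍(V) V S hG.n3 (hG.mono _ _ hG.kh ((relIndex_le_card _ _).trans_lt
    (card_lt_top (hG.nrm V h.pg h.ne)))) h.red h.el le_rfl h.nrm h.syl.pgrp

theorem scl_jj : SCl 𝐍(jj S) S V := by
  have h1 : 𝐍(V) ⊓ 𝐂(V) ⊲ 𝐍(V) :=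
    ⟨inf_le_left, H1.le_normalizer_inf (le_norm_self _) (H1.le_normalizer_centralizer le_rfl)⟩
  have h2 := (h.syl.of_le h.nrm le_top).inf_normal Nat.prime_two h1
  have hJ : jj S ≤ S := H5.thompsonSubgroupOf_le S
  have l1 : S ≤ 𝐍(V) ⊓ 𝐍(S ⊓ (𝐍(V) ⊓ 𝐂(V))) :=
    le_inf h.nrm (H1.le_normalizer_inf (le_norm_self S) (h.nrm.trans h1.2))
  have l2 := h.red.down inf_le_left le_rfl (h2.frattini Nat.prime_two h1).ge
  have l3 : 𝐍(V) ⊓ 𝐍(S ⊓ (𝐍(V) ⊓ 𝐂(V))) ≤ 𝐍(jj S) := by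
    rw [jj, ← H5.thompsonSubgroupOf_eq_of_le (inf_le_left : S ⊓ (𝐍(V) ⊓ 𝐂(V)) ≤ S)
      (le_inf hJ (le_inf (hJ.trans h.nrm) (jj_le_cent (hG.nf h) h.le h.el)))]
    exact inf_le_right.trans (H5.normalizer_le_normalizer_thompsonSubgroupOf _)
  have l4 : 𝐍(V) ⊓ 𝐍(S ⊓ (𝐍(V) ⊓ 𝐂(V))) ≤ 𝐍(V) := inf_le_left
  generalize 𝐍(V) ⊓ 𝐍(S ⊓ (𝐍(V) ⊓ 𝐂(V))) = L at l1 l2 l3 l4
  have hS := h.syl.of_le (l1.trans l3) le_top
  obtain ⟨B, b1, b2, b3, b4⟩ := hG.con (hG.nrm _ (h.syl.pgrp.to_le hJ)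
    (H5.thompsonSubgroupOf_ne_bot h.syl.pgrp (ne_bot_of_le_ne_bot h.ne h.le))) hS
  have l5 := (b2.mono l3).ctrl (h.syl.of_le l1 le_top) b1
  have l6 : L ≤ (L ⊓ 𝐂(V)) ⊔ (L ⊓ 𝐍(B)) := fun x hx => by
    obtain ⟨m, hm, e⟩ := l5 V h.le x hx (by rw [conj_eq_of_mem_norm (l4 hx)]; exact h.le)
    have : m⁻¹ * x ∈ L ⊓ 𝐂(V) := ⟨L.mul_mem (L.inv_mem hm.1) hx, fun t ht => by
      calc t * (m⁻¹ * x) = m⁻¹ * (m * t * m⁻¹) * x := by group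
        _ = m⁻¹ * x * t := by rw [← e t ht]; group⟩
    simpa using mul_mem (mem_sup_right hm) (mem_sup_left this : _ ∈ _ ⊔ (L ⊓ 𝐍(B)))
  exact (b2.ctrl hS b1).scl h.le (SCl.of_nm (nm_of_red h b4 (inf_le_inf_right _ l3)
    (le_inf l1 (b3.trans inf_le_right)) (inf_le_left.trans l4) (l2.down inf_le_left l4 l6))
    (h.le.trans b3) h.syl.pgrp h.le)

theorem top (X : Subgroup G) : X ≠ ⊤ → S ≤ X → SCl X S V := by
  induction X using H1.subgroup_strong_induction with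
  | h X ih =>
  intro hX hSX
  have hS := h.syl.of_le hSX le_top
  have hVX := h.le.trans hSX
  have hJ : jj S ≤ S := H5.thompsonSubgroupOf_le S
  obtain ⟨B, b1, b2, b3, b4⟩ := hG.con hX hS
  rcases (inf_le_left : X ⊓ 𝐍(B) ≤ X).lt_or_eq with c | c
  · exact (b2.ctrl hS b1).scl h.le (ih _ c (ne_top_of_lt c) b3)
  rw [c] at b4
  refine SCl.of_nm ((nm_iff hVX).2 (hG.hP _ _ _ (hG.n3b X) 
    (hG.mono _ _ (hG.khb hX) (Nat.le_succ _)) b4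
    (isSyl_br hS) (H1.bar_mono h.le) (elemAb_br hVX h.el) (H1.bar_le_normalizer h.nrm)
    (nf_br hS.pgrp hSX h.le (hG.nf h)) (fun Y h1 h2 => ?_) ?_)) hVX hS.pgrp h.le
  · have h3 := (H1.bar_le_iff hSX).1 h2
    have h4 : H1.unbar X (od X) Y < X := lt_of_le_of_ne (H1.unbar_le Y) fun e => h1 (by
      rw [← H1.bar_unbar Y, e, H1.bar_top])
    rw [← H1.bar_unbar Y]
    exact b4.le_norm hS h3 h4.le h.le (vc h) (ih _ h4 (ne_top_of_lt h4) h3)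
  · have h1 : S ≤ 𝐍(jj S) :=
      (le_norm_self S).trans (H5.normalizer_le_normalizer_thompsonSubgroupOf S)
    rw [jj_br hS.pgrp hSX, norm_br (hS.pgrp.to_le hJ) (hJ.trans hSX)]
    exact b4.le_norm hS (le_inf hSX h1) inf_le_left h.le (vc h) ((hG.scl_jj h).mono inf_le_right)

theorem norm_le : 𝐍(S) ≤ 𝐍(V) :=
  (le_inf le_rfl le_rfl).trans ((hG.top h _ (hG.nrm S h.syl.pgrp (ne_bot_of_le_ne_bot h.ne h.le))
    (le_norm_self S)).norm_le le_rfl h.le)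

theorem fb {n : ℕ} (ha : ∀ T ≤ S, n < 𝐨(T) → ∀ g ∈ (⊤ : Subgroup G), T ^ᵍ g ≤ S → RelM 𝐍(V) T g)
    (m : ℕ) : ∀ X : Subgroup G, 𝐨(S) - 𝐨(S ⊓ X) = m → X ≠ ⊤ → IsSyl 2 (S ⊓ X) X →
      n ≤ 𝐨(S ⊓ X) → SCl X (S ⊓ X) (V ⊓ (S ⊓ X)) := by
  induction m using Nat.strong_induction_on with
  | h m ih =>
  intro X hm hX hT hn
  by_cases h0 : S ⊓ X = ⊥
  · rw [h0, inf_bot_eq]
    exact SCl.of_norm (le_top.trans (normalizer_eq_top ⊥).ge)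
  by_cases h1 : S ≤ X
  · exact (hG.top h X hX h1).inf inf_le_left
  have h2 : S ⊓ X < S := lt_of_le_of_ne inf_le_left fun e => h1 (inf_eq_left.1 e)
  have h3 := h.card_lt h2
  generalize S ⊓ X = T at hm hT hn h0 h2 h3
  obtain ⟨B, b1, b2, b3, b4⟩ := hG.con hX hT
  have hH := hT.of_le b3 inf_le_left
  have hc : V ⊓ T ≤ 𝐂(V ⊓ T) := inf_le_left.trans ((vc h).trans (cent_anti inf_le_left))
  refine (b2.ctrl hT b1).scl inf_le_right ?_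
  have hHX : X ⊓ 𝐍(B) ≠ ⊤ := ne_top_of_le_ne_top hX inf_le_left
  generalize X ⊓ 𝐍(B) = H at b3 b4 hH hHX
  have key : ∀ K ≤ T, K ≠ ⊥ → 𝐍(T) ≤ 𝐍(K) → br H (H ⊓ 𝐍(K)) ≤ 𝐍(br H (V ⊓ T)) := by
    intro K k1 k2 k3
    have k4 : T ≤ S ⊓ 𝐍(T) := le_inf h2.le (le_norm_self _)
    obtain ⟨g, -, g1, g2⟩ := exists_ext h.syl le_top (h.syl.pgrp.to_le inf_le_left)
      (inf_le_right.trans k3 : S ⊓ 𝐍(T) ≤ 𝐍(K))
    have g3 : Rel V (S ⊓ 𝐍(T)) g := ha _ inf_le_left (by omega) g (mem_top g) g1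
    have g4 : (S ⊓ 𝐍(T)) ^ᵍ g ≤ S ⊓ 𝐍(K) ^ᵍ g :=
      le_inf g1 (conj_mono (inf_le_right.trans k3) g)
    have g5 := (card_conj _ g).ge.trans (card_le_of_le g4)
    have g6 : 𝐨(S ⊓ 𝐍(K) ^ᵍ g) ≤ 𝐨(S) := card_le_of_le inf_le_left
    have g7 := ih _ (by omega) _ rfl
      (fun e => hG.nrm K (hT.pgrp.to_le k1) k2 (conj_eq_top_iff.1 e)) g2 (by omega)
    refine b4.le_norm hH (le_inf b3 ((le_norm_self T).trans k3)) inf_le_left inf_le_right hc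
      fun v hv x hx e => ⟨(g3.mem_iff (k4 e)).1 ?_, e⟩
    have := g7 _ ⟨(g3.mem_iff (k4 hv.2)).2 hv.1, g4 (conj_mem_conj (k4 hv.2) g)⟩ _
      (conj_mem_conj hx.2 g) (by
        convert g4 (conj_mem_conj (k4 e) g) using 1; group)
    convert (mem_inf.1 this).1 using 1; group
  exact SCl.of_nm ((nm_iff (inf_le_right.trans b3)).2 ((hG.tf hHX b4 hH).trans (sup_le
    (key _ (oz_le _) (oz_ne_bot hT.pgrp h0) (norm_le_norm_oz _))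
    (key _ (H5.thompsonSubgroupOf_le _) (H5.thompsonSubgroupOf_ne_bot hT.pgrp h0)
      (H5.normalizer_le_normalizer_thompsonSubgroupOf _))))) (inf_le_right.trans b3) hT.pgrp
    inf_le_right

theorem ctrl : Ctrl ⊤ S 𝐍(V) := by
  refine alperin h.syl (inf_le_right.trans (hG.norm_le h)) fun T hT hs ha x hx => ?_
  by_cases h0 : T = ⊥
  · exact ⟨1, one_mem _, fun t ht => by rw [h0, mem_bot] at ht; simp [ht]⟩
  rw [top_inf_eq] at hs hx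
  have k4 : T ≤ S ⊓ 𝐍(T) := le_inf hT.le (le_norm_self _)
  have h1 := hG.fb h ha _ _ rfl (hG.nrm T (h.syl.pgrp.to_le hT.le) h0) hs (card_le_of_le k4)
  obtain ⟨m, hm, e⟩ := h1.ctrl hs inf_le_right
    (inf_le_left.trans ((vc h).trans (cent_anti inf_le_left))) T k4 x hx
    (by rwa [conj_eq_of_mem_norm hx])
  rw [← inf_assoc, inf_eq_left.2 h.le] at hm
  by_cases h2 : V ⊓ 𝐍(T) ≤ T
  · refine ⟨m, ?_, e⟩
    have h3 : V ≤ T := by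
      by_contra h3
      have h4 := lt_inf_norm_of_isNilpotent (isNilpotent_of_isPGroup Nat.prime_two
        (h.syl.pgrp.to_le (sup_le h.le hT.le))) (right_lt_sup.2 h3)
      rw [sup_inf_of_le_right (hT.le.trans h.nrm) (le_norm_self T), sup_eq_right.2 h2] at h4
      exact h4.false
    have := hm.2
    rwa [inf_eq_left.2 (h3.trans (le_norm_self T))] at this
  · have h3 : (V ⊓ 𝐍(T)) ⊔ T ≤ S := sup_le (inf_le_left.trans h.le) hT.le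
    obtain ⟨m', hm', e'⟩ := ha _ h3 (H1.card_lt_of_lt (right_lt_sup.2 h2)) m (mem_top m) (by
      rwa [conj_sup, conj_eq_of_mem_norm hm.1, conj_eq_of_mem_norm hm.2])
    exact ⟨m', hm', fun t ht => (e t ht).trans (e' t (mem_sup_right ht))⟩

end Lc

theorem aGen (mono : ∀ m n, K n → m ≤ n → K m) (hN : NS.{u} K) (hP : PS.{u} K) (G : Type u)
    [Group G] [Finite G] (h3 : I3 G) (hk : K (Nat.card G)) (h2 : 2 ∣ Nat.card G) :
    ∃ A : Subgroup G, IsElementaryAbelian 2 A ∧ A ≠ ⊥ ∧ SC ⊤ A := by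
  suffices ∀ n, K n → AH.{u} (n + 1) from this _ hk G (Nat.lt_succ_self _) h3 h2
  clear h3 hk h2
  intro n
  induction n using Nat.strong_induction_on with
  | h n ih =>
  intro hk G _ _ hn h3 h2
  by_cases c : ∀ K : Subgroup G, IsPGroup 2 K → K ≠ ⊥ → 𝐍(K) ≠ ⊤
  · have hG : Lc K G := ⟨mono, hN, hP, h3, mono _ _ hk (by omega), fun M _ _ a =>
      ih (Nat.card M) (by omega) (mono _ _ hk (by omega)) M (Nat.lt_succ_self _), c⟩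
    obtain ⟨S, hS⟩ := exists_isSyl Nat.prime_two (⊤ : Subgroup G)
    obtain ⟨V, h⟩ := exists_VV hS (hS.ne_bot Nat.prime_two (by rwa [card_top]))
    exact ⟨V, h.el, h.ne, ((hG.ctrl h).scl h.le (SCl.of_norm le_rfl)).sc hS h.le⟩
  · push Not at c
    obtain ⟨K, k1, k2, k3⟩ := c
    exact ⟨oz K, elemAb_oz K, oz_ne_bot k1 k2, fun P _ _ _ a ha g _ _ =>
      (mem_normalizer_iff.1 (norm_le_norm_oz K (k3 ▸ mem_top g)) a).1 ha⟩

end Cfsg.Agent.P18.A
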