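/-
P18: finite simple groups without real elements of order 3.  Interface (see plans/P18.md).
-/
import Cfsg.Agent.P18.A0
import Cfsg.Agent.P14.B4
import Cfsg.Agent.P7.Final

set_option autoImplicit false
set_option linter.unusedSectionVars false

namespace Cfsg.Agent.P18

open Subgroup Cfsg Cfsg.Agent Cfsg.Agent.FT
open Cfsg.Agent.P14 (SC SzT)
open Cfsg.Agent.P14.St (I3)
open Cfsg.Agent.H2 (CompIn)
open Cfsg.Agent.H2.ZC (oc)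
open Cfsg.Agent.H7.SC (od br)
open scoped commutatorElement

universe u

/-- The theorem holds below order `n`. -/
def K3 (n : ℕ) : Prop := ∀ (L : Type u) [Group L] [Finite L], Nat.card L < n → I3 L →
  IsSimpleGroup L → ¬ IsMulCommutative L →
  ¬ 3 ∣ Nat.card L ∨ ∃ f : ℕ, P7.IsL2 (⊤ : Subgroup L) (3 ^ (2 * f + 1))

theorem K3.mono {m n : ℕ} (h : K3.{u} n) (hm : m ≤ n) : K3.{u} m :=
  fun L _ _ a => h L (a.trans_le hm)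

variable {G : Type u} [Group G] [Finite G]

/-- `K / Z(K) ≅ PSL₂(3 ^ odd)` and `T` is a Sylow 2-subgroup of `K`. -/
structure L2T (K T : Subgroup G) : Prop where
  qs : IsQuasisimple K
  syl : IsSyl 2 T K
  card : 𝐂(K).relIndex T = 4
  sq : ∀ x ∈ T, x * x ∈ 𝐂(K)
  inner : ∀ x ∈ 𝐍(K), (∃ k : ℕ, x ^ 2 ^ k ∈ 𝐂(K)) → x ∈ K ⊔ 𝐂(K)
  tri : ∃ d ∈ K ⊓ 𝐍(T), (∃ j : ℕ, d ^ 3 ^ j = 1) ∧ ∀ s ∈ T, ⁅d, s⁆ ∈ 𝐂(K) → s ∈ 𝐂(K)
  tor : ∀ s ∈ T, s ∉ 𝐂(K) → ∃ y ∈ K, y ∉ 𝐂(K) ∧ Odd (orderOf y) ∧ ⁅s, y⁆ ∈ 𝐂(K) ∧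
    ∀ u ∈ T, u ∉ 𝐂(K) → s * u ∉ 𝐂(K) → u * y * u⁻¹ * y ∈ 𝐂(K)

/-- Chapter Z. -/
def ZStmt : Prop := ∀ (G : Type u) [Group G] [Finite G] (K T : Subgroup G), I3 G →
  IsQuasisimple K → IsPGroup 2 (K ⊓ 𝐂(K) : Subgroup G) → K3.{u} (𝐂(K).relIndex K + 1) →
  IsSyl 2 T K → (¬ 3 ∣ 𝐨(K) ∧ ∃ Zh n r, SzT K T Zh n r) ∨ (3 ∣ 𝐨(K) ∧ L2T K T)

/-- Output of chapter B, input of chapter C. -/
structure CHyp (A W : Subgroup G) : Prop where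
  el : IsElementaryAbelian 2 A
  four : 4 ≤ 𝐨(A)
  sc : SC ⊤ A
  odd : Odd 𝐨(W)
  nrm : 𝐍(A) ≤ 𝐍(W)
  ne : W ⊔ 𝐍(A) ≠ ⊤
  cent : ∀ a ∈ A, a ≠ 1 → 𝐂[a] ≤ W ⊔ 𝐍(A)

/-- A minimal strongly closed elementary abelian subgroup of a minimal counterexample. -/
structure Gl (A S : Subgroup G) : Prop where
  z : ZStmt.{u}
  sim : IsSimpleGroup G
  nc : ¬ IsMulCommutative G
  i3 : I3 G
  k3 : K3.{u} (Nat.card G)
  el : IsElementaryAbelian 2 A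
  ne : A ≠ ⊥
  sc : SC ⊤ A
  irr : ∀ U ≤ A, 𝐍(A) ≤ 𝐍(U) → U = ⊥ ∨ U = A
  nf : ∀ B ≤ 𝐍(A), IsPGroup 2 B → H2.NF B A
  syl : IsSyl 2 S ⊤
  le : A ≤ S

/-- `A` moves a component of type `PSL₂(3 ^ odd)` of `X / O(X)`. -/
def Act (A X : Subgroup G) : Prop := ∃ K : Subgroup (X ⧸ (od X).subgroupOf X),
  CompIn ⊤ K ∧ ¬ br X A ≤ 𝐂(K) ∧ 3 ∣ 𝐨(K)

/-- The subgroup generated by the squares (the Frattini subgroup of a 2-group). -/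
def sqs (S : Subgroup G) : Subgroup G := closure {y | ∃ x ∈ S, x * x = y}

/-- Chapter B0 (active linear components). -/
def B0Stmt : Prop := ∀ (G : Type u) [Group G] [Finite G] (A S : Subgroup G), Gl A S →
  ∀ a ∈ A, a ≠ 1 → Act A 𝐂[a] → S ≤ 𝐂(A) ∧ A ⊓ sqs S = ⊥

/-- Chapter B1 (port of P14/B). -/
def B1Stmt : Prop := ∀ (G : Type u) [Group G] [Finite G] (A S : Subgroup G), Gl A S →
  (∀ a ∈ A, a ≠ 1 → ¬ Act A 𝐂[a]) → 8 ≤ 𝐨(A) → ∃ W, CHyp A W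

/-- Chapter B2 (port of `P14.Lo.gen` when there are no blocks). -/
def B2Stmt : Prop := ∀ (G : Type u) [Group G] [Finite G] (A S : Subgroup G), Gl A S → 𝐨(A) ≤ 4 →
  ∀ X : Subgroup G, X ≠ ⊤ → A ≤ X → ¬ Act A X → X ≤ od X ⊔ X ⊓ 𝐍(A)

/-- Chapter B4 (four-groups). -/
def B4Stmt : Prop := ∀ (G : Type u) [Group G] [Finite G] (A S : Subgroup G), Gl A S → 𝐨(A) ≤ 4 →
  A ≤ sqs S → ∃ W, CHyp A W

/-- Chapter B. -/
def BStmt : Prop := ∀ (G : Type u) [Group G] [Finite G], IsSimpleGroup G → ¬ IsMulCommutative G →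
  I3 G → K3.{u} (Nat.card G) →
  (∃ A W : Subgroup G, CHyp A W) ∨ ∀ P : Subgroup G, IsPGroup 2 P → IsMulCommutative P

/-- Chapter C. -/
def CStmt : Prop := ∀ (G : Type u) [Group G] [Finite G], IsSimpleGroup G → I3 G →
  K3.{u} (Nat.card G) → ∀ A W : Subgroup G, CHyp A W → ¬ 3 ∣ Nat.card G

/-- Chapter W. -/
def WStmt : Prop := ∀ (G : Type u) [Group G] [Finite G], IsSimpleGroup G → ¬ IsMulCommutative G →
  I3 G → (∀ P : Subgroup G, IsPGroup 2 P → IsMulCommutative P) →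
  ∃ f : ℕ, P7.IsL2 (⊤ : Subgroup G) (3 ^ (2 * f + 1))

theorem k3_all (hB : BStmt.{u}) (hC : CStmt.{u}) (hW : WStmt.{u}) (n : ℕ) : K3.{u} n := by
  induction n with
  | zero => exact fun _ _ _ h => absurd h (Nat.not_lt_zero _)
  | succ n ih =>
    intro L _ _ hn h3 hs na
    have kh := ih.mono (Nat.le_of_lt_succ hn)
    exact (hB L hs na h3 kh).imp (fun ⟨A, W, h⟩ => hC L hs h3 kh A W h) (hW L hs na h3)

end Cfsg.Agent.P18
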