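/-
P18, chapter N: subgroups `L₂(3 ^ n)` of groups without real elements of order three.
-/
import Cfsg.Agent.P14.N2
import Cfsg.Agent.P14.CB1
import Cfsg.Agent.P7.L2Main

set_option autoImplicit false
set_option linter.unusedSectionVars false

namespace Cfsg.Agent.P18.N

open Subgroup Cfsg Cfsg.Agent Cfsg.Agent.FT Cfsg.Agent.P14 Cfsg.Agent.P7 Cfsg.Agent.H4.SL2
open Cfsg.Agent.P14.St (I3)
open Cfsg.Agent.L (mkSL2)
open scoped commutatorElement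

universe u

variable {G : Type u} [Group G] [Finite G]

/-- A 2-element normalizing a 3-subgroup centralizes it. -/
theorem cent_of_two (h3 : I3 G) {Q : Subgroup G} (hQ : IsPGroup 3 Q) {k : ℕ} {u : G}
    (hu : u ∈ 𝐍(Q)) (h : u ^ 2 ^ k ∈ 𝐂(Q)) : u ∈ 𝐂(Q) := by
  induction k generalizing u with
  | zero => simpa using h
  | succ k ih =>
    have h1 := ih (mul_mem hu hu) (by rwa [← pow_two, ← pow_mul, ← pow_succ'])
    refine mem_cent.2 fun y hy => ?_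
    obtain ⟨j, hj⟩ := hQ ⟨y * (u * y * u⁻¹)⁻¹, mul_mem hy (inv_mem ((mem_normalizer_iff.1 hu y).1 hy))⟩
    have h2 := h3.pow (congrArg Subtype.val hj) (g := u) (by
      calc _ = u * y * u⁻¹ * (u * u * y * (u * u)⁻¹)⁻¹ := by group
        _ = _ := by rw [← mem_cent.1 h1 y hy]; group)
    rw [mul_inv_eq_one, eq_mul_inv_iff_mul_eq] at h2
    exact h2

variable {F : Type} [Field F] {π : SL F →* G} {L : Subgroup G} {n : ℕ}

theorem syl_PU (h : Cov π L) (hq : Nat.card F = 3 ^ n) (h8 : 3 ^ n % 8 = 3 ∨ 3 ^ n % 8 = 5) :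
    IsSyl 3 (PU π) L := by
  obtain ⟨k, l, e⟩ := exists_ep h8
  have h1 := card_mul_relIndex' h.PU_le
  rw [h.cardL hq e, h.card_PU, hq, mul_comm] at h1
  have h2 := Nat.eq_of_mul_eq_mul_right (by positivity) h1
  refine ⟨h.PU_le, IsPGroup.of_card (h.card_PU.trans hq), h2 ▸ fun hd => ?_⟩
  have h3 : 3 ∣ 3 ^ n := dvd_pow_self 3 (by rintro rfl; omega)
  exact Nat.prime_three.one_lt.ne' (Nat.eq_one_of_dvd_coprimes (e.cop_qk.mul_right e.cop_ql) h3 hd)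

theorem cent_of_norm_PU (h3 : I3 G) (h : Cov π L) (hq : Nat.card F = 3 ^ n)
    (h8 : 3 ^ n % 8 = 3 ∨ 3 ^ n % 8 = 5) (h5 : 5 ≤ 3 ^ n) {u : G} {k : ℕ} (hu : u ^ 2 ^ k = 1)
    (uL : u ∈ 𝐍(L)) (uP : u ∈ 𝐍(PU π)) : u ∈ 𝐂(L) := by
  have hP := syl_PU h hq h8
  have two : ∀ g, u ∈ 𝐍(PU π ^ᵍ g) → PU π ^ᵍ g ≤ 𝐂[u] := fun g hg =>
    mem_cent_iff_cent1.1 (cent_of_two h3 (hP.conj g).pgrp hg (k := k) (hu ▸ one_mem _))
  have uC := two 1 (by rwa [conj_one])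
  rw [conj_one] at uC
  let w : SL F := mkSL2 0 1 (-1) 0 (by ring)
  have w0 : w 0 0 = 0 := rfl
  have w1 : w 1 1 = 0 := rfl
  have br : ∀ g ∈ L, PU π ^ᵍ g = PU π ∨ ∃ a ∈ PU π, PU π ^ᵍ g = PU π ^ᵍ π w ^ᵍ a := fun g hg => by
    by_cases hn : g ∈ 𝐍(PU π)
    · exact Or.inl (conj_eq_of_mem_norm hn)
    obtain ⟨a, ha, d, hd, v, hv, rfl⟩ := h.bruhat w0 w1 hg hn
    refine Or.inr ⟨a, ha, ?_⟩
    rw [← conj_conj, conj_eq_of_mem hv, ← conj_conj, ← conj_conj,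
      conj_eq_of_mem_norm ((h.opp w0 w1).ge hd).2]
  have hw : u ∈ 𝐍(PU π ^ᵍ π w) := by
    obtain ⟨g, hg, e⟩ := ((hP.conj_of_mem_norm (le_norm_self L (h.mem w))).conj_of_mem_norm
      uL).exists_conj_eq Nat.prime_three hP
    rcases br g hg with e1 | ⟨a, ha, e1⟩
    · have h1 := h.mem_norm_PU.1 (conj_eq_self_iff.1 (conj_inj.1
        (e.symm.trans (e1.trans (conj_eq_of_mem_norm uP).symm))))
      exact absurd (show (-1 : F) = 0 from h1) (by simp)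
    · have h1 : a⁻¹ * u ∈ 𝐍(PU π ^ᵍ π w) := by
        rw [← conj_eq_self_iff, ← conj_conj, ← e, e1, conj_conj_inv]
      obtain ⟨j, hj⟩ := hP.pgrp ⟨a, ha⟩
      have h2 := pow_mem h1 (3 ^ j)
      rw [(show Commute a⁻¹ u from (mem_cent1.1 (uC (inv_mem ha))).symm).mul_pow, inv_pow,
        show a ^ 3 ^ j = 1 from congrArg Subtype.val hj, inv_one, one_mul] at h2
      exact zpowers_le.2 h2 (mem_zpowers_pow_iff.2 (Nat.Coprime.coprime_dvd_right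
        (orderOf_dvd_of_pow_eq_one hu) (Nat.Coprime.pow _ _ (by norm_num))))
  have hW : N.W (PU π) L ≤ 𝐂[u] := N.W_le fun g hg => by
    rcases br g hg with e1 | ⟨a, ha, e1⟩
    · exact e1.le.trans uC
    · rw [e1, conj_le_iff, conj_eq_of_mem (inv_mem (uC ha))]
      exact two _ hw
  refine mem_cent_iff_cent1.2 (((h.simple (by omega) (N.W (PU π) L) ⟨N.W_le fun g hg =>
    (hP.conj_of_mem_norm (le_norm_self L hg)).le, fun g hg => mem_norm_of_conj_le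
      (conj_le_iff.2 (N.W_le fun d hd => conj_le_iff.1 ?_))⟩).resolve_left fun e => ?_).ge.trans hW)
  · rw [conj_conj]
    exact N.le_W _ (mul_mem hg hd)
  · have h1 := (N.le_W (PU π) (one_mem L)).trans e.le
    rw [conj_one, le_bot_iff] at h1
    have h2 := h.card_PU
    rw [h1, card_bot, hq] at h2
    omega

/-- 2-elements act as inner automorphisms. -/
theorem inner (h3 : I3 G) (h : Cov π L) (hq : Nat.card F = 3 ^ n)
    (h8 : 3 ^ n % 8 = 3 ∨ 3 ^ n % 8 = 5) (h5 : 5 ≤ 3 ^ n) {x : G} (hx : x ∈ 𝐍(L)) {k : ℕ}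
    (hk : x ^ 2 ^ k ∈ L ⊔ 𝐂(L)) : x ∈ L ⊔ 𝐂(L) := by
  have nC : 𝐍(L) ≤ 𝐍(L ⊔ 𝐂(L)) := H1.le_normalizer_sup le_rfl (H1.le_normalizer_centralizer le_rfl)
  have hM : L ⊔ zpowers x ≤ 𝐍(L) := sup_le (le_norm_self L) (zpowers_le.2 hx)
  have h1 := (syl_PU h hq h8).frattini Nat.prime_three (M := L ⊔ zpowers x) ⟨le_sup_left, hM⟩
  obtain ⟨R, hR⟩ := exists_isSyl Nat.prime_two ((L ⊔ zpowers x) ⊓ 𝐍(PU π))
  have h2 := H7.SC.le_sup_syl (inf_le_left.trans (hM.trans nC)) hR fun y hy => ⟨k, by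
    haveI := H1.normal_subgroupOf_of_le nC
    obtain ⟨a, ha, _, ⟨j, rfl⟩, rfl⟩ := (mem_sup_of_norm (zpowers_le.2 hx)).1 hy.1
    have h4 : H1.qmk 𝐍(L) (L ⊔ 𝐂(L)) ⟨a, le_norm_self L ha⟩ = 1 :=
      H1.qmk_eq_one_iff.2 (mem_sup_left ha)
    have h5 : H1.qmk 𝐍(L) (L ⊔ 𝐂(L)) (⟨x, hx⟩ ^ 2 ^ k) = 1 := H1.qmk_eq_one_iff.2 hk
    refine (H1.qmk_eq_one_iff (N := L ⊔ 𝐂(L))
      (y := (⟨a, le_norm_self L ha⟩ * ⟨x, hx⟩ ^ j : 𝐍(L)) ^ 2 ^ k)).1 ?_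
    rw [map_pow, map_mul, h4, one_mul, map_zpow, ← zpow_natCast, ← zpow_mul, mul_comm, zpow_mul,
      zpow_natCast, ← map_pow, h5, one_zpow]⟩
  refine (h1.ge.trans (sup_le le_sup_left (h2.trans (sup_le (fun u hu => mem_sup_right ?_) le_rfl))))
    (mem_sup_right (mem_zpowers x))
  obtain ⟨j, hj⟩ := hR.pgrp ⟨u, hu⟩
  exact cent_of_norm_PU h3 h hq h8 h5 (congrArg Subtype.val hj) (hM (hR.le hu).1) (hR.le hu).2

/-- An element of odd prime order inverted by `s` and inverted or centralized by `D`. -/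
theorem l2_inv (h : Cov π L) (hq : Nat.card F = 3 ^ n) (h8 : 3 ^ n % 8 = 3 ∨ 3 ^ n % 8 = 5)
    (h5 : 5 ≤ 3 ^ n) {D : Set G} (hD : ∀ a ∈ D, a ∈ L) (hc : ∀ a ∈ D, ∀ b ∈ D, Commute a b)
    (h2 : ∀ a ∈ D, a * a = 1) {s : G} (hs : s ∈ D) (s1 : s ≠ 1) :
    ∃ r y, r.Prime ∧ r ≠ 2 ∧ y ∈ L ∧ y ≠ 1 ∧ y ^ r = 1 ∧ s * y * s⁻¹ = y⁻¹ ∧
      ∀ a ∈ D, a * y * a⁻¹ = y ∨ a * y * a⁻¹ = y⁻¹ := by
  obtain ⟨k, l, e⟩ := exists_ep h8
  obtain ⟨j, jL, j1, js, jj, hj⟩ : ∃ j ∈ L, j ≠ 1 ∧ j ≠ s ∧ j * j = 1 ∧ ∀ a ∈ D, Commute a j := by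
    by_cases h1 : ∃ j ∈ D, j ≠ 1 ∧ j ≠ s
    · obtain ⟨j, a, b, c⟩ := h1
      exact ⟨j, hD j a, b, c, h2 j a, fun d hd => hc d hd j a⟩
    obtain ⟨x, rfl⟩ := h.exists_eq (hD s hs)
    obtain ⟨j, a, b, c, d, -⟩ := h.exists_inv s1 (h.tr_ne_of_invol s1 (h2 _ hs))
    refine ⟨j, a, fun e => c (e ▸ one_mem _), fun e => c (e ▸ h.self_mem x), b, fun z hz => ?_⟩
    by_cases z1 : z = 1
    · exact z1 ▸ Commute.one_left j
    obtain rfl : z = π x := by_contra fun e => h1 ⟨z, hz, z1, e⟩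
    have := d _ (h.self_mem x)
    rw [← eq_inv_of_mul_eq_one_left (h2 _ hs), mul_inv_eq_iff_eq_mul] at this
    exact this.symm
  obtain ⟨x, rfl⟩ := h.exists_eq jL
  obtain ⟨c1, c2⟩ := h.invol hq e j1 jj
  have k1 : k ≠ 1 := by
    rintro rfl
    have := dvd_pow_self 3 (show n ≠ 0 by rintro rfl; omega)
    have := e.eps
    omega
  obtain ⟨r, hr, hrk⟩ := Nat.exists_prime_and_dvd k1
  haveI := Fact.mk hr
  obtain ⟨⟨y, hy⟩, ho⟩ := exists_prime_orderOf_dvd_card' (G := Ab π x) r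
    (c2 ▸ hrk.mul_left 2)
  rw [← Subgroup.orderOf_coe] at ho
  have inv : ∀ a ∈ D, a ∉ Ab π x → a * y * a⁻¹ = y⁻¹ := fun a ha hn =>
    (h.dih j1 (h.tr_ne_of_invol j1 jj) (hD a ha) hn (h.self_mem x) j1 (by
      rw [(hj a ha).eq, mul_inv_cancel_right]; exact h.self_mem x)).2.1 y hy
  refine ⟨r, y, hr, ?_, h.Ab_le_L x hy, fun e => hr.one_lt.ne' (by rw [← ho]; simp [e]),
    ho ▸ pow_orderOf_eq_one y, inv s hs fun e => ?_, fun a ha => ?_⟩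
  · rintro rfl
    exact (Nat.not_even_iff_odd.2 e.oddk) (even_iff_two_dvd.2 hrk)
  · exact (eq_of_invol_cyclic c1 (h.self_mem x) j1 jj e (h2 s hs)).elim s1 (Ne.symm js)
  · by_cases hn : a ∈ Ab π x
    · exact Or.inl (by rw [(h.Ab_comm j1 hn hy).eq, mul_inv_cancel_right])
    · exact Or.inr (inv a ha hn)

end Cfsg.Agent.P18.N
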