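/-
P18, chapter B0: components moved by a strongly closed elementary abelian subgroup.
-/
import Cfsg.Agent.P18.Defs
import Cfsg.Agent.P18.N1

set_option autoImplicit false
set_option linter.unusedSectionVars false

namespace Cfsg.Agent.P18.B0

open Subgroup Cfsg Cfsg.Agent Cfsg.Agent.FT Cfsg.Agent.P14
open Cfsg.Agent.P14.St (I3)
open Cfsg.Agent.H2 (CompIn)
open Cfsg.Agent.H7.SC (od)
open scoped commutatorElement

universe u

variable {G : Type u} [Group G] [Finite G]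

theorem mem_of_pows {H : Subgroup G} {y : G} {m n : ℕ} (h : m.Coprime n)
    (h1 : y ^ m ∈ H) (h2 : y ^ n ∈ H) : y ∈ H := by
  have h3 := Nat.gcd_eq_gcd_ab m n
  rw [h.gcd_eq_one] at h3
  have h4 := mul_mem (zpow_mem h1 (m.gcdA n)) (zpow_mem h2 (m.gcdB n))
  rwa [← zpow_natCast, ← zpow_natCast, ← zpow_mul, ← zpow_mul, ← zpow_add, ← h3, Nat.cast_one,
    zpow_one] at h4

theorem mul_pow_mem {E : Subgroup G} {e n : G} (he : e ∈ E) (hn : n ∈ 𝐍(E)) (k : ℕ) :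
    (e * n) ^ k * (n ^ k)⁻¹ ∈ E := by
  induction k with
  | zero => simp
  | succ k ih =>
    have := mul_mem ih (cjm (pow_mem hn k) he)
    rwa [show (e * n) ^ k * (n ^ k)⁻¹ * (n ^ k * e * (n ^ k)⁻¹) =
      (e * n) ^ (k + 1) * (n ^ (k + 1))⁻¹ by rw [pow_succ, pow_succ]; group] at this

/-- 2-elements normalize the components of order divisible by three. -/
theorem norm3 (h3 : I3 G) {X K : Subgroup G} (hK : CompIn X K)
    (hz : IsPGroup 2 (K ⊓ 𝐂(K) : Subgroup G)) (hd : 3 ∣ 𝐨(K)) {g : G} (hg : g ∈ X) {k : ℕ}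
    (hk : g ^ 2 ^ k = 1) : g ∈ 𝐍(K) := by
  have hE : H2.layerOf X ⊲ X := ⟨H2.layerOf_le X, H2.le_normalizer_layerOf X⟩
  obtain ⟨Q, hQ⟩ := exists_isSyl Nat.prime_three (H2.layerOf X)
  have h1 := hQ.inf_normal Nat.prime_three ⟨hK.le_layerOf, hK.layerOf_le_normalizer⟩
  obtain ⟨⟨y, hy⟩, y1⟩ := ne_bot_iff_exists_ne_one.1 (h1.ne_bot Nat.prime_three hd)
  have y2 : y ∉ 𝐂(K) := fun e => by
    obtain ⟨i, hi⟩ := hQ.pgrp ⟨y, hy.1⟩
    obtain ⟨j, hj⟩ := pow_two_pow hz (x := y) ⟨hy.2, e⟩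
    exact y1 (Subtype.ext (eq_one_of hj ((Odd.pow (n := i) (by decide : Odd 3)).of_dvd_nat
      (orderOf_dvd_of_pow_eq_one (congrArg Subtype.val hi)))))
  rw [← hQ.frattini Nat.prime_three hE] at hg
  obtain ⟨e, he, n, hn, rfl⟩ := (mem_sup_of_norm (inf_le_left.trans hE.2)).1 hg
  refine mul_mem (hK.layerOf_le_normalizer he) ?_
  have a1 := mul_pow_mem he (hE.2 hn.1) (2 ^ k)
  rw [hk, one_mul, inv_mem_iff] at a1
  obtain ⟨j, hj⟩ := exists_odd_pow n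
  have a2 := N.cent_of_two h3 hQ.pgrp (k := j) (pow_mem hn.2 (orderOf (n ^ 2 ^ j))) (by
    rw [← pow_mul, mul_comm, pow_mul, pow_orderOf_eq_one]; exact one_mem _)
  refine mem_of_pows ((Nat.coprime_two_right.2 hj).pow_right k)
    (comp_norm hK (pow_mem hn.1 _) hy.2 ?_) (hK.layerOf_le_normalizer a1)
  rwa [← a2 y hy.1, mul_inv_cancel_right]

theorem comm_mul {d s c : G} (h : d * c = c * d) : ⁅d, s * c⁆ = ⁅d, s⁆ := by
  simp only [commutatorElement_def]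
  calc d * (s * c) * d⁻¹ * (s * c)⁻¹ = d * s * (c * d⁻¹ * c⁻¹) * s⁻¹ := by group
    _ = _ := by rw [← (show Commute d c from h).inv_left.eq, mul_inv_cancel_right]

theorem dec {K T : Subgroup G} (h : L2T K T) (hz : IsPGroup 2 (K ⊓ 𝐂(K) : Subgroup G)) {x : G}
    {k : ℕ} (hx : x ^ 2 ^ k = 1) (h1 : x ∈ 𝐍(K)) (h2 : x ∈ 𝐍(T)) :
    ∃ s ∈ T, ∃ c ∈ 𝐂(K), s * c = x := by
  obtain ⟨s, hs, c, hc, rfl⟩ := (mem_sup_of_norm (cent_le_norm K)).1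
    (h.inner x h1 ⟨k, hx ▸ one_mem _⟩)
  refine ⟨s, ?_, c, hc, rfl⟩
  have a1 : s ^ 2 ^ k ∈ 𝐂(K) := by
    rw [Commute.mul_pow (hc s hs), mul_eq_one_iff_eq_inv] at hx
    exact hx ▸ inv_mem (pow_mem hc _)
  obtain ⟨j, hj⟩ := pow_two_pow hz (x := s ^ 2 ^ k) ⟨pow_mem hs _, a1⟩
  rw [← pow_mul, ← pow_add] at hj
  refine zpowers_le.1 (h.syl.le_of_norm Nat.prime_two (two_zp hj) (zpowers_le.2 hs)
    (zpowers_le.2 ?_))
  simpa using mul_mem h2 (inv_mem (cent_le_norm T (cent_anti h.syl.le hc)))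

theorem v4_of {V : Subgroup G} (hV : IsElementaryAbelian 2 V) {d v : G} (hd : d ∈ 𝐍(V))
    (hv : v ∈ V) (h : ⁅d, v⁆ ≠ 1) : P5.V4 v (d * v * d⁻¹) := by
  have v1 : v ≠ 1 := by rintro rfl; simp at h
  have sq : ∀ x ∈ V, x * x = 1 := fun x hx => by rw [← pow_two]; exact hV.2 x hx
  exact ⟨v1, by simpa using v1, fun e => h (by rw [commutatorElement_def, ← e, mul_inv_cancel]),
    sq v hv, sq _ (cjm hd hv), isMulComm_iff_le_cent.1 hV.1 (cjm hd hv) v hv⟩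

/-- A component of type `L₂(3 ^ n)` moved by `A`. -/
theorem l2 (h3 : I3 G) {A S K : Subgroup G} (el : IsElementaryAbelian 2 A) (sc : SC ⊤ A)
    (hK : CompIn ⊤ K) (hz : IsPGroup 2 (K ⊓ 𝐂(K) : Subgroup G)) (hd : 3 ∣ 𝐨(K))
    (hS : IsSyl 2 S ⊤) (hA : A ≤ S) (z : L2T K (S ⊓ K)) (act : ¬ A ≤ 𝐂(K)) :
    ∃ (V : Subgroup G) (d : G), V ≤ A ∧ V ≤ K ∧ V ⊓ 𝐂(K) = ⊥ ∧ 𝐨(V) = 4 ∧ d ∈ K ∧ d ∈ 𝐍(A) ∧
      (∃ j : ℕ, d ^ 3 ^ j = 1) ∧ (∀ a ∈ A, ⁅d, a⁆ ∈ V) ∧ (∀ a ∈ A, ⁅d, a⁆ = 1 → a ∈ 𝐂(K)) ∧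
      ∀ g ∈ 𝐍(A), ∀ k : ℕ, g ^ 2 ^ k = 1 → ∃ v ∈ V, v⁻¹ * g ∈ 𝐂(K) := by
  have pA := elemAb_isPGroup el
  have nK : A ≤ 𝐍(K) := fun a ha => norm3 h3 hK hz hd (mem_top a) (k := 1) (el.2 a ha)
  have nT : A ≤ 𝐍(S ⊓ K) := H1.le_normalizer_inf (hA.trans (le_norm_self S)) nK
  have dc : ∀ a ∈ A, ∃ s ∈ S ⊓ K, ∃ c ∈ 𝐂(K), s * c = a := fun a ha =>
    dec z hz (k := 1) (el.2 a ha) (nK ha) (nT ha)
  obtain ⟨d, hd1, ⟨j, hj⟩, fp⟩ := z.tri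
  have a1 : d ∈ 𝐍(A) := mem_norm_of_conj_le fun x hx => by
    obtain ⟨a, ha, rfl⟩ := mem_conj'.1 hx
    refine sc S le_top hS.pgrp hA a ha d trivial ?_
    obtain ⟨s, hs, c, hc, rfl⟩ := dc a ha
    have := mul_mem (cmr hd1.2 hs).1 (hA ha)
    rwa [← comm_mul (hc d hd1.1), commutatorElement_def, inv_mul_cancel_right] at this
  have fix : ∀ a ∈ A, ⁅d, a⁆ = 1 → a ∈ 𝐂(K) := fun a ha e => by
    obtain ⟨s, hs, c, hc, rfl⟩ := dc a ha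
    rw [comm_mul (hc d hd1.1)] at e
    exact mul_mem (fp s hs (e ▸ one_mem _)) hc
  have cop : 𝐨(zpowers d).Coprime 𝐨(A) := H1.coprime_card_of_isPGroup pA (by
    rw [Nat.card_zpowers]
    exact Nat.coprime_two_right.2 ((Odd.pow (n := j) (by decide : Odd 3)).of_dvd_nat
      (orderOf_dvd_of_pow_eq_one hj)))
  have d4 := H1.centralizer_inf_commutator_eq_bot el.1 (zpowers_le.2 a1) cop
  have d5 := H1.commutator_sup_centralizer (zpowers_le.2 a1) cop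
    (Or.inr (H1.isSolvable_of_isPGroup pA))
  have DK : zpowers d ≤ K := zpowers_le.2 hd1.1
  have v1 : ⁅A, zpowers d⁆ ≤ A := comm_le_left_iff.2 (zpowers_le.2 a1)
  have v2 : ⁅A, zpowers d⁆ ≤ K := (commutator_mono nK DK).trans (comm_le_right_iff.2 le_rfl)
  have v3 : ⁅A, zpowers d⁆ ⊓ 𝐂(K) = ⊥ := eq_bot_iff.2
    ((le_inf (inf_le_right.trans (cent_anti DK)) inf_le_left).trans d4.le)
  have v4 : ¬ ⁅A, zpowers d⁆ ≤ ⊥ := fun e => act fun a ha => fix a ha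
    (commutatorElement_eq_one_iff_mul_comm.2
      ((d5.ge.trans (sup_le (e.trans bot_le) inf_le_right)) ha d (mem_zpowers d)))
  have v5 : d ∈ 𝐍(⁅A, zpowers d⁆) := H1.le_normalizer_commutator_self (mem_zpowers d)
  have v6 : ∀ a ∈ A, ⁅d, a⁆ ∈ ⁅A, zpowers d⁆ := fun a ha => by
    simpa using inv_mem (commutator_mem_commutator ha (mem_zpowers d))
  generalize ⁅A, zpowers d⁆ = V at v1 v2 v3 v4 v5 v6
  have VT : V ≤ S ⊓ K := le_inf (v1.trans hA) v2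
  have nC : K ≤ 𝐍(𝐂(K)) := (le_norm_self K).trans norm_cent
  have c1 : 𝐂(K).relIndex V = 𝐨(V) := by rw [← inf_relIndex_left, v3, relIndex_bot_left]
  have c2 : 𝐨(V) = 4 := by
    refine le_antisymm (c1 ▸ z.card ▸ relIndex_le_of_le_right VT (H2.relIndex_pos _ _).ne') ?_
    obtain ⟨v, hv, hv'⟩ := SetLike.not_le_iff_exists.1 v4
    have w := v4_of (elemAb_of_le v1 el) v5 hv fun e => hv' (v3.le ⟨hv, fix v (v1 hv) e⟩)
    exact w.card ▸ card_le_of_le (P5.V4.le_iff.2 ⟨hv, cjm v5 hv⟩)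
  have c3 : S ⊓ K ≤ V ⊔ 𝐂(K) := by
    have e := relIndex_mul_relIndex 𝐂(K) (V ⊔ 𝐂(K)) (S ⊓ K ⊔ 𝐂(K)) le_sup_right
      (sup_le_sup_right VT _)
    rw [H1.relIndex_sup_of_le_normalizer (v2.trans nC), c1, c2,
      H1.relIndex_sup_of_le_normalizer (inf_le_right.trans nC), z.card] at e
    exact le_sup_left.trans (relIndex_eq_one.1
      (Nat.eq_of_mul_eq_mul_left four_pos (e.trans (mul_one 4).symm)))
  have c4 : S ⊓ K = A ⊓ K ⊔ K ⊓ 𝐂(K) := by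
    refine le_antisymm (fun t ht => ?_) (sup_le (inf_le_inf_right K hA)
      (z.syl.le_of_le_norm Nat.prime_two hz inf_le_left
        (inf_le_right.trans (H1.le_normalizer_inf (le_norm_self K) nC))))
    obtain ⟨v, hv, c, hc, rfl⟩ := (mem_sup_of_norm' (v2.trans nC)).1 (sup_comm V _ ▸ c3 ht)
    exact mul_mem (mem_sup_left ⟨v1 hv, v2 hv⟩)
      (mem_sup_right ⟨(mul_mem_cancel_left (v2 hv)).1 ht.2, hc⟩)
  refine ⟨V, d, v1, v2, v3, c2, hd1.1, a1, ⟨j, hj⟩, v6, fix, fun g hg k hk => ?_⟩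
  have g1 := norm3 h3 hK hz hd (mem_top g) hk
  have g2 : 𝐍(A) ⊓ 𝐍(K) ≤ 𝐍(S ⊓ K) := c4 ▸ H1.le_normalizer_sup
    (H1.le_normalizer_inf inf_le_left inf_le_right)
    (inf_le_right.trans (H1.le_normalizer_inf le_rfl norm_cent))
  obtain ⟨s, hs, c, hc, rfl⟩ := dec z hz hk g1 (g2 ⟨hg, g1⟩)
  obtain ⟨v, hv, c', hc', rfl⟩ := (mem_sup_of_norm' (v2.trans nC)).1 (sup_comm V _ ▸ c3 hs)
  exact ⟨v, hv, by rw [mul_assoc, inv_mul_cancel_left]; exact mul_mem hc' hc⟩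

/-- A Suzuki component moved by `A` produces squares in `A`. -/
theorem sz {A S K Zh : Subgroup G} {n r : ℕ} (el : IsElementaryAbelian 2 A) (sc : SC ⊤ A)
    (hK : CompIn ⊤ K) (hS : IsSyl 2 S ⊤) (hA : A ≤ S) (nf : H2.NF S A) (z : SzT K (S ⊓ K) Zh n r)
    (hq : ∀ x ∈ S ⊓ 𝐂(A), ∀ y ∈ S ⊓ 𝐂(A), x * x * (y * y) ∈ A → x * x * (y * y) = 1) :
    A ≤ 𝐂(K) := by
  by_contra act
  have sq : ∀ {a}, a ∈ A → a * a = 1 := fun ha => by rw [← pow_two]; exact el.2 _ ha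
  have nK : A ≤ 𝐍(K) := fun a ha => by
    by_contra hn
    refine z.not_le fun s hs => (z.zh s).2 ⟨hs, ?_⟩
    have a1 : a * s * a⁻¹ ∈ 𝐂(K) := by
      by_contra e
      exact hn (comp_norm hK (mem_top a) hs.2 e)
    have a2 := sq (cml (sc.le_norm le_top hS.pgrp hA hs.1) ha)
    rw [commutatorElement_def, ← pow_two, Commute.mul_pow (a1 _ (inv_mem hs.2)).symm, inv_pow,
      mul_inv_eq_one] at a2
    rw [← pow_two, ← a2]
    exact pow_mem a1 2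
  have nT : A ≤ 𝐍(S ⊓ K) := H1.le_normalizer_inf (hA.trans (le_norm_self S)) nK
  have TS : S ⊓ K ≤ S := inf_le_left
  generalize S ⊓ K = T at z nT TS
  have dc : ∀ a ∈ A, ∃ s ∈ Zh, ∃ c ∈ 𝐂(K), s * c = a := fun a ha =>
    z.dec2 (sq ha) (nK ha) (nT ha)
  have cj : ∀ d ∈ K, ∀ s, ∀ c ∈ 𝐂(K), d * (s * c) * d⁻¹ = d * s * d⁻¹ * c := fun d hd s c hc => by
    rw [mul_assoc (d * s), hc _ (inv_mem hd)]; group
  have a1 : K ⊓ 𝐍(T) ≤ 𝐍(A) := fun d hd => mem_norm_of_conj_le fun x hx => by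
    obtain ⟨a, ha, rfl⟩ := mem_conj'.1 hx
    refine sc S le_top hS.pgrp hA a ha d trivial ?_
    obtain ⟨s, hs, c, hc, rfl⟩ := dc a ha
    have := mul_mem (TS (cmr hd.2 (z.zle hs))) (hA ha)
    rwa [cj d hd.1 s c hc, ← inv_mul_cancel_left s c, ← mul_assoc]
  have a2 : Zh ≤ 𝐂(A) := cent_comm.1 fun a ha =>
    mem_cent_iff_cent1.2 (z.zh_cent (sq ha) (nK ha) (nT ha))
  have a3 : A ≤ Zh ⊔ 𝐂(K) := fun a ha => by
    obtain ⟨s, hs, c, hc, rfl⟩ := dc a ha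
    exact mul_mem (mem_sup_left hs) (mem_sup_right hc)
  have nC : K ≤ 𝐍(𝐂(K)) := (le_norm_self K).trans norm_cent
  have a4 : T ≤ 𝐂(A) := by
    refine (z.eq_or a2 (H1.le_normalizer_centralizer a1)).resolve_left fun e => ?_
    have b1 := nf T TS (z.der_le_zh.trans a2) fun x hx => a2 (by rw [pow_two]; exact z.sq x hx)
    have b2 : 𝐂(A).relIndex T = 2 ^ n := by
      rw [← inf_relIndex_left, le_antisymm e (le_inf z.zle a2), z.cardT]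
    have b3 : 𝐂(T).relIndex A ≤ 2 ^ n := by
      refine (relIndex_le_of_le_left (cent_anti z.le) (H2.relIndex_pos _ _).ne').trans
        ((relIndex_le_of_le_right a3 (H2.relIndex_pos _ _).ne').trans ?_)
      rw [H1.relIndex_sup_of_le_normalizer ((z.zle.trans z.le).trans nC), z.cardZ]
    have := z.one_lt
    rw [b2] at b1
    nlinarith
  obtain ⟨x, hx, hx'⟩ := SetLike.not_le_iff_exists.1 z.not_le
  have x1 : x * x ∉ 𝐂(K) := fun e => hx' ((z.zh x).2 ⟨hx, e⟩)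
  have x2 := z.sq x hx
  obtain ⟨a, ha, ha'⟩ := SetLike.not_le_iff_exists.1 act
  obtain ⟨s, hs, c, hc, rfl⟩ := dc a ha
  obtain ⟨d, hd, -, e⟩ := z.trZ s hs (fun e => ha' (mul_mem e hc)) _ x2 x1
  have b1 := cjm (a1 hd) ha
  rw [cj d hd.1 s c hc] at b1
  have b2 : ∀ g ∈ K ⊓ 𝐍(T), g * (x * x) * g⁻¹ = x * x := fun g hg => by
    have b3 := cmr (a1 hg) b1
    rw [comm_mul (hc g hg.1), ← comm_mul (e g hg.1), mul_inv_cancel_left] at b3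
    have b4 : g * x * g⁻¹ * (g * x * g⁻¹) * (x⁻¹ * x⁻¹) = ⁅g, x * x⁆ := by
      rw [commutatorElement_def]; group
    have := hq _ ⟨TS (cjm hg.2 hx), a4 (cjm hg.2 hx)⟩ _ ⟨TS (inv_mem hx), a4 (inv_mem hx)⟩
      (b4 ▸ b3)
    rwa [b4, commutatorElement_def, mul_inv_eq_one] at this
  have : ¬ 𝐂(K).relIndex Zh ∣ 2 := fun e => by
    have := Nat.le_of_dvd two_pos e
    have := Nat.pow_le_pow_right two_pos z.three
    have := z.cardZ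
    omega
  refine this (relIndex_dvd_two_iff.2 ⟨(x * x)⁻¹, inv_mem x2, fun y hy => ?_⟩)
  by_cases e' : y ∈ 𝐂(K)
  · exact Or.inr e'
  obtain ⟨g, hg, -, e⟩ := z.trZ _ x2 x1 y hy e'
  rw [b2 g hg] at e
  have := cjm (nC (z.le (z.zle x2))) e
  rw [mul_inv_cancel_left] at this
  exact Or.inl this

/-- The part of `A` that centralizes the layer lies in `O₂`. -/
theorem le_o2 {A U : Subgroup G} (h0 : od (⊤ : Subgroup G) = ⊥) (el : IsElementaryAbelian 2 A)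
    (sc : SC ⊤ A) (hU : U ≤ A) (h : ∀ K, CompIn ⊤ K → U ≤ 𝐂(K)) : U ≤ pCoreOf 2 ⊤ := by
  obtain ⟨S, hS, hA⟩ := exists_isSyl_ge Nat.prime_two (elemAb_isPGroup el) le_top
  have hP := pCoreOf_normal 2 (⊤ : Subgroup G)
  have pP := H2.isPGroup_pCoreOf 2 (⊤ : Subgroup G)
  have PS := hS.pCoreOf_le Nat.prime_two
  have fit := fittingOf_eq_pCoreOf Nat.prime_two h0
  have a1 : ⊤ ≤ 𝐍(pCoreOf 2 ⊤ ⊓ A) := fun g hg =>
    (sc.scl le_top hS.pgrp hA).mem_norm PS hg (hP.2 hg)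
  have a2 : ⊤ ≤ 𝐍(𝐂(H2.layerOf (⊤ : Subgroup G))) := (H2.le_normalizer_layerOf _).trans norm_cent
  have a3 : U ≤ 𝐂(H2.layerOf ⊤) := cent_comm.1 (by
    rw [H2.layerOf_eq_sSup]; exact sSup_le fun K hK => cent_comm.1 (h K hK))
  obtain ⟨M, m1, m2, m3⟩ := exists_stab (N := ⊤) (K := 𝐂(pCoreOf 2 ⊤ ⊓ A)) (P := U)
    ⟨le_top, a1.trans norm_cent⟩ a1 hP.2 pP
    (hU.trans ((isMulComm_iff_le_cent.1 el.1).trans (cent_anti inf_le_right)))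
    (le_inf (comm_le_left_iff.2 (le_top.trans hP.2)) ((commutator_mono le_rfl hU).trans
      (comm_le_right_iff.2 (PS.trans (sc.le_norm le_top hS.pgrp hA))))) fun k hk _ => hk
  refine (le_inf m2 a3).trans ((H2.SnIn.of_normal le_top
    (H1.le_normalizer_inf m1.2 a2)).le_pCoreOf fun ⟨x, hx⟩ => ?_)
  obtain ⟨k, hk⟩ := exists_odd_pow x
  have hy := pow_mem hx (2 ^ k)
  have b1 := H2.inf_centralizer_fstarOf_le_fittingOf ⊤ (x := x ^ 2 ^ k) ⟨trivial, by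
    rw [H2.fstarOf_eq, cent_sup, fit]
    exact ⟨hy.2, m3 _ hy.1 hk⟩⟩
  obtain ⟨j, hj⟩ := pow_two_pow pP (fit ▸ b1)
  exact ⟨k, Subtype.ext (eq_one_of hj hk)⟩

end Cfsg.Agent.P18.B0
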