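/-
P18, chapter B0: the data of an active linear component.
-/
import Cfsg.Agent.P18.B0a

set_option autoImplicit false
set_option linter.unusedSectionVars false

namespace Cfsg.Agent.P18.B0

open Subgroup Cfsg Cfsg.Agent Cfsg.Agent.FT Cfsg.Agent.P14
open Cfsg.Agent.P14.St (I3)
open Cfsg.Agent.H2 (CompIn)
open Cfsg.Agent.H7.SC (od br od_le od_inf)
open scoped commutatorElement

universe u

variable {G : Type u} [Group G] [Finite G]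

/-- `V = [A, d]` is a four-group in a component of `X / O(X)` with centralizer `W / O(X)`. -/
structure Dat (X A V W : Subgroup G) (d : G) : Prop where
  dX : d ∈ X
  dN : d ∈ 𝐍(A)
  d3 : ∃ j : ℕ, d ^ 3 ^ j ∈ 𝐂(A)
  le : V ≤ A
  card : 𝐨(V) = 4
  disj : V ⊓ W = ⊥
  cm : ∀ a ∈ A, ⁅d, a⁆ ∈ V
  cb : ∀ a ∈ A, a ∈ W ↔ ⁅d, a⁆ = 1
  dec : ∀ g ∈ X ⊓ 𝐍(A), ∀ k : ℕ, g ^ 2 ^ k = 1 → ∃ v ∈ V, v⁻¹ * g ∈ W
  wv : W ⊓ 𝐍(A) ≤ 𝐂(V)
  nw : X ⊓ 𝐂(V) ≤ 𝐍(W)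
  sol : ∀ M : Subgroup G, V ≤ M → X ⊓ 𝐂(A ⊓ W) ≤ 𝐍(M) → ¬ Group.IsSolvable M

section

variable {A S : Subgroup G} (h : Gl A S)
include h

theorem pg : IsPGroup 2 A := elemAb_isPGroup h.el

theorem sq {a : G} (ha : a ∈ A) : a * a = 1 := by rw [← pow_two]; exact h.el.2 a ha

theorem cc : A ≤ 𝐂(A) := isMulComm_iff_le_cent.1 h.el.1

theorem cent_ne {a : G} (h1 : a ≠ 1) : 𝐂[a] ≠ ⊤ := fun e => by
  have h2 : (zpowers a).Normal := normal_iff_top_le.2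
    (e.ge.trans ((cent_zpowers a).ge.trans (cent_le_norm _)))
  refine (h.sim.eq_bot_or_eq_top_of_normal _ h2).elim (zpowers_ne_bot.2 h1) fun e' => ?_
  exact h.nc ⟨⟨fun x y => by
    obtain ⟨m, rfl⟩ := e'.ge (mem_top x)
    exact Commute.zpow_left (mem_cent1.1 (e.ge (mem_top y))) m⟩⟩

theorem sc_br {X : Subgroup G} (hA : A ≤ X) : SC ⊤ (br X A) := by
  obtain ⟨P, hP, hAP⟩ := exists_isSyl_ge Nat.prime_two (pg h) hA
  refine SCl.sc ?_ (H7.SC.isSyl_br hP) (H1.bar_mono hAP)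
  rintro _ ⟨a, ha, rfl⟩ g - e
  obtain ⟨g, rfl⟩ := H1.qmk_surjective g
  rw [← map_inv, ← map_mul, ← map_mul] at e ⊢
  rw [H1.qmk_mem_bar_iff (od_le X) hP.le] at e
  rw [H1.qmk_mem_bar_iff (od_le X) hA]
  obtain ⟨k, hk, e'⟩ := (H7.SC.isSyl_sup_od hP.le hP.pgrp).exists_conj_le Nat.prime_two
    (two_zp (k := 1) (x := (g : G) * a * (g : G)⁻¹) (by
      rw [conj_pow, pow_one, h.el.2 a ha]; group)) (zpowers_le.2 e)
  have a2 := h.sc P le_top hP.pgrp hAP a ha (k * g) trivial (by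
    have := e' (conj_mem_conj (mem_zpowers _) k)
    convert this using 1; group)
  have a3 : P ⊔ od X ≤ 𝐍(A ⊔ od X) := sup_le (H1.le_normalizer_sup
    (h.sc.le_norm le_top hP.pgrp hAP) (hP.le.trans (H7.SC.le_norm_od X)))
    (le_sup_right.trans (le_norm_self _))
  have := cjm (inv_mem (a3 hk)) (mem_sup_left a2)
  convert this using 1
  push_cast; group

omit h in
theorem two_cen {X : Subgroup G} {K : Subgroup (X ⧸ (od X).subgroupOf X)} (hK : CompIn ⊤ K) :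
    IsPGroup 2 (K ⊓ 𝐂(K) : Subgroup _) :=
  (H2.isPGroup_pCoreOf 2 ⊤).to_le (hK.inf_centralizer_le_fittingOf.trans
    (fittingOf_eq_pCoreOf Nat.prime_two (H7.SC.od_br X)).le)

theorem zz {X : Subgroup G} (hX : X ≠ ⊤) {K T : Subgroup (X ⧸ (od X).subgroupOf X)}
    (hK : CompIn ⊤ K) (hT : IsSyl 2 T K) :
    (¬ 3 ∣ 𝐨(K) ∧ ∃ Zh n r, SzT K T Zh n r) ∨ (3 ∣ 𝐨(K) ∧ L2T K T) := by
  have a1 : 𝐨((⊤ : Subgroup (X ⧸ (od X).subgroupOf X))) ∣ 𝐨(X) :=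
    H1.bar_top (Y := X) (N := od X) ▸ H1.card_bar_dvd X
  refine h.z _ K T (P18.A.i3_bar h.i3 X _) hK.2 (two_cen hK) (h.k3.mono ?_) hT
  exact (Nat.succ_le_succ ((Nat.le_of_dvd Nat.card_pos (relIndex_dvd_card _ _)).trans
    ((card_le_of_le le_top).trans (Nat.le_of_dvd Nat.card_pos a1)))).trans
    ((H1.card_lt_of_lt (lt_top_iff_ne_top.2 hX)).trans_eq card_top)

theorem dat {X : Subgroup G} (hX : X ≠ ⊤) (hA : A ≤ X) {K : Subgroup (X ⧸ (od X).subgroupOf X)}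
    (hK : CompIn ⊤ K) (act : ¬ br X A ≤ 𝐂(K)) (hd : 3 ∣ 𝐨(K)) :
    ∃ V d, Dat X A V (H1.unbar X (od X) 𝐂(K)) d := by
  obtain ⟨P, hP, hAP⟩ := exists_isSyl_ge Nat.prime_two (pg h) hA
  have sP := H7.SC.isSyl_br hP
  obtain ⟨V, d, v1, v2, v3, v4, d1, d2, ⟨j, d3⟩, d4, d5, d6⟩ := l2 (P18.A.i3_bar h.i3 X _)
    (H7.SC.elemAb_br hA h.el) (sc_br h hA) hK (two_cen hK) hd sP (H1.bar_mono hAP)
    ((zz h hX hK (syl_comp sP hK)).resolve_left fun e => e.1 hd).2 act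
  have d2' := d2
  rw [H7.SC.norm_br (pg h) hA] at d2'
  obtain ⟨d, ⟨-, d0⟩, rfl⟩ := d2'
  have inj : ∀ x : X, (x : G) ∈ A → H1.qmk X (od X) x = 1 → (x : G) = 1 := fun x hx e =>
    (od_inf (pg h)).le ⟨H1.qmk_eq_one_iff.1 e, hx⟩
  have cm : ∀ x : X, (x : G) ∈ 𝐍(A) → ∀ a (ha : a ∈ A),
      ⁅H1.qmk X (od X) x, H1.qmk X (od X) ⟨a, hA ha⟩⁆ = 1 → ⁅(x : G), a⁆ = 1 := fun x hx a ha e =>
    inj ⁅x, ⟨a, hA ha⟩⁆ (cmr hx ha) (by rwa [map_commutatorElement])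
  have b1 : br X (A ⊓ H1.unbar X (od X) V) = V := le_antisymm
    ((H1.bar_le_iff (inf_le_left.trans hA)).2 inf_le_right) fun v hv => by
      obtain ⟨y, hy, rfl⟩ := v1 hv
      exact H1.qmk_mem_bar ⟨hy, H1.coe_mem_unbar.2 hv⟩
  have b2 : ¬ V ≤ 𝐂(K) := fun e => by
    rw [← inf_eq_left.2 e, v3, card_bot] at v4
    omega
  refine ⟨A ⊓ H1.unbar X (od X) V, d, d.2, d0, ⟨j, fun a ha => ?_⟩, inf_le_left, ?_, ?_,
    fun a ha => ⟨cmr d0 ha, ?_⟩, fun a ha => ⟨fun e => ?_, fun e => ?_⟩, fun g hg k hk => ?_,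
    fun w hw v hv => ?_, fun g hg => ?_, fun M m1 m2 m3 => ?_⟩
  · exact (commutatorElement_eq_one_iff_mul_comm.1 (cm (d ^ 3 ^ j) (pow_mem d0 _) a ha
      (by rw [map_pow, d3, commutatorElement_one_left]))).symm
  · rw [← v4, ← b1, H1.card_bar (inf_le_left.trans hA), b1, ← inf_relIndex_right,
      od_inf ((pg h).to_le inf_le_left), relIndex_bot_left]
  · rw [inf_assoc, ← H1.unbar_inf, v3, H1.unbar_bot (od_le X), inf_comm, od_inf (pg h)]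
  · exact (H1.coe_mem_unbar (y := ⁅d, ⟨a, hA ha⟩⁆)).2
      (by rw [map_commutatorElement]; exact d4 _ (H1.qmk_mem_bar ha))
  · exact cm d d0 a ha (commutatorElement_eq_one_iff_mul_comm.2
      ((H1.coe_mem_unbar (y := ⟨a, hA ha⟩)).1 e _ d1))
  · refine (H1.coe_mem_unbar (y := ⟨a, hA ha⟩)).2 (d5 _ (H1.qmk_mem_bar ha) ?_)
    rw [← map_commutatorElement, show ⁅d, (⟨a, hA ha⟩ : X)⁆ = 1 from Subtype.ext e, map_one]
  · obtain ⟨v, hv, e⟩ := d6 (H1.qmk X (od X) ⟨g, hg.1⟩)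
      (H1.bar_le_normalizer (inf_le_right (a := X)) (H1.qmk_mem_bar hg)) k
      (by rw [← map_pow, show (⟨g, hg.1⟩ : X) ^ 2 ^ k = 1 from Subtype.ext hk, map_one])
    obtain ⟨y, hy, rfl⟩ := v1 hv
    exact ⟨y, ⟨hy, H1.coe_mem_unbar.2 hv⟩, (H1.coe_mem_unbar (y := y⁻¹ * ⟨g, hg.1⟩)).2
      (by rwa [map_mul, map_inv])⟩
  · obtain ⟨w1, w2⟩ := H1.mem_unbar.1 hw.1
    exact (commutatorElement_eq_one_iff_mul_comm.1 (cm ⟨w, w1⟩ hw.2 v hv.1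
      (commutatorElement_eq_one_iff_mul_comm.2
        (w2 _ (v2 ((H1.coe_mem_unbar (y := ⟨v, hA hv.1⟩)).1 hv.2))).symm))).symm
  · obtain ⟨v, hv, hv'⟩ := SetLike.not_le_iff_exists.1 b2
    obtain ⟨y, hy, rfl⟩ := b1.ge hv
    refine zpowers_le.1 (H1.le_normalizer_unbar (zpowers_le.2 hg.1) ?_)
    rw [H1.bar_zpowers ⟨g, hg.1⟩]
    refine zpowers_le.2 (norm_cent (comp_norm hK (mem_top _) (v2 hv) ?_))
    rwa [← map_mul, show (⟨g, hg.1⟩ : X) * y = y * ⟨g, hg.1⟩ from Subtype.ext (hg.2 y hy).symm,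
      map_mul, mul_inv_cancel_right]
  · have c1 : K ≤ br X (X ⊓ 𝐂(A ⊓ H1.unbar X (od X) 𝐂(K))) := le_trans
      (cent_comm.1 ((H1.bar_le_iff (inf_le_left.trans hA)).2 inf_le_right))
      (H7.SC.cent_br ((pg h).to_le inf_le_left) (inf_le_left.trans hA))
    have c2 := c1.trans (H1.bar_le_normalizer m2)
    rcases (H2.isQuasisimple_subgroup_iff.1 hK.2).2.2 (br X M ⊓ K) inf_le_right
      (H1.le_normalizer_inf c2 (le_norm_self K)) with c3 | c3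
    · exact H2.QS.not_isSolvable hK.2 (H1.isSolvable_of_le (c3.ge.trans inf_le_left)
        (H1.isSolvable_bar m3))
    · exact b2 ((le_inf (b1.ge.trans (H1.bar_mono m1)) v2).trans c3)

/-- Either `U ≤ A` lies in a solvable normal subgroup of `X` or it moves a linear component. -/
theorem ex_dat (hq : ∀ x ∈ 𝐂(A), ∀ y ∈ 𝐂(A), (∃ k : ℕ, x ^ 2 ^ k = 1) → (∃ k : ℕ, y ^ 2 ^ k = 1) →
    x * x * (y * y) ∈ A → x * x * (y * y) = 1) {X U : Subgroup G} (hX : X ≠ ⊤) (hA : A ≤ X)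
    (hU : U ≤ A) (hs : ∀ M : Subgroup G, U ≤ M → X ≤ 𝐍(M) → ¬ Group.IsSolvable M) :
    ∃ V W d, Dat X A V W d ∧ ¬ U ≤ W := by
  obtain ⟨P, hP, hAP⟩ := exists_isSyl_ge Nat.prime_two (pg h) hA
  have sP := H7.SC.isSyl_br hP
  by_cases e : ∀ K, CompIn ⊤ K → br X U ≤ 𝐂(K)
  · refine absurd (H1.isSolvable_of_le ((H1.unbar_mono (sP.pCoreOf_le Nat.prime_two)).trans
      (H1.unbar_bar (od_le X) hP.le).le) (H2.isSolvable_sup_of_le_normalizer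
      (hP.le.trans (H7.SC.le_norm_od X)) (H1.isSolvable_of_isPGroup hP.pgrp)
      (feit_thompson _ (Nat.coprime_two_right.1 (H7.SC.od_cop X))))) (hs _ ?_ ?_)
    · exact (H1.bar_le_iff (hU.trans hA)).1 (le_o2 (H7.SC.od_br X) (H7.SC.elemAb_br hA h.el)
        (sc_br h hA) (H1.bar_mono hU) e)
    · exact H1.le_normalizer_unbar le_rfl (le_top.trans (pCoreOf_normal 2 ⊤).2)
  push Not at e
  obtain ⟨K, hK, e⟩ := e
  have act : ¬ br X A ≤ 𝐂(K) := fun e' => e ((H1.bar_mono hU).trans e')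
  rcases zz h hX hK (syl_comp sP hK) with ⟨-, Zh, n, r, z⟩ | ⟨hd, -⟩
  swap
  · obtain ⟨V, d, D⟩ := dat h hX hA hK act hd
    exact ⟨V, _, d, D, fun e' => e ((H1.bar_le_iff (hU.trans hA)).2 e')⟩
  refine absurd (sz (H7.SC.elemAb_br hA h.el) (sc_br h hA) hK sP (H1.bar_mono hAP)
    (H7.SC.nf_br hP.pgrp hP.le hAP (h.nf P (h.sc.le_norm le_top hP.pgrp hAP) hP.pgrp)) z ?_) act
  have k : ∀ y : X, (y : G) ∈ P → H1.qmk X (od X) y ∈ 𝐂(br X A) → (y : G) ∈ 𝐂(A) :=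
    fun y hy e k hk => (commutatorElement_eq_one_iff_mul_comm.1 ((od_inf hP.pgrp).le
      ⟨(H1.qmk_mem_centralizer_bar_iff hA).1 e k hk, cmr (le_normalizer hy) (hAP hk)⟩)).symm
  rintro _ ⟨⟨x, hx, rfl⟩, x1⟩ _ ⟨⟨y, hy, rfl⟩, y1⟩ e
  simp only [← map_mul] at e ⊢
  rw [H1.qmk_mem_bar_iff (od_le X) hA] at e
  rw [show x * x * (y * y) = 1 from Subtype.ext (hq x (k x hx x1) y (k y hy y1)
    (pow_two_pow hP.pgrp hx) (pow_two_pow hP.pgrp hy)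
    ((H7.SC.inf_sup_od hA hP.pgrp hAP).le ⟨mul_mem (mul_mem hx hx) (mul_mem hy hy), e⟩)), map_one]

end

end Cfsg.Agent.P18.B0
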