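/-
P18, chapter B0: if `A` moves a linear component then it is central in a Sylow subgroup.
-/
import Cfsg.Agent.P18.B0b
import Cfsg.Agent.L.BaerSuzuki

set_option autoImplicit false
set_option linter.unusedSectionVars false

namespace Cfsg.Agent.P18.B0

open Subgroup Cfsg Cfsg.Agent Cfsg.Agent.FT Cfsg.Agent.P14
open Cfsg.Agent.P14.St (I3)
open scoped commutatorElement

universe u

variable {G : Type u} [Group G] [Finite G]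

theorem sup_of_relIndex {U V A : Subgroup G} (hU : U ≤ A) (hV : V ≤ A) (hn : A ≤ 𝐍(V))
    (e : V.relIndex U = V.relIndex A) : A ≤ U ⊔ V := by
  have e' := relIndex_mul_relIndex V (U ⊔ V) A le_sup_right (sup_le hU hV)
  rw [H1.relIndex_sup_of_le_normalizer (hU.trans hn), e] at e'
  exact relIndex_eq_one.1 (Nat.eq_of_mul_eq_mul_left (H2.relIndex_pos _ _) (e'.trans (mul_one _).symm))

theorem relIndex_of_disj {U V : Subgroup G} (h : U ⊓ V = ⊥) : V.relIndex U = 𝐨(U) := by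
  rw [← inf_relIndex_left, h, relIndex_bot_left]

theorem ex_sq {S C : Subgroup G} {k : ℕ} {x : G} (hx : x ∈ S) (h1 : x ∉ C) (h2 : x ^ 2 ^ k ∈ C) :
    ∃ s ∈ S, s ∉ C ∧ s * s ∈ C := by
  induction k generalizing x with
  | zero => exact absurd (by simpa using h2) h1
  | succ k ih =>
    by_cases e : x * x ∈ C
    · exact ⟨x, hx, h1, e⟩
    · exact ih (mul_mem hx hx) e (by rwa [← pow_two, ← pow_mul, ← pow_succ'])

theorem two_conj {x : G} (h : ∃ k : ℕ, x ^ 2 ^ k = 1) (g : G) : ∃ k : ℕ, (g * x * g⁻¹) ^ 2 ^ k = 1 :=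
  h.imp fun k e => by rw [conj_pow, e]; group

/-- The squares of the 2-elements of `C(A)`. -/
def sqc (A : Subgroup G) : Subgroup G :=
  closure {y | ∃ x ∈ 𝐂(A), (∃ k : ℕ, x ^ 2 ^ k = 1) ∧ x * x = y}

/-- 2-elements that induce involutions on `A`. -/
structure Iv (A : Subgroup G) (s : G) : Prop where
  nrm : s ∈ 𝐍(A)
  two : ∃ k : ℕ, s ^ 2 ^ k = 1
  sq : s * s ∈ 𝐂(A)
  ne : s ∉ 𝐂(A)

theorem Iv.conj {A : Subgroup G} {s g : G} (h : Iv A s) (hg : g ∈ 𝐍(A)) : Iv A (g * s * g⁻¹) :=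
  ⟨mul_mem (mul_mem hg h.nrm) (inv_mem hg), two_conj h.two g,
    by rw [conj_mul]; exact cjm (norm_cent hg) h.sq,
    fun e => h.ne ((mem_normalizer_iff.1 (norm_cent hg) s).2 e)⟩

theorem Iv.cc {A : Subgroup G} {s a : G} (h : Iv A s) (ha : a ∈ A) :
    s * (s * a * s⁻¹) * s⁻¹ = a := by
  calc _ = s * s * a * (s * s)⁻¹ := by group
    _ = a := by rw [← h.sq a ha, mul_inv_cancel_right]

namespace Dat

variable {X A S V W : Subgroup G} {d : G} (D : Dat X A V W d) (h : Gl A S)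
include D

theorem dV : d ∈ 𝐍(V) := mem_norm_of_conj_le fun x hx => by
  obtain ⟨v, hv, rfl⟩ := mem_conj'.1 hx
  have := mul_mem (D.cm v (D.le hv)) hv
  rwa [commutatorElement_def, inv_mul_cancel_right] at this

theorem fpf {v : G} (hv : v ∈ V) (h1 : v ≠ 1) : ⁅d, v⁆ ≠ 1 := fun e =>
  h1 (D.disj.le ⟨hv, (D.cb v (D.le hv)).2 e⟩)

theorem ex : ∃ v ∈ V, v ≠ 1 := by
  obtain ⟨⟨v, hv⟩, e⟩ := ne_bot_iff_exists_ne_one.1 (show V ≠ ⊥ from fun e => by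
    have := D.card
    rw [e, card_bot] at this
    omega)
  exact ⟨v, hv, fun e' => e (Subtype.ext e')⟩

theorem dB : d ∈ 𝐂(A ⊓ W) := fun b hb =>
  (commutatorElement_eq_one_iff_mul_comm.1 ((D.cb b hb.1).1 hb.2)).symm

include h

theorem two {g : G} (hg : g ∈ X ⊓ 𝐍(A)) (hk : ∃ k : ℕ, g ^ 2 ^ k = 1) : g ∈ 𝐂(V) ∧ g * g ∈ W := by
  obtain ⟨k, hk⟩ := hk
  obtain ⟨v, hv, e⟩ := D.dec g hg k hk
  have a1 := D.wv ⟨e, 𝐍(A).mul_mem (inv_mem (le_normalizer (D.le hv))) hg.2⟩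
  refine ⟨(mul_mem_cancel_left (inv_mem (cent_anti D.le (cc h (D.le hv))))).1 a1, ?_⟩
  have := mul_mem e e
  generalize hw : v⁻¹ * g = w at a1 this
  rw [← mul_inv_cancel_left v g, hw, mul_assoc, ← mul_assoc w, ← a1 v hv, ← mul_assoc, ← mul_assoc,
    sq h (D.le hv), one_mul]
  exact this

theorem v4 {v : G} (hv : v ∈ V) (h1 : v ≠ 1) : P5.V4 v (d * v * d⁻¹) :=
  v4_of (elemAb_of_le D.le h.el) D.dV hv (D.fpf hv h1)

theorem eq {v : G} (hv : v ∈ V) (h1 : v ≠ 1) : closure {v, d * v * d⁻¹} = V :=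
  H1.eq_of_le_of_card_le (P5.V4.le_iff.2 ⟨hv, cjm D.dV hv⟩) (D.card.trans (D.v4 h hv h1).card.symm).le

theorem irr {U : Subgroup G} (hU : d ∈ 𝐍(U)) {v : G} (hv : v ∈ V) (h1 : v ≠ 1) (e : v ∈ U) :
    V ≤ U := D.eq h hv h1 ▸ P5.V4.le_iff.2 ⟨e, cjm hU e⟩

theorem tri {v : G} (hv : v ∈ V) (h1 : v ≠ 1) : P5.Tri d v (d * v * d⁻¹) := by
  have w := D.v4 h hv h1
  have hv' := cjm D.dV hv
  refine ⟨rfl, ?_⟩
  rcases w.mem_iff.1 ((D.eq h hv h1).ge (cjm D.dV hv')) with f | f | f | f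
  · exact absurd (by simpa using f) h1
  · refine absurd ?_ (D.fpf (mul_mem hv hv') w.ts1)
    rw [commutatorElement_def, ← conj_mul, f, w.comm.eq, mul_inv_cancel]
  · exact absurd (by rw [commutatorElement_def, f, mul_inv_cancel]) (D.fpf hv' w.s1)
  · exact f

theorem sup (hA : A ≤ X) {a : G} (ha : a ∈ A) : ∃ v ∈ V, ∃ b ∈ A ⊓ W, v * b = a := by
  obtain ⟨v, hv, e⟩ := D.dec a ⟨hA ha, le_normalizer ha⟩ 1 (h.el.2 a ha)
  exact ⟨v, hv, _, ⟨A.mul_mem (inv_mem (D.le hv)) ha, e⟩, mul_inv_cancel_left v a⟩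

theorem le_sup (hA : A ≤ X) : A ≤ V ⊔ A ⊓ W := fun a ha => by
  obtain ⟨v, hv, b, hb, rfl⟩ := D.sup h hA ha
  exact mul_mem (mem_sup_left hv) (mem_sup_right hb)

theorem idx (hA : A ≤ X) : (A ⊓ W).relIndex A = 4 := by
  nth_rw 2 [le_antisymm (D.le_sup h hA) (sup_le D.le inf_le_left)]
  rw [H1.relIndex_sup_of_le_normalizer (D.le.trans ((cc h).trans
    ((cent_anti inf_le_left).trans (cent_le_norm _)))), relIndex_of_disj, D.card]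
  exact eq_bot_iff.2 ((inf_le_inf_left V inf_le_right).trans D.disj.le)

theorem cj (hA : A ≤ X) {x y : G} (hx : x ∈ A) (x1 : x ∉ W) (y1 : y ∉ W) (e : x⁻¹ * y ∈ V) :
    ∃ g ∈ zpowers d, g * x * g⁻¹ = y := by
  obtain ⟨v, hv, b, hb, rfl⟩ := D.sup h hA hx
  have v1 : v ≠ 1 := by rintro rfl; exact x1 (by simpa using hb.2)
  have e1 : v * ((v * b)⁻¹ * y) * b = y := by
    rw [mul_assoc, cc h hb.1 _ (D.le e)]; group
  obtain ⟨g, hg, e2⟩ := (D.tri h hv v1).exists_conj (D.v4 h hv v1)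
    ((D.eq h hv v1).ge (mul_mem hv e)) fun e' => y1 (by rw [← e1, e', one_mul]; exact hb.2)
  refine ⟨g, hg, ?_⟩
  rw [← conj_mul, e2, ← zpowers_le.2 D.dB hg b hb, mul_inv_cancel_right, e1]

theorem hq (hX : 𝐂(A) ≤ X) : A ⊓ sqc A = ⊥ := by
  refine (h.irr _ inf_le_left (H1.le_normalizer_inf le_rfl fun g hg =>
    L.mem_normalizer_closure_of_conj_mem ?_)).resolve_right fun e => ?_
  · rintro _ ⟨x, hx, hk, rfl⟩
    exact ⟨_, cjm (norm_cent hg) hx, two_conj hk g, conj_mul⟩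
  have a1 : sqc A ≤ W := (closure_le _).2 (by
    rintro _ ⟨x, hx, hk, rfl⟩
    exact (D.two h ⟨hX hx, cent_le_norm A hx⟩ hk).2)
  obtain ⟨v, hv, v1⟩ := D.ex
  exact v1 (D.disj.le ⟨hv, a1 (e.ge (D.le hv)).2⟩)

theorem b0b (hX : 𝐂(A) ≤ X) {b s : G} (hb : b ∈ A ⊓ W) (b1 : b ≠ 1) (hs : s ∈ 𝐂[b] ⊓ 𝐍(A))
    (hk : ∃ k : ℕ, s ^ 2 ^ k = 1) : s ∈ 𝐂(V) := by
  have hA : A ≤ 𝐂[b] := (cc h).trans (cent_le_cent1 hb.1)
  obtain ⟨V', W', d', D', e⟩ := ex_dat h (fun x hx y hy kx ky e => (D.hq h hX).le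
    ⟨e, mul_mem (subset_closure ⟨x, hx, kx, rfl⟩) (subset_closure ⟨y, hy, ky, rfl⟩)⟩)
    (cent_ne h b1) hA D.le fun M m1 m2 =>
      D.sol M m1 (inf_le_right.trans ((cent_le_cent1 hb).trans m2))
  have d1 : d ∈ 𝐂[b] ⊓ 𝐍(A) := ⟨cent_le_cent1 hb D.dB, D.dN⟩
  obtain ⟨Q, hQ⟩ : ∃ Q : Subgroup G,
    Q = closure {x | x ∈ 𝐂[b] ⊓ 𝐍(A) ∧ ∃ k : ℕ, x ^ 2 ^ k = 1} := ⟨_, rfl⟩
  have q1 : d ∈ 𝐍(𝐂(Q)) := norm_cent (hQ ▸ L.mem_normalizer_closure_of_conj_mem fun x hx =>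
    ⟨mul_mem (mul_mem d1 hx.1) (inv_mem d1), two_conj hx.2 d⟩)
  have q2 : V' ≤ 𝐂(Q) := cent_comm.1 (hQ ▸ (closure_le _).2 fun x hx => (D'.two h hx.1 hx.2).1)
  by_cases e' : ∃ v ∈ V, v ≠ 1 ∧ v ∈ 𝐂(Q)
  · obtain ⟨v, hv, v1, e'⟩ := e'
    exact cent_comm.1 (D.irr h q1 hv v1 e') (hQ ▸ subset_closure ⟨hs, hk⟩)
  push Not at e'
  have a1 : ∀ v ∈ V', ⁅d, v⁆ = 1 := fun v hv => by
    by_contra e2
    exact e' _ (D.cm v (D'.le hv)) e2 (cmr q1 (q2 hv))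
  have a2 := D'.nw ⟨d1.1, fun v hv => (commutatorElement_eq_one_iff_mul_comm.1 (a1 v hv)).symm⟩
  obtain ⟨v, hv, v1⟩ := D.ex
  refine absurd (D.irr h a2 (D.cm v (D.le hv)) (D.fpf hv v1) ?_) e
  obtain ⟨u, hu, w, hw, rfl⟩ := D'.sup h hA (D.le hv)
  rw [cc h hw.1 u (D'.le hu), comm_mul (commutatorElement_eq_one_iff_mul_comm.1 (a1 u hu))]
  exact cmr a2 hw.2

end Dat

theorem Iv.bound {A S : Subgroup G} {s : G} (i : Iv A s) (h : Gl A S) :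
    4 ≤ 𝐂[s].relIndex A ∧ 𝐂[s].relIndex A ≤ 𝐨(A ⊓ 𝐂[s]) ∧
      𝐨(A ⊓ 𝐂[s]) * 𝐂[s].relIndex A = 𝐨(A) := by
  refine ⟨?_, H2.relIndex_centralizer_le_card fun g hg => ⟨cml i.nrm hg, ?_⟩, ?_⟩
  · obtain ⟨k, hk⟩ := i.two
    have := h.nf _ (zpowers_le.2 i.nrm) (two_zp hk) _ le_rfl
      ((comm_eq_bot_iff.2 (isMulComm_iff_le_cent.1 inferInstance)).le.trans bot_le) (by
        rintro _ ⟨m, rfl⟩
        rw [← zpow_natCast, ← zpow_mul, mul_comm, zpow_mul, zpow_natCast, pow_two]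
        exact zpow_mem i.sq m)
    rw [cent_zpowers] at this
    have a1 := H2.relIndex_pos 𝐂(A) (zpowers s)
    have a2 : 𝐂(A).relIndex (zpowers s) ≠ 1 := fun e => i.ne (relIndex_eq_one.1 e (mem_zpowers s))
    exact le_trans (Nat.pow_le_pow_left (by omega : 2 ≤ _) 2) this
  · refine mem_cent1_comm.1 (mem_cent1_iff_conj.2 ?_)
    rw [show ⁅g, s⁆ = g * (s * g⁻¹ * s⁻¹) by rw [commutatorElement_def]; group, ← conj_mul,
      i.cc (inv_mem hg), inv_eq_of_mul_eq_one_right (B0.sq h hg)]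
    exact B0.cc h hg _ (cjm i.nrm hg)
  · rw [← inf_relIndex_left]
    exact H1.card_mul_relIndex inf_le_left

theorem Dat.not_iv {X A S V W : Subgroup G} {d : G} (D : Dat X A V W d) (h : Gl A S)
    (hX : 𝐂(A) ≤ X) {s : G} : ¬ Iv A s := fun i => by
  have hA := (cc h).trans hX
  have nA : ∀ U ≤ A, A ≤ 𝐍(U) := fun U hU => (cc h).trans ((cent_anti hU).trans (cent_le_norm U))
  obtain ⟨t, j, ht⟩ : ∃ t, Iv A t ∧ t ∉ 𝐂(V) := by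
    by_contra e
    push Not at e
    have a1 : V ≤ A ⊓ 𝐂(closure {t | Iv A t}) := le_inf D.le (cent_comm.1 ((closure_le _).2 e))
    rcases h.irr _ (inf_le_left : A ⊓ 𝐂(closure {t | Iv A t}) ≤ A) (H1.le_normalizer_inf le_rfl
      fun g hg => norm_cent (L.mem_normalizer_closure_of_conj_mem fun x hx => Iv.conj hx hg)) with
      a2 | a2
    · obtain ⟨v, hv, v1⟩ := D.ex
      exact v1 (a2.le (a1 hv))
    · exact i.ne (cent_comm.1 (a2.ge.trans inf_le_right) (subset_closure i))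
  have b1 : ∀ s, Iv A s → ∀ b ∈ A ⊓ W, b ≠ 1 → b ∈ 𝐂[s] → s ∈ 𝐂(V) := fun s i b hb b1 e =>
    D.b0b h hX hb b1 ⟨mem_cent1_comm.1 e, i.nrm⟩ i.two
  have b2 : 𝐨(A ⊓ 𝐂[t]) ≤ 4 := by
    rw [← relIndex_of_disj (V := A ⊓ W), ← D.idx h hA]
    · exact relIndex_le_of_le_right inf_le_left (H2.relIndex_pos _ _).ne'
    · refine eq_bot_iff.2 fun b hb => ?_
      by_contra e
      exact ht (b1 t j b hb.2 e hb.1.2)
  have b3 : 𝐨(A) = 16 := by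
    obtain ⟨c1, c2, c3⟩ := j.bound h
    rw [← c3, le_antisymm b2 (c1.trans c2), le_antisymm (c2.trans b2) c1]
  have b4 : ∀ s, Iv A s → 𝐨(A ⊓ 𝐂[s]) = 4 := fun s i => by
    obtain ⟨c1, c2, c3⟩ := i.bound h
    refine le_antisymm ?_ (c1.trans c2)
    nlinarith
  have b5 : ∀ s, Iv A s → ∀ b ∈ A ⊓ W, b ∈ 𝐂[s] → b = 1 := fun s i b hb e => by
    by_contra e'
    exact e' (D.disj.le ⟨(H1.eq_of_le_of_card_le (le_inf D.le (mem_cent_iff_cent1.1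
      (b1 s i b hb e' e))) ((b4 s i).trans D.card.symm).le).ge ⟨hb.1, e⟩, hb.2⟩)
  have b6 : 𝐨(A ⊓ W) = 4 := by
    have := H1.card_mul_relIndex (inf_le_left : A ⊓ W ≤ A)
    rw [D.idx h hA, b3] at this
    omega
  have b7 : ∀ b ∈ A ⊓ W, b ≠ 1 → t * b * t⁻¹ ∉ W := fun b hb b1 e => by
    have c1 := b5 t j _ (mul_mem hb ⟨cjm j.nrm hb.1, e⟩) (by
      rw [mem_cent1_comm, mem_cent1_iff_conj, ← conj_mul, j.cc hb.1]
      exact cc h hb.1 _ (cjm j.nrm hb.1))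
    rw [mul_eq_one_iff_eq_inv', inv_eq_of_mul_eq_one_right (sq h hb.1)] at c1
    exact b1 (b5 t j b hb (mem_cent1_comm.1 (mem_cent1_iff_conj.2 c1)))
  have key : ∀ f ∈ A ⊓ 𝐂[t], f ≠ 1 → ∀ y ∈ (A ⊓ W) ^ᵍ t, y ≠ 1 → f⁻¹ * y ∉ V := by
    intro f hf f1 y hy y1 e
    obtain ⟨b, hb, rfl⟩ := mem_conj'.1 hy
    have c1 : b ≠ 1 := by rintro rfl; simp at y1
    obtain ⟨g, hg, e'⟩ := D.cj h hA hf.1 (fun e => f1 (b5 t j f ⟨hf.1, e⟩ hf.2)) (b7 b hb c1) e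
    have c2 := mul_mem (inv_mem j.nrm) (zpowers_le.2 D.dN hg)
    refine c1 (b5 _ (j.conj c2) b hb ?_)
    rw [cent1_conj, show b = t⁻¹ * g * f * (t⁻¹ * g)⁻¹ by
      rw [show t⁻¹ * g * f * (t⁻¹ * g)⁻¹ = t⁻¹ * (g * f * g⁻¹) * t by group, e']; group]
    exact conj_mem_conj hf.2 _
  have cov : ∀ U ≤ A, 𝐨(U) = 4 → U ⊓ V = ⊥ → ∀ a ∈ A, ∃ u ∈ U, u⁻¹ * a ∈ V := by
    intro U hU c1 c2 a ha
    have c3 := H1.card_mul_relIndex D.le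
    rw [D.card, b3] at c3
    obtain ⟨u, hu, v, hv, rfl⟩ := (mem_sup_of_norm' (hU.trans (nA V D.le))).1 (sup_comm U V ▸
      sup_of_relIndex hU D.le (nA V D.le) (by rw [relIndex_of_disj c2]; omega) ha)
    exact ⟨u, hu, by rwa [inv_mul_cancel_left]⟩
  have b8 : (A ⊓ W) ^ᵍ t ≤ A := conj_le_of_mem_norm inf_le_left j.nrm
  have b9 : 𝐨((A ⊓ W) ^ᵍ t) = 4 := (card_conj _ _).trans b6
  have c1 : (A ⊓ W) ^ᵍ t ≤ V := fun y hy => by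
    by_contra e
    by_cases e1 : A ⊓ 𝐂[t] ⊓ V = ⊥
    · obtain ⟨f, hf, e2⟩ := cov _ inf_le_left (b4 t j) e1 y (b8 hy)
      exact key f hf (by rintro rfl; exact e (by simpa using e2)) y hy
        (by rintro rfl; exact e (one_mem _)) e2
    obtain ⟨⟨f, hf⟩, f1⟩ := ne_bot_iff_exists_ne_one.1 e1
    have e2 : (A ⊓ W) ^ᵍ t ⊓ V = ⊥ := eq_bot_iff.2 fun z hz => by
      by_contra e3
      exact key f hf.1 (fun e => f1 (Subtype.ext e)) z hz.1 e3 (mul_mem (inv_mem hf.2) hz.2)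
    obtain ⟨x, hx, x1⟩ := SetLike.not_le_iff_exists.1 (show ¬ A ⊓ 𝐂[t] ≤ V from fun e3 =>
      ht (mem_cent_iff_cent1.2 ((H1.eq_of_le_of_card_le e3
        (D.card.trans (b4 t j).symm).le).ge.trans inf_le_right)))
    obtain ⟨z, hz, e3⟩ := cov _ b8 b9 e2 x hx.1
    exact key x hx (by rintro rfl; exact x1 (one_mem _)) z hz
      (by rintro rfl; exact x1 (by simpa using e3)) (by simpa using inv_mem e3)
  have c2 := H1.eq_of_le_of_card_le c1 (D.card.trans b9.symm).le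
  have c3 : V ^ᵍ t = A ⊓ W := by
    rw [← c2, conj_conj, conj_eq_of_mem_norm (cent_le_norm _ (cent_anti inf_le_left j.sq))]
  have c4 : t * d * t⁻¹ ∈ 𝐂(V) := by
    rw [← c2, cent_conj]
    exact conj_mem_conj D.dB t
  have c5 : t * d * t⁻¹ ∈ 𝐍(A ⊓ W) := by
    rw [← c3, norm_conj]
    exact conj_mem_conj D.dV t
  have c6 : ⁅d, t * d * t⁻¹⁆ ∈ 𝐂(A) := cent_anti (D.le_sup h hA) (by
    rw [cent_sup]
    exact ⟨cmr (norm_cent D.dV) c4, cml (norm_cent c5) D.dB⟩)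
  have := H1.normal_subgroupOf_of_le (norm_cent (K := A))
  obtain ⟨k, hk⟩ := D.d3
  have e1 := (H1.qmk_eq_one_iff (y := ⟨t, j.nrm⟩ * ⟨t, j.nrm⟩)).2 j.sq
  have e2 := (H1.qmk_eq_one_iff (y := ⟨d, D.dN⟩ ^ 3 ^ k)).2 hk
  have e3 := (H1.qmk_eq_one_iff
    (y := ⁅(⟨d, D.dN⟩ : 𝐍(A)), ⟨t, j.nrm⟩ * ⟨d, D.dN⟩ * ⟨t, j.nrm⟩⁻¹⁆)).2 c6
  have e4 : ¬ H1.qmk 𝐍(A) 𝐂(A) (⟨d, D.dN⟩ * (⟨t, j.nrm⟩ * ⟨d, D.dN⟩ * ⟨t, j.nrm⟩⁻¹)⁻¹) = 1 :=
    fun e => by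
      obtain ⟨v, hv, v1⟩ := D.ex
      exact D.fpf hv v1 (commutatorElement_eq_one_iff_mul_comm.2 ((mul_mem_cancel_right
        (inv_mem c4)).1 (cent_anti D.le (H1.qmk_eq_one_iff.1 e)) v hv).symm)
  simp only [map_mul, map_inv, map_pow, map_commutatorElement] at e1 e2 e3 e4
  generalize H1.qmk 𝐍(A) 𝐂(A) ⟨d, D.dN⟩ = x at e2 e3 e4
  generalize H1.qmk 𝐍(A) 𝐂(A) ⟨t, j.nrm⟩ = y at e1 e3 e4
  refine e4 ((P18.A.i3_bar h.i3 _ _).pow (k := k) (g := y) ?_ ?_)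
  · rw [(commutatorElement_eq_one_iff_commute.1 e3).inv_right.mul_pow, inv_pow, conj_pow, e2]
    group
  · calc _ = y * x * y⁻¹ * (y * y * x * (y * y)⁻¹)⁻¹ := by group
      _ = _ := by rw [e1]; group

end Cfsg.Agent.P18.B0

namespace Cfsg.Agent.P18

open Subgroup Cfsg Cfsg.Agent Cfsg.Agent.FT Cfsg.Agent.P14

universe u

theorem b0Stmt : B0Stmt.{u} := by
  intro G _ _ A S h a ha a1 ⟨K, hK, act, hd⟩
  have hX : 𝐂(A) ≤ 𝐂[a] := cent_le_cent1 ha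
  obtain ⟨V, d, D⟩ := B0.dat h (B0.cent_ne h a1) ((B0.cc h).trans hX) hK act hd
  have hS : S ≤ 𝐂(A) := fun x hx => by
    by_contra e
    obtain ⟨k, hk⟩ := pow_two_pow h.syl.pgrp hx
    obtain ⟨s, hs, s1, s2⟩ := B0.ex_sq (k := k) hx e (hk ▸ one_mem _)
    exact D.not_iv h hX ⟨h.sc.le_norm le_top h.syl.pgrp h.le hs, pow_two_pow h.syl.pgrp hs, s2, s1⟩
  refine ⟨hS, eq_bot_iff.2 (le_trans (inf_le_inf_left A (closure_mono ?_)) (D.hq h hX).le)⟩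
  rintro _ ⟨x, hx, rfl⟩
  exact ⟨x, hS hx, pow_two_pow h.syl.pgrp hx, rfl⟩

end Cfsg.Agent.P18
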