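/-
P18, chapter B: local theory (groups with trivial odd core).
-/
import Cfsg.Agent.P18.Defs
import Cfsg.Agent.P18.N1

set_option autoImplicit false
set_option linter.unusedSectionVars false

namespace Cfsg.Agent.P18

open Subgroup Cfsg Cfsg.Agent Cfsg.Agent.FT Cfsg.Agent.P14
open Cfsg.Agent.P14.St (I3)
open Cfsg.Agent.H2 (CompIn)
open Cfsg.Agent.H7.SC (od)
open scoped commutatorElement

universe u

variable {G : Type u} [Group G] [Finite G]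

theorem pow_mem_of {E : Subgroup G} {e x : G} (he : e ∈ E) (hx : x ∈ 𝐍(E)) (m : ℕ) :
    (e * x) ^ m * (x ^ m)⁻¹ ∈ E := by
  induction m with
  | zero => simp
  | succ m ih =>
    have := mul_mem ih (cjm (pow_mem hx m) he)
    convert this using 1
    rw [pow_succ, pow_succ]; group

/-- 2-elements normalize the components of order divisible by three. -/
theorem two_norm (h3 : I3 G) {X K : Subgroup G} (hK : CompIn X K)
    (hz : IsPGroup 2 (K ⊓ 𝐂(K) : Subgroup G)) (hd : 3 ∣ 𝐨(K)) {x : G} (hx : x ∈ X) {k : ℕ}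
    (hk : x ^ 2 ^ k = 1) : x ∈ 𝐍(K) := by
  have hE : H2.layerOf X ⊲ X := ⟨H2.layerOf_le X, H2.le_normalizer_layerOf X⟩
  obtain ⟨P, hP⟩ := exists_isSyl Nat.prime_three (H2.layerOf X)
  have hx' := hx
  rw [← hP.frattini Nat.prime_three hE] at hx'
  obtain ⟨e, he, n, hn, rfl⟩ := (mem_sup_of_norm (inf_le_left.trans hE.2)).1 hx'
  obtain ⟨a, b, ha, hb, e1, -, ⟨j, hj⟩, h1⟩ := H8.exists_pPart_pPrimePart Nat.prime_two n
  have h2 : n ^ 2 ^ k ∈ H2.layerOf X := by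
    simpa [hk] using pow_mem_of he (hE.2 hn.1) (2 ^ k)
  have h4 : b ∈ H2.layerOf X := H8.mem_of_pow_mem_of_coprime (h1.pow_right k) (by
    obtain ⟨m, rfl⟩ := mem_zpowers_iff.1 hb
    rw [← zpow_natCast, ← zpow_mul, mul_comm, zpow_mul, zpow_natCast]
    exact zpow_mem h2 m)
  have h5 := zpowers_le.2 hn ha
  have h6 := N.cent_of_two h3 hP.pgrp h5.2 (k := j) (by rw [← hj, pow_orderOf_eq_one]; exact one_mem _)
  have h7 := hP.inf_normal Nat.prime_three ⟨hK.le_layerOf, hK.layerOf_le_normalizer⟩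
  obtain ⟨s, hs, hs'⟩ := SetLike.not_le_iff_exists.1 fun e : P ⊓ K ≤ 𝐂(K) =>
    h7.ne_bot Nat.prime_three hd (eq_bot_iff.2 ((le_inf le_rfl (le_inf inf_le_right e)).trans
      (H1.inf_eq_bot_of_coprime' (H1.coprime_card_of_isPGroup hz (Nat.Coprime.symm (by
        obtain ⟨m, hm⟩ := exists_card_eq_pow Nat.prime_three h7.pgrp
        rw [hm]; exact Nat.Coprime.pow_right m (by norm_num))))).le))
  rw [e1]
  exact mul_mem (hK.layerOf_le_normalizer he) (mul_mem (comp_norm hK h5.1 hs.2 (by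
    rwa [← h6 s hs.1, mul_inv_cancel_right])) (hK.layerOf_le_normalizer h4))

theorem dec_of {K T : Subgroup G} (hT : IsSyl 2 T K) (hz : IsPGroup 2 (K ⊓ 𝐂(K) : Subgroup G))
    {x : G} {k : ℕ} (hx : x ^ 2 ^ k = 1) (h1 : x ∈ K ⊔ 𝐂(K)) (h2 : x ∈ 𝐍(T)) :
    ∃ s ∈ T, ∃ c ∈ 𝐂(K), s * c = x := by
  obtain ⟨s, hs, c, hc, rfl⟩ := (mem_sup_of_norm (cent_le_norm K)).1 h1
  refine ⟨s, ?_, c, hc, rfl⟩
  have a1 : s ^ 2 ^ k ∈ 𝐂(K) := by
    rw [Commute.mul_pow (hc s hs), mul_eq_one_iff_eq_inv] at hx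
    exact hx ▸ inv_mem (pow_mem hc _)
  obtain ⟨j, hj⟩ := pow_two_pow hz ⟨pow_mem hs _, a1⟩
  rw [← pow_mul, ← pow_add] at hj
  refine zpowers_le.1 (hT.le_of_norm Nat.prime_two (two_zp hj) (zpowers_le.2 hs)
    (zpowers_le.2 ?_))
  simpa using mul_mem h2 (inv_mem (cent_le_norm T (cent_anti hT.le hc)))

/-- The local situation. -/
structure Lo (X A : Subgroup G) : Prop where
  od : od X = ⊥
  el : IsElementaryAbelian 2 A
  le : A ≤ X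
  sc : SC X A
  i3 : I3 G
  sz : ∀ K T, CompIn X K → IsSyl 2 T K →
    (¬ 3 ∣ 𝐨(K) ∧ ∃ Zh n r, SzT K T Zh n r) ∨ (3 ∣ 𝐨(K) ∧ L2T K T)

namespace Lo

variable {X A : Subgroup G} (h : Lo X A)
include h

theorem pg : IsPGroup 2 A := elemAb_isPGroup h.el

theorem sq {a : G} (ha : a ∈ A) : a * a = 1 := by rw [← pow_two]; exact h.el.2 a ha

theorem cc : A ≤ 𝐂(A) := isMulComm_iff_le_cent.1 h.el.1

theorem syl : ∃ S, IsSyl 2 S X ∧ A ≤ S := exists_isSyl_ge Nat.prime_two h.pg h.le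

theorem nrm {S : Subgroup G} (hS : IsSyl 2 S X) (hA : A ≤ S) : S ≤ 𝐍(A) :=
  h.sc.le_norm hS.le hS.pgrp hA

theorem fit : fittingOf X = pCoreOf 2 X := fittingOf_eq_pCoreOf Nat.prime_two h.od

theorem mem_fit {x : G} (hx : x ∈ X) (h1 : x ∈ 𝐂(pCoreOf 2 X))
    (h2 : ∀ K, CompIn X K → x ∈ 𝐂(K)) : x ∈ pCoreOf 2 X := by
  rw [← h.fit] at h1 ⊢
  refine H2.inf_centralizer_fstarOf_le_fittingOf X ⟨hx, ?_⟩
  rw [H2.fstarOf_eq, cent_sup, H2.layerOf_eq_sSup]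
  exact ⟨mem_cent_iff_cent1.2 (sSup_le fun K hK => mem_cent_iff_cent1.1 (h2 K hK)), h1⟩

theorem zc {K : Subgroup G} (hK : CompIn X K) : IsPGroup 2 (K ⊓ 𝐂(K) : Subgroup G) :=
  (H2.isPGroup_pCoreOf 2 X).to_le (hK.inf_centralizer_le_fittingOf.trans h.fit.le)

theorem szT {K T : Subgroup G} (hK : CompIn X K) (hT : IsSyl 2 T K) (h3 : ¬ 3 ∣ 𝐨(K)) :
    ∃ Zh n r, SzT K T Zh n r := (h.sz K T hK hT).elim (·.2) fun e => absurd e.1 h3

theorem l2T {K T : Subgroup G} (hK : CompIn X K) (hT : IsSyl 2 T K) (h3 : 3 ∣ 𝐨(K)) :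
    L2T K T := (h.sz K T hK hT).elim (fun e => absurd h3 e.1) (·.2)

theorem exT {K T : Subgroup G} (hK : CompIn X K) (hT : IsSyl 2 T K) : ∃ s ∈ T, s ∉ 𝐂(K) := by
  rcases h.sz K T hK hT with ⟨-, Zh, n, r, z⟩ | ⟨-, z⟩
  · exact z.exZ.imp fun s hs => ⟨z.zle hs.1, hs.2⟩
  · exact SetLike.not_le_iff_exists.1 fun e => by
      have := z.card
      rw [relIndex_eq_one.2 e] at this
      omega

theorem two_norm {K : Subgroup G} (hK : CompIn X K) (hd : 3 ∣ 𝐨(K)) {P : Subgroup G} (hP : P ≤ X)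
    (hp : IsPGroup 2 P) : P ≤ 𝐍(K) := fun _ hx =>
  (pow_two_pow hp hx).elim fun _ hk => P18.two_norm h.i3 hK (h.zc hK) hd (hP hx) hk

/-- 2-elements act as inner automorphisms on the components that they normalize. -/
theorem dec {S K : Subgroup G} (hS : IsSyl 2 S X) (hK : CompIn X K) {x : G} (hx : x ∈ S)
    (hn : x ∈ 𝐍(K)) : ∃ s ∈ S ⊓ K, ∃ c ∈ S ⊓ 𝐂(K), s * c = x := by
  obtain ⟨k, hk⟩ := pow_two_pow hS.pgrp hx
  have h1 : x ∈ K ⊔ 𝐂(K) := by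
    rcases h.sz K _ hK (P14.syl_comp hS hK) with ⟨-, Zh, n, r, z⟩ | ⟨-, z⟩
    exacts [z.inner x hn ⟨k, hk ▸ one_mem _⟩, z.inner x hn ⟨k, hk ▸ one_mem _⟩]
  obtain ⟨s, hs, c, hc, rfl⟩ := dec_of (P14.syl_comp hS hK) (h.zc hK) hk h1
    (H1.le_normalizer_inf (zpowers_le.2 (le_norm_self S hx)) (zpowers_le.2 hn) (mem_zpowers x))
  exact ⟨s, hs, c, ⟨(S.mul_mem_cancel_left hs.1).1 hx, hc⟩, rfl⟩

theorem le_norm {K : Subgroup G} (hK : CompIn X K) : A ≤ 𝐍(K) := fun a ha => by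
  by_cases h3 : 3 ∣ 𝐨(K)
  · exact h.two_norm hK h3 h.le h.pg ha
  by_contra hn
  obtain ⟨S, hS, hA⟩ := h.syl
  obtain ⟨Zh, n, r, z⟩ := h.szT hK (P14.syl_comp hS hK) h3
  refine z.not_le fun s hs => (z.zh s).2 ⟨hs, ?_⟩
  have a1 : a * s * a⁻¹ ∈ 𝐂(K) := by
    by_contra e
    exact hn (comp_norm hK (h.le ha) hs.2 e)
  have a2 := h.sq (cml (h.nrm hS hA hs.1) ha)
  rw [commutatorElement_def, ← pow_two, Commute.mul_pow (a1 _ (inv_mem hs.2)).symm, inv_pow,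
    mul_inv_eq_one] at a2
  rw [← pow_two, ← a2]
  exact pow_mem a1 2

theorem nT {S K : Subgroup G} (hA : A ≤ S) (hK : CompIn X K) : A ≤ 𝐍(S ⊓ K) :=
  H1.le_normalizer_inf (hA.trans (le_norm_self S)) (h.le_norm hK)

omit h in
theorem mem_norm_of {K D : Subgroup G} (hK : CompIn X K) (ho : Odd 𝐨(D)) {d y : G} (hd : d ∈ X)
    (hy : y ∈ K) (hy' : y ∉ 𝐂(K)) {k : ℕ} (hk : y ^ 2 ^ k = 1) (e : ⁅d, y⁆ ∈ D) : d ∈ 𝐍(K) := by
  refine comp_norm hK hd hy fun e' => hy' ?_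
  have := eq_one_of (k := k) (by
    rw [commutatorElement_def, Commute.mul_pow (e' _ (inv_mem hy)).symm, conj_pow, inv_pow,
      hk]; simp) (odd_of_mem ho e)
  rw [commutatorElement_def, mul_inv_eq_one] at this
  exact this ▸ e'

/-- An odd subgroup normalized by a component centralizes it. -/
theorem cent_of_norm {K D : Subgroup G} (hK : CompIn X K) (ho : Odd 𝐨(D)) (hD : D ≤ X)
    (hn : K ≤ 𝐍(D)) : D ≤ 𝐂(K) := by
  obtain ⟨T, hT⟩ := exists_isSyl Nat.prime_two K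
  obtain ⟨y, hy, hy'⟩ := h.exT hK hT
  obtain ⟨k, hk⟩ := pow_two_pow hT.pgrp hy
  have b4 : D ≤ 𝐍(K) := fun d hd =>
    mem_norm_of hK ho (hD hd) (hT.le hy) hy' hk (cml (hn (hT.le hy)) hd)
  rcases (H2.isQuasisimple_subgroup_iff.1 hK.2).2.2 (D ⊓ K) inf_le_right
    (H1.le_normalizer_inf hn (le_norm_self K)) with c3 | c3
  · exact absurd (eq_one_of hk (odd_of_mem ho (c3.ge (hT.le hy)).1) ▸ one_mem _) hy'
  refine fun d hd u hu => (commutatorElement_eq_one_iff_mul_comm.1 ?_).symm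
  have c1 : ⁅d, u⁆ ∈ D ⊓ K := ⟨cml (hn hu) hd, cmr (b4 hd) hu⟩
  obtain ⟨j, hj⟩ := pow_two_pow (h.zc hK) ⟨c1.2, c3 c1⟩
  exact eq_one_of hj (odd_of_mem ho c1.1)

/-- Balance. -/
theorem bal (na : ∀ K, CompIn X K → ¬ A ≤ 𝐂(K) → ¬ 3 ∣ 𝐨(K)) {a : G} (ha : a ∈ A) {D : Subgroup G}
    (ho : Odd 𝐨(D)) (hD : D ≤ X ⊓ 𝐂[a]) (hn : X ⊓ 𝐂[a] ≤ 𝐍(D)) : D = ⊥ := by
  obtain ⟨S, hS, hA⟩ := h.syl
  have hP := pCoreOf_normal 2 X
  have pP := H2.isPGroup_pCoreOf 2 X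
  have cop := H1.coprime_card_of_isPGroup pP (Nat.coprime_two_right.2 ho)
  have a1 : D ≤ 𝐂(pCoreOf 2 X) := H1.pxq_lemma (two_zp (k := 1) (h.el.2 a ha)) pP
    ((zpowers_le.2 (h.le ha)).trans hP.2) ((hD.trans inf_le_left).trans hP.2)
    (cent_comm.1 (by rw [cent_zpowers]; exact hD.trans inf_le_right)) cop (by
      rw [cent_zpowers]
      exact le_cent_of_norm_of_coprime ((inf_le_inf_right _ hP.1).trans hn)
        (H1.le_normalizer_inf ((hD.trans inf_le_left).trans hP.2)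
          ((hD.trans inf_le_right).trans (le_norm_self _)))
        (cop.coprime_dvd_right (FT.card_dvd_of_le inf_le_left)))
  refine eq_bot_iff.2 fun d hd => ?_
  suffices d ∈ pCoreOf 2 X from
    (H1.inf_eq_bot_of_coprime' cop).le ⟨hd, this⟩
  refine h.mem_fit (hD hd).1 (a1 hd) fun K hK => ?_
  by_cases h0 : a ∈ 𝐂(K)
  · exact h.cent_of_norm hK ho (hD.trans inf_le_left)
      ((le_inf hK.le (mem_cent_iff_cent1.1 h0)).trans hn) hd
  obtain ⟨Zh, n, r, z⟩ := h.szT hK (P14.syl_comp hS hK) (na K hK fun e => h0 (e ha))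
  have b1 := z.der_cent (h.sq ha) (h.le_norm hK ha) (h.nT hA hK ha)
  have b2 : ⁅S ⊓ K, S ⊓ K⁆ ≤ S ⊓ K := der_le _
  have b3 : ∀ y ∈ ⁅S ⊓ K, S ⊓ K⁆, ∀ d ∈ D, ⁅d, y⁆ ∈ D := fun y hy d hd =>
    cml (hn ⟨hK.le (b2 hy).2, b1 hy⟩) hd
  have b4 : D ≤ 𝐍(K) := fun d hd => by
    obtain ⟨y, hy, hy'⟩ := z.ex_der
    obtain ⟨k, hk⟩ := pow_two_pow hS.pgrp (b2 hy).1
    exact mem_norm_of hK ho (hD hd).1 (b2 hy).2 hy' hk (b3 y hy d hd)
  refine z.odd_cent (b4 hd) (odd_of_mem ho hd) fun y hy => ?_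
  have c1 : ⁅d, y⁆ ∈ D ⊓ K := ⟨b3 y hy d hd, cmr (b4 hd) (b2 hy).2⟩
  obtain ⟨s, hs, c, hc, e⟩ := z.dec2 (h.sq ha) (h.le_norm hK ha) (h.nT hA hK ha)
  have c2 := mem_cent1.1 (hD c1.1).2
  have c3 := z.cent s (z.zle hs) (fun h1 => h0 (e ▸ mul_mem h1 hc)) _ c1.2 (by
    rw [commutatorElement_eq_one_iff_mul_comm.2 (by
      rw [← e, mul_assoc, ← hc _ c1.2, ← mul_assoc, ← mul_assoc] at c2
      exact (mul_right_cancel c2).symm)]
    exact one_mem _)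
  obtain ⟨k, hk⟩ := pow_two_pow hS.pgrp c3.1
  rw [eq_one_of hk (odd_of_mem ho c1.1)]
  exact one_mem _

/-- Generation by the normalizer of `A` and the components moved by `A`. -/
theorem gen {M : Subgroup G} (h1 : X ⊓ 𝐍(A) ≤ M) (h2 : ∀ K, CompIn X K → ¬ A ≤ 𝐂(K) → K ≤ M) :
    X ≤ M := by
  obtain ⟨S, hS, hA⟩ := h.syl
  have hE : H2.layerOf X ⊲ X := ⟨H2.layerOf_le X, H2.le_normalizer_layerOf X⟩
  have hP := pCoreOf_normal 2 X
  rw [← (hS.inf_normal Nat.prime_two hE).frattini Nat.prime_two hE]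
  refine sup_le ?_ ?_
  · rw [H2.layerOf_eq_sSup]
    refine sSup_le fun K hK => ?_
    by_cases e : A ≤ 𝐂(K)
    · exact (le_inf hK.le ((cent_comm.1 e).trans (cent_le_norm A))).trans h1
    · exact h2 K hK e
  have a1 : S ≤ X ⊓ 𝐍(S ⊓ H2.layerOf X) :=
    le_inf hS.le (H1.le_normalizer_inf (le_norm_self S) (hS.le.trans hE.2))
  have a2 : pCoreOf 2 X ⊔ S ⊓ H2.layerOf X ≤ S := sup_le (hS.pCoreOf_le Nat.prime_two) inf_le_left
  have a3 : X ⊓ 𝐍(S ⊓ H2.layerOf X) ≤ 𝐍(pCoreOf 2 X ⊔ S ⊓ H2.layerOf X) :=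
    H1.le_normalizer_sup (inf_le_left.trans hP.2) inf_le_right
  have sc := h.sc.scl hS.le hS.pgrp hA
  have a4 : X ⊓ 𝐂(pCoreOf 2 X ⊔ S ⊓ H2.layerOf X) ≤ 𝐍(A) := fun y hy =>
    mem_norm_of_conj_le fun _ hx => by
      obtain ⟨a, ha, rfl⟩ := mem_conj'.1 hx
      refine sc a ha y hy.1 ?_
      have b1 := h.mem_fit (x := ⁅y, a⁆) (cml (le_norm_self X (h.le ha)) hy.1)
        (cml (norm_cent (hP.2 (h.le ha))) (cent_anti le_sup_left hy.2)) fun K hK => by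
          have b2 : y ∈ 𝐂(S ⊓ K) :=
            cent_anti ((inf_le_inf_left S hK.le_layerOf).trans le_sup_right) hy.2
          obtain ⟨u, hu, hu'⟩ := h.exT hK (P14.syl_comp hS hK)
          have b3 := comp_norm hK hy.1 hu.2 (by rwa [← b2 u hu, mul_inv_cancel_right])
          obtain ⟨s, hs, c, hc, rfl⟩ := h.dec hS hK (hA ha) (h.le_norm hK ha)
          have := cjm (norm_cent (le_norm_self K hs.2)) (cmr (norm_cent b3) hc.2)
          convert this using 1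
          simp only [commutatorElement_def]
          rw [← mul_assoc y, ← b2 s hs]; group
      simpa [commutatorElement_def] using mul_mem (hS.pCoreOf_le Nat.prime_two b1) (hA ha)
  intro x hx
  obtain ⟨m, hm, e⟩ := (sc.mono inf_le_left).ctrl (hS.of_le a1 inf_le_left) hA h.cc _ a2 x hx
    (by rwa [conj_eq_of_mem_norm (a3 hx)])
  have : m⁻¹ * x ∈ 𝐍(A) := a4 ⟨X.mul_mem (X.inv_mem hm.1.1) hx.1, fun t ht => by
    calc t * (m⁻¹ * x) = m⁻¹ * (m * t * m⁻¹) * x := by group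
      _ = m⁻¹ * x * t := by rw [← e t ht]; group⟩
  exact h1 ⟨hx.1, by simpa using mul_mem hm.2 this⟩

theorem act_conj {K : Subgroup G} (hK : CompIn X K) (hA : ¬ A ≤ 𝐂(K)) {g : G} (hg : g ∈ X) :
    ¬ A ≤ 𝐂(K ^ᵍ g) := fun e => hA <| by
  have a1 : X ≤ 𝐍(sSup {J | CompIn X J ∧ A ≤ 𝐂(J)}) := by
    refine h.gen (H2.le_normalizer_sSup fun g hg J hJ => le_sSup ⟨comp_conj hJ.1 hg.1, ?_⟩)
      fun K hK hA => le_trans (cent_comm.1 (sSup_le fun J hJ => ?_)) (cent_le_norm _)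
    · change A ≤ 𝐂(J ^ᵍ g)
      rw [← conj_eq_of_mem_norm hg.2]
      exact conj_le_cent_iff.2 hJ.2
    · exact hJ.1.le_centralizer_of_ne hK fun e => hA (e ▸ hJ.2)
  have a2 := conj_le_of_mem_norm
    (le_sSup (s := {J | CompIn X J ∧ A ≤ 𝐂(J)}) ⟨comp_conj hK hg, e⟩) (inv_mem (a1 hg))
  rw [conj_conj_inv] at a2
  exact cent_comm.1 (a2.trans (sSup_le fun J hJ => cent_comm.1 hJ.2))

/-- A linear component moved by `A`. -/
theorem l2 {S K : Subgroup G} (hS : IsSyl 2 S X) (hA : A ≤ S) (hK : CompIn X K) (act : ¬ A ≤ 𝐂(K))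
    (h3 : 3 ∣ 𝐨(K)) : ∃ d ∈ K ⊓ 𝐍(A), (∃ j : ℕ, d ^ 3 ^ j = 1) ∧ ⁅A, zpowers d⁆ ≤ A ⊓ K ∧
      𝐨(⁅A, zpowers d⁆) = 4 ∧ ⁅A, zpowers d⁆ ⊓ 𝐂[d] = ⊥ ∧ S ≤ ⁅A, zpowers d⁆ ⊔ S ⊓ 𝐂(K) ∧
      A ⊓ 𝐂[d] = A ⊓ 𝐂(K) := by
  classical
  have z := h.l2T hK (P14.syl_comp hS hK) h3
  obtain ⟨d, hd, ⟨j, hj⟩, h1⟩ := z.tri
  have nK := h.le_norm hK
  have cj : ∀ s, ∀ c ∈ 𝐂(K), ⁅d, s * c⁆ = ⁅d, s⁆ := fun s c hc => by
    simp only [commutatorElement_def]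
    rw [← mul_assoc d, mul_assoc (d * s), ← hc _ (inv_mem hd.1)]; group
  have a1 : d ∈ 𝐍(A) := mem_norm_of_conj_le fun x hx => by
    obtain ⟨a, ha, rfl⟩ := mem_conj'.1 hx
    refine h.sc.scl hS.le hS.pgrp hA a ha d (hK.le hd.1) ?_
    obtain ⟨s, hs, c, hc, rfl⟩ := h.dec hS hK (hA ha) (nK ha)
    have := mul_mem (cmr hd.2 hs).1 (hA ha)
    rwa [← cj s c hc.2, commutatorElement_def, inv_mul_cancel_right] at this
  have a2 : A ⊓ 𝐂[d] = A ⊓ 𝐂(K) := le_antisymm (fun a ha => by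
    obtain ⟨s, hs, c, hc, rfl⟩ := h.dec hS hK (hA ha.1) (nK ha.1)
    refine ⟨ha.1, mul_mem (h1 s hs ?_) hc.2⟩
    rw [← cj s c hc.2, commutatorElement_eq_one_iff_mul_comm.2 (mem_cent1.1 ha.2)]
    exact one_mem _) (inf_le_inf_left _ (cent_le_cent1 hd.1))
  have cop : 𝐨(zpowers d).Coprime 𝐨(A) := H1.coprime_card_of_isPGroup h.pg (by
    rw [Nat.card_zpowers]
    exact (Nat.Coprime.pow_left j (by norm_num)).coprime_dvd_left (orderOf_dvd_of_pow_eq_one hj))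
  have d4 := H1.centralizer_inf_commutator_eq_bot h.el.1 (zpowers_le.2 a1) cop
  have d5 := H1.commutator_sup_centralizer (zpowers_le.2 a1) cop
    (Or.inr (H1.isSolvable_of_isPGroup h.pg))
  rw [cent_zpowers] at d4 d5
  have v1 : ⁅A, zpowers d⁆ ≤ A := comm_le_left_iff.2 (zpowers_le.2 a1)
  have v2 : ⁅A, zpowers d⁆ ≤ K :=
    (commutator_mono nK (zpowers_le.2 hd.1)).trans (comm_le_right_iff.2 le_rfl)
  have v5 : d ∈ 𝐍(⁅A, zpowers d⁆) := H1.le_normalizer_commutator_self (mem_zpowers d)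
  refine ⟨d, ⟨hd.1, a1⟩, ⟨j, hj⟩, le_inf v1 v2, ?_⟩
  generalize ⁅A, zpowers d⁆ = V at d4 d5 v1 v2 v5 ⊢
  have v3 : 𝐂(K) ⊓ V = ⊥ := eq_bot_iff.2 ((inf_le_inf_right _ (cent_le_cent1 hd.1)).trans d4.le)
  have v4 : 𝐂(K).relIndex V = 𝐨(V) := by rw [← inf_relIndex_right, v3, relIndex_bot_left]
  have vT : V ≤ S ⊓ K := le_inf (v1.trans hA) v2
  have v6 : 𝐨(V) = 4 := by
    have b1 : 𝐨(V) ≤ 2 ^ 2 := v4 ▸ (relIndex_le_of_le_right vT (H2.relIndex_pos _ _).ne').trans z.card.le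
    obtain ⟨⟨v, hv⟩, b2⟩ := ne_bot_iff_exists_ne_one.1 fun e : V = ⊥ => act (by
      rw [← d5, e, bot_sup_eq, a2]; exact inf_le_right)
    obtain ⟨k, hk⟩ := exists_card_eq_pow Nat.prime_two (h.pg.to_le v1)
    have b3 : k ≤ 2 := (Nat.pow_le_pow_iff_right one_lt_two).1 (hk ▸ b1)
    have b4 : ¬ V ≤ zpowers v := fun e => b2 (Subtype.ext (d4.le ⟨mem_cent1_comm.1
      (mem_cent1_iff_conj.2 ?_), hv⟩))
    · have b5 := H1.card_lt_of_lt (lt_of_le_of_ne (zpowers_le.2 hv) fun e => b4 e.ge)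
      rw [Nat.card_zpowers, orderOf_eq_prime (h.el.2 v (v1 hv)) fun e => b2 (Subtype.ext e), hk] at b5
      rw [hk]
      interval_cases k <;> omega
    · have b5 := e (cjm v5 hv)
      rw [mem_zpowers_iff_mem_range_orderOf,
        orderOf_eq_prime (h.el.2 v (v1 hv)) fun e => b2 (Subtype.ext e)] at b5
      simp only [Finset.mem_image, Finset.mem_range] at b5
      obtain ⟨i, hi, e'⟩ := b5
      interval_cases i
      · exact absurd (Subtype.ext (by simpa using e'.symm)) b2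
      · simpa using e'.symm
  have v7 : S ⊓ K ≤ V ⊔ 𝐂(K) := by
    have b1 : V ⊔ 𝐂(K) ≤ S ⊓ K ⊔ 𝐂(K) := sup_le_sup_right vT _
    have b2 := relIndex_mul_relIndex 𝐂(K) _ _ le_sup_right b1
    rw [H1.relIndex_sup_of_le_normalizer (v2.trans ((le_norm_self K).trans norm_cent)),
      H1.relIndex_sup_of_le_normalizer (inf_le_right.trans ((le_norm_self K).trans norm_cent)),
      v4, v6, z.card] at b2
    exact le_sup_left.trans (relIndex_eq_one.1 (Nat.eq_of_mul_eq_mul_left four_pos b2))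
  refine ⟨v6, by rwa [inf_comm], fun x hx => ?_, a2⟩
  obtain ⟨s, hs, c, hc, rfl⟩ := h.dec hS hK hx (h.two_norm hK h3 hS.le hS.pgrp hx)
  obtain ⟨v, hv, c', hc', rfl⟩ := 
    (mem_sup_of_norm' (v2.trans ((le_norm_self K).trans norm_cent))).1 (sup_comm V _ ▸ v7 hs)
  exact mul_mem (mul_mem (mem_sup_left hv) (mem_sup_right
    ⟨(S.mul_mem_cancel_left (vT hv).1).1 hs.1, hc'⟩)) (mem_sup_right hc)

end Lo

end Cfsg.Agent.P18
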