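/-
P18, chapter B: blocks and the passage to local subgroups.
-/
import Cfsg.Agent.P18.BL

set_option autoImplicit false
set_option linter.unusedSectionVars false

namespace Cfsg.Agent.P18

open Subgroup Cfsg Cfsg.Agent Cfsg.Agent.FT Cfsg.Agent.P14
open Cfsg.Agent.P14.St (I3)
open Cfsg.Agent.H2 (CompIn)
open Cfsg.Agent.H7.SC (od br od_le od_inf)
open scoped commutatorElement

universe u

variable {G : Type u} [Group G] [Finite G]

theorem Lo.bk {X A S K : Subgroup G} (h : Lo X A) (hS : IsSyl 2 S X) (hA : A ≤ S)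
    (nf : H2.NF S A) (hK : CompIn X K) (act : ¬ A ≤ 𝐂(K)) (h3 : ¬ 3 ∣ 𝐨(K)) :
    Bk (S ⊓ 𝐂(A)) A (S ⊓ K) (S ⊓ 𝐂(A) ⊓ 𝐂(K)) := by
  obtain ⟨Zh, n, r, z⟩ := h.szT hK (P14.syl_comp hS hK) h3
  have nT := h.nT hA hK
  have nK := h.le_norm hK
  have TS : S ⊓ K ≤ S := inf_le_left
  have hT : ∀ x ∈ S, x ∈ K → x ∈ S ⊓ K := fun x a b => ⟨a, b⟩
  have nST : S ⊓ 𝐍(K) ≤ 𝐍(S ⊓ K) :=
    H1.le_normalizer_inf (inf_le_left.trans (le_norm_self S)) inf_le_right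
  generalize S ⊓ K = T at z nT TS hT nST
  have dec : ∀ a ∈ A, ∃ s ∈ Zh, ∃ c ∈ 𝐂(K), s * c = a := fun a ha =>
    z.dec2 (h.sq ha) (nK ha) (nT ha)
  have cj : ∀ d ∈ K, ∀ s, ∀ c ∈ 𝐂(K), d * (s * c) * d⁻¹ = d * s * d⁻¹ * c := fun d hd s c hc => by
    rw [mul_assoc (d * s), hc _ (inv_mem hd)]; group
  have a1 : K ⊓ 𝐍(T) ≤ 𝐍(A) := fun d hd => mem_norm_of_conj_le fun x hx => by
    obtain ⟨a, ha, rfl⟩ := mem_conj'.1 hx
    refine h.sc.scl hS.le hS.pgrp hA a ha d (hK.le hd.1) ?_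
    obtain ⟨s, hs, c, hc, rfl⟩ := dec a ha
    have := mul_mem (TS (cmr hd.2 (z.zle hs))) (hA ha)
    rwa [cj d hd.1 s c hc, ← inv_mul_cancel_left s c, ← mul_assoc]
  have a2 : Zh ≤ 𝐂(A) := cent_comm.1 fun a ha =>
    mem_cent_iff_cent1.2 (z.zh_cent (h.sq ha) (nK ha) (nT ha))
  have a3 : A ≤ Zh ⊔ 𝐂(K) := fun a ha => by
    obtain ⟨s, hs, c, hc, rfl⟩ := dec a ha
    exact mul_mem (mem_sup_left hs) (mem_sup_right hc)
  have nC : K ≤ 𝐍(𝐂(K)) := (le_norm_self K).trans norm_cent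
  have a4 : T ≤ 𝐂(A) := by
    refine (z.eq_or a2 (H1.le_normalizer_centralizer a1)).resolve_left fun e => ?_
    have b1 := nf T TS (z.der_le_zh.trans a2) fun x hx => a2 (by rw [pow_two]; exact z.sq x hx)
    have b2 : 𝐂(A).relIndex T = 2 ^ n := by
      rw [← inf_relIndex_left, le_antisymm e (le_inf z.zle a2), z.cardT]
    have b3 : 𝐂(T).relIndex A ≤ 2 ^ n := by
      refine (relIndex_le_of_le_left (cent_anti z.le) (H2.relIndex_pos _ _).ne').trans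
        ((relIndex_le_of_le_right a3 (H2.relIndex_pos _ _).ne').trans ?_)
      rw [H1.relIndex_sup_of_le_normalizer ((z.zle.trans z.le).trans nC), z.cardZ]
    have := z.one_lt
    rw [b2] at b1
    nlinarith
  have a5 : Zh ≤ A ⊔ 𝐂(K) := fun y hy => by
    by_cases e : y ∈ 𝐂(K)
    · exact mem_sup_right e
    obtain ⟨a, ha, ha'⟩ := SetLike.not_le_iff_exists.1 act
    obtain ⟨s, hs, c, hc, rfl⟩ := dec a ha
    obtain ⟨d, hd, -, e'⟩ := z.trZ s hs (fun e => ha' (mul_mem e hc)) y hy e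
    have := mul_mem (mem_sup_left (T := 𝐂(K)) (cjm (a1 hd) ha))
      (mem_sup_right (mul_mem (inv_mem hc) e'))
    rwa [cj d hd.1 s c hc, ← mul_assoc, mul_inv_cancel_right, mul_inv_cancel_left] at this
  have sT := z.syl.of_le (le_inf z.le (le_norm_self T)) (inf_le_left (b := 𝐍(T)))
  obtain ⟨D, d1, d2, -, d3⟩ := H1.exists_complement_of_coprime sT.le inf_le_right
    (H1.coprime_card_of_isPGroup sT.pgrp
      (Nat.coprime_two_right.2 (Nat.not_even_iff_odd.1 fun k => sT.ndvd k.two_dvd))).symm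
  have cop : 𝐨(D).Coprime 𝐨(A) := H1.coprime_card_of_isPGroup h.pg (d3 ▸
    Nat.coprime_two_right.2 (Nat.not_even_iff_odd.1 fun k => sT.ndvd k.two_dvd))
  have d4 := H1.centralizer_inf_commutator_eq_bot h.el.1 (d1.trans a1) cop
  have d5 := H1.commutator_sup_centralizer (d1.trans a1) cop
    (Or.inr (H1.isSolvable_of_isPGroup h.pg))
  have DK : D ≤ K := d1.trans inf_le_left
  have d6 : A ⊓ 𝐂(D) ≤ 𝐂(K) := fun a ha => by
    obtain ⟨s, hs, c, hc, rfl⟩ := dec a ha.1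
    refine mul_mem ?_ hc
    by_contra e
    have : ¬ 𝐂(K).relIndex Zh ∣ 2 := fun e => by
      have := Nat.le_of_dvd two_pos e
      have := Nat.pow_le_pow_right two_pos z.three
      have := z.cardZ
      omega
    refine this (relIndex_dvd_two_iff.2 ⟨s⁻¹, inv_mem hs, fun y hy => ?_⟩)
    by_cases e' : y ∈ 𝐂(K)
    · exact Or.inr e'
    obtain ⟨d, hd, -, e⟩ := z.trZ s hs e y hy e'
    have b1 : d ∈ 𝐂[s * c] := (d2.ge.trans (sup_le (mem_cent_iff_cent1.1 ha.2)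
      (mem_cent_iff_cent1.1 (cent_comm.1 a4 ha.1)))) hd
    have b2 := mem_cent1_iff_conj.1 b1
    rw [cj d hd.1 s c hc] at b2
    rw [mul_right_cancel b2] at e
    have := cjm (nC (z.le (z.zle hs))) e
    rw [mul_inv_cancel_left] at this
    exact Or.inl this
  have v1 : ⁅A, D⁆ ≤ A := comm_le_left_iff.2 (d1.trans a1)
  have v2 : ⁅A, D⁆ ≤ K := (commutator_mono nK DK).trans (comm_le_right_iff.2 le_rfl)
  have v3 : ⁅A, D⁆ ⊓ 𝐂(K) = ⊥ := eq_bot_iff.2 ((le_inf (inf_le_right.trans (cent_anti DK))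
    inf_le_left).trans d4.le)
  have v4 : A ≤ ⁅A, D⁆ ⊔ A ⊓ 𝐂(K) := d5.ge.trans (sup_le_sup_left (le_inf inf_le_left d6) _)
  have v5 : D ≤ 𝐍(⁅A, D⁆) := H1.le_normalizer_commutator_self
  have v6 : ⁅⁅A, D⁆, D⁆ ≤ ⁅A, D⁆ := commutator_mono v1 le_rfl
  generalize ⁅A, D⁆ = V at v1 v2 v3 v4 v5 v6
  have v7 : V ≤ Zh := fun v hv => (z.zh v).2 ⟨hT v (hA (v1 hv)) (v2 hv), by
    rw [h.sq (v1 hv)]; exact one_mem _⟩
  have v8 : Zh ≤ V ⊔ K ⊓ 𝐂(K) := by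
    rw [inf_comm, ← sup_inf_of_le_left ((cent_anti v2).trans (cent_le_norm V)) v2]
    exact le_inf (a5.trans (sup_le (v4.trans (sup_le_sup_left inf_le_right _)) le_sup_right))
      (z.zle.trans z.le)
  have v9 : Zh ≤ 𝐂(T) := v8.trans (sup_le (v1.trans (cent_comm.1 a4))
    (inf_le_right.trans (cent_anti z.le)))
  have w1 : ⁅T, T⁆ ≤ V := by
    by_contra e
    obtain ⟨J, j1, j2, j3⟩ := exists_two (z.syl.pgrp.to_le (sup_le z.der_le_zh v7 |>.trans z.zle))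
      (right_lt_sup.2 e)
    have j4 : J ≤ Zh := j2.trans (sup_le z.der_le_zh v7)
    have j5 : T ≤ 𝐍(J) := (cent_comm.1 (j4.trans v9)).trans (cent_le_norm J)
    have j6 : D ≤ 𝐍(J) := by
      refine comm_le_left_iff.1 (le_trans ?_ j1)
      rw [commutator_comm]
      refine (commutator_mono le_rfl (j4.trans v8)).trans (H1.commutator_sup_le (le_norm_self V)
        ((inf_le_right.trans (cent_anti v2)).trans (cent_le_norm V)) (commutator_comm V D ▸ v6) ?_)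
      exact (comm_eq_bot_iff.2 (DK.trans (cent_comm.1 inf_le_right))).le.trans bot_le
    have j7 : K ⊓ 𝐍(T) ≤ 𝐍(J) := d2.ge.trans (sup_le j6 j5)
    obtain ⟨m, hm⟩ := even_codim z.syl.pgrp j5
      (j3 ▸ relIndex_le_of_le_right le_sup_left (H2.relIndex_pos _ _).ne')
    have j8 : Zh ≤ H1.commStab T J := H1.le_commStab_iff.2 ⟨z.zle.trans j5,
      (comm_eq_bot_iff.2 (cent_comm.1 v9)).le.trans bot_le⟩
    rcases z.eq_or j8 (fun g hg => mem_norm_of_conj_le fun x hx => by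
      obtain ⟨y, hy, rfl⟩ := mem_conj'.1 hx
      refine ⟨mul_mem (mul_mem (j7 hg) hy.1) (inv_mem (j7 hg)), fun u hu => ?_⟩
      have := cjm (j7 hg) (hy.2 _ (cjm (inv_mem hg.2) hu))
      convert this using 1
      simp only [commutatorElement_def]; group) with e' | e'
    · rw [← inf_relIndex_left, le_antisymm e' (le_inf z.zle j8), z.cardT] at hm
      have := Nat.pow_right_injective le_rfl hm
      have := z.odd
      rw [Nat.odd_iff] at this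
      omega
    · rw [relIndex_eq_one.2 (sup_le (H1.le_commStab_iff.1 e').2 j1)] at j3
      omega
  have nZ : K ⊓ 𝐂(K) ≤ 𝐍(⁅T, T⁆) :=
    inf_le_right.trans ((cent_anti ((der_le T).trans z.le)).trans (cent_le_norm _))
  have w2 : V = ⁅T, T⁆ := le_antisymm (by
    have := sup_inf_of_le_left nZ w1
    rw [inf_eq_right.2 (v7.trans z.der), eq_bot_iff.2
      ((le_inf inf_le_right (inf_le_left.trans inf_le_right)).trans v3.le), sup_bot_eq] at this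
    exact this.le) w1
  subst w2
  have AR : A ≤ S ⊓ 𝐂(A) := le_inf hA h.cc
  have r1 : ∀ x ∈ S ⊓ 𝐂(A), ∃ s ∈ T, ∃ c ∈ S ⊓ 𝐂(A) ⊓ 𝐂(K), s * c = x := fun x hx => by
    obtain ⟨u, hu, hu'⟩ := z.ex_der
    have b1 : x ∈ 𝐍(K) := comp_norm hK (hS.le hx.1) (v2 hu) (by
      rwa [← hx.2 u (v1 hu), mul_inv_cancel_right])
    obtain ⟨k, hk⟩ := pow_two_pow hS.pgrp hx.1
    obtain ⟨s, hs, c, hc, rfl⟩ := z.dec hk b1 (nST ⟨hx.1, b1⟩)
    refine ⟨s, hs, c, ⟨?_, hc⟩, rfl⟩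
    simpa using (S ⊓ 𝐂(A)).mul_mem (inv_mem (⟨TS hs, a4 hs⟩ : s ∈ S ⊓ 𝐂(A))) hx
  have TR : T ≤ S ⊓ 𝐂(A) := le_inf TS a4
  have r2 : S ⊓ 𝐂(A) ≤ T ⊔ S ⊓ 𝐂(A) ⊓ 𝐂(K) := fun x hx => by
    obtain ⟨s, hs, c, hc, rfl⟩ := r1 x hx
    exact mul_mem (mem_sup_left hs) (mem_sup_right hc)
  have r3 : T ≤ 𝐂(S ⊓ 𝐂(A) ⊓ 𝐂(K)) := z.le.trans (cent_comm.1 inf_le_right)
  have r4 : S ⊓ 𝐂(A) ≤ 𝐍(S ⊓ 𝐂(A) ⊓ 𝐂(K)) :=
    r2.trans (sup_le (r3.trans (cent_le_norm _)) (le_norm_self _))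
  refine ⟨TR, inf_le_left, r2, r3, v1, eq_bot_iff.2 ((inf_le_inf_left _ inf_le_right).trans v3.le),
    v4.trans (sup_le_sup_left (le_inf inf_le_left (inf_le_inf_right _ AR)) _), ?_,
    fun U hU Y hY e1 e2 => ?_⟩
  · refine (Nat.pow_le_pow_right two_pos z.three).trans (z.cardZ.ge.trans
      ((relIndex_le_of_le_right (z.der.trans (sup_le_sup_left inf_le_right _))
        (H2.relIndex_pos _ _).ne').trans ?_))
    rw [H1.relIndex_sup_of_le_normalizer (v2.trans nC)]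
    exact Nat.le_of_dvd Nat.card_pos (relIndex_dvd_card _ _)
  have WC : S ⊓ 𝐂(A) ⊓ 𝐂(K) ≤ 𝐂(K) := inf_le_right
  have WR : S ⊓ 𝐂(A) ⊓ 𝐂(K) ≤ S ⊓ 𝐂(A) := inf_le_left
  have dk : (A ⊔ 𝐂(K)) ⊓ (S ⊓ 𝐂(A)) = A ⊔ S ⊓ 𝐂(A) ⊓ 𝐂(K) := by
    rw [sup_comm, sup_inf_of_le_right (nK.trans norm_cent) AR, sup_comm, inf_comm]
  generalize S ⊓ 𝐂(A) ⊓ 𝐂(K) = W at *
  generalize S ⊓ 𝐂(A) = R at *
  have k1 : ∀ U ≤ R, U ≤ T ⊓ (U ⊔ W) ⊔ W := fun U hU x hx => by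
    obtain ⟨s, hs, c, hc, rfl⟩ := r1 x (hU hx)
    exact mul_mem (mem_sup_left ⟨hs, by
      simpa using mul_mem (mem_sup_left hx) (mem_sup_right (S := U) (inv_mem hc))⟩)
      (mem_sup_right hc)
  have k2 : ∀ U ≤ R, T ⊓ (U ⊔ W) ≤ Zh → U ≤ A ⊔ W := fun U hU e =>
    (k1 U hU).trans (sup_le (dk ▸ le_inf (e.trans a5) (inf_le_left.trans TR)) le_sup_right)
  have k3 : ⁅U ⊔ W, Y ⊔ W⁆ ≤ W := by
    refine H1.commutator_sup_le (hY.trans r4) (le_norm_self W) ?_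
      (comm_le_right_iff.2 ((sup_le hU WR).trans r4))
    rw [commutator_comm]
    exact H1.commutator_sup_le (hU.trans r4) (le_norm_self W) (commutator_comm U Y ▸ e1)
      (comm_le_right_iff.2 (hY.trans r4))
  exact (z.cp _ inf_le_left _ inf_le_left
    ((commutator_mono inf_le_right inf_le_right).trans (k3.trans WC))
    ((TR.trans e2).trans (sup_le (sup_le
      ((k1 U hU).trans (sup_le_sup le_sup_left WC)) ((k1 Y hY).trans (sup_le_sup le_sup_right WC)))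
      (WC.trans le_sup_right)))).imp (k2 U hU) (k2 Y hY)

theorem sz_of (hZ : ZStmt.{u}) {X : Subgroup G} (h0 : od X = ⊥) (h3 : I3 G)
    (kh : K3.{u} (𝐨(X) + 1)) (K T : Subgroup G) (hK : CompIn X K) (hT : IsSyl 2 T K) :
    (¬ 3 ∣ 𝐨(K) ∧ ∃ Zh n r, SzT K T Zh n r) ∨ (3 ∣ 𝐨(K) ∧ L2T K T) :=
  hZ G K T h3 hK.2 ((H2.isPGroup_pCoreOf 2 X).to_le (hK.inf_centralizer_le_fittingOf.trans
    (fittingOf_eq_pCoreOf Nat.prime_two h0).le))
    (kh.mono (Nat.succ_le_succ ((Nat.le_of_dvd Nat.card_pos (relIndex_dvd_card _ _)).trans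
      (card_le_of_le hK.le)))) hT

namespace Gl

variable {A S : Subgroup G} (h : Gl A S)
include h

theorem pg : IsPGroup 2 A := elemAb_isPGroup h.el

theorem sq {a : G} (ha : a ∈ A) : a * a = 1 := by rw [← pow_two]; exact h.el.2 a ha

theorem cc : A ≤ 𝐂(A) := isMulComm_iff_le_cent.1 h.el.1

theorem nrm : S ≤ 𝐍(A) := h.sc.le_norm le_top h.syl.pgrp h.le

theorem scl : SCl ⊤ S A := h.sc.scl le_top h.syl.pgrp h.le

theorem elt {t g : G} (ht : t ∈ S) (e : g * t * g⁻¹ ∈ S) :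
    ∃ m ∈ 𝐍(A), g * t * g⁻¹ = m * t * m⁻¹ :=
  ((h.scl.ctrl h.syl h.le h.cc).elt ht (mem_top g) e).imp fun _ a => ⟨a.1.2, a.2⟩

theorem norm_ne {U : Subgroup G} (h1 : U ≠ ⊥) (h2 : U ≠ ⊤) : 𝐍(U) ≠ ⊤ := fun e =>
  (h.sim.eq_bot_or_eq_top_of_normal U (normal_iff_top_le.2 e.ge)).elim h1 h2

theorem cent_ne {a : G} (h1 : a ≠ 1) : 𝐂[a] ≠ ⊤ := fun e =>
  h.norm_ne (zpowers_ne_bot.2 h1) (fun e' => h.nc ⟨⟨fun x y => by
    obtain ⟨m, rfl⟩ := e'.ge (mem_top x)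
    exact Commute.zpow_left (mem_cent1.1 (e.ge (mem_top y))) m⟩⟩)
    (top_le_iff.1 (e.ge.trans ((cent_zpowers a).ge.trans (cent_le_norm _))))

theorem sylR : IsSyl 2 (S ⊓ 𝐂(A)) 𝐂(A) :=
  (h.syl.of_le h.nrm le_top).inf_normal Nat.prime_two ⟨cent_le_norm A, norm_cent⟩

theorem leR : A ≤ S ⊓ 𝐂(A) := le_inf h.le h.cc

theorem card_lt {X : Subgroup G} (hX : X ≠ ⊤) : 𝐨(X) + 1 ≤ Nat.card G :=
  (H1.card_lt_of_lt (lt_top_iff_ne_top.2 hX)).trans_eq card_top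

theorem lo' {X : Subgroup G} (hX : X ≠ ⊤) (hA : A ≤ X) (h0 : od X = ⊥) : Lo X A :=
  ⟨h0, h.el, hA, h.sc.mono le_top, h.i3, sz_of h.z h0 h.i3 (h.k3.mono (h.card_lt hX))⟩

theorem lo {X : Subgroup G} (hX : X ≠ ⊤) (hA : A ≤ X) : Lo ⊤ (br X A) := by
  have a1 : 𝐨((⊤ : Subgroup (X ⧸ (od X).subgroupOf X))) ∣ 𝐨(X) :=
    H1.bar_top (Y := X) (N := od X) ▸ H1.card_bar_dvd X
  refine ⟨H7.SC.od_br X, H7.SC.elemAb_br hA h.el, le_top, ?_, P18.A.i3_bar h.i3 X _,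
    sz_of h.z (H7.SC.od_br X) (P18.A.i3_bar h.i3 X _)
    (h.k3.mono ((Nat.succ_le_succ (Nat.le_of_dvd Nat.card_pos a1)).trans (h.card_lt hX)))⟩
  obtain ⟨P, hP, hAP⟩ := exists_isSyl_ge Nat.prime_two h.pg hA
  refine SCl.sc ?_ (H7.SC.isSyl_br hP) (H1.bar_mono hAP)
  rintro _ ⟨a, ha, rfl⟩ g - e
  obtain ⟨g, rfl⟩ := H1.qmk_surjective g
  rw [← map_inv, ← map_mul, ← map_mul] at e ⊢
  rw [H1.qmk_mem_bar_iff (od_le X) hP.le] at e
  rw [H1.qmk_mem_bar_iff (od_le X) hA]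
  obtain ⟨k, hk, e'⟩ := (H7.SC.isSyl_sup_od hP.le hP.pgrp).exists_conj_le Nat.prime_two
    (two_zp (k := 1) (x := (g : G) * a * (g : G)⁻¹) (by
      rw [conj_pow, pow_one, h.el.2 a ha]; group)) (zpowers_le.2 e)
  have a2 := h.sc P le_top hP.pgrp hAP a ha (k * g) trivial (by
    have := e' (conj_mem_conj (mem_zpowers _) k)
    convert this using 1; group)
  have a3 : P ⊔ od X ≤ 𝐍(A ⊔ od X) := sup_le (H1.le_normalizer_sup
    (h.sc.le_norm le_top hP.pgrp hAP) (hP.le.trans (H7.SC.le_norm_od X)))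
    (le_sup_right.trans (le_norm_self _))
  have := cjm (inv_mem (a3 hk)) (mem_sup_left a2)
  convert this using 1
  push_cast; group

theorem le_cent {a : G} (ha : a ∈ A) : A ≤ 𝐂[a] := h.cc.trans (cent_le_cent1 ha)

theorem sylX {a : G} (ha : a ∈ A) :
    ∃ P, IsSyl 2 P 𝐂[a] ∧ A ≤ P ∧ P ⊓ 𝐂(A) = S ⊓ 𝐂(A) ∧ H2.NF P A := by
  obtain ⟨P, hP, e⟩ := exists_isSyl_ge Nat.prime_two h.sylR.pgrp
    (inf_le_right.trans (cent_le_cent1 ha))
  exact ⟨P, hP, h.leR.trans e, h.sylR.eq_of_le Nat.prime_two (le_inf e inf_le_right) inf_le_right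
    (hP.pgrp.to_le inf_le_left), h.nf P (h.sc.le_norm le_top hP.pgrp (h.leR.trans e)) hP.pgrp⟩

theorem ne_top : A ≠ ⊤ := fun e => h.nc ⟨⟨fun x y => h.cc (e.ge (mem_top y)) x (e.ge trivial)⟩⟩

theorem mem_of_conj {M : Subgroup G} (h1 : 𝐍(A) ≤ M) (h2 : ∀ a ∈ A, a ≠ 1 → 𝐂[a] ≤ M) {a g : G}
    (ha : a ∈ A) (a1 : a ≠ 1) (hg : g * a * g⁻¹ ∈ M) : g ∈ M := by
  obtain ⟨m, hm, e⟩ := (h.syl.of_le (h.nrm.trans h1) le_top).exists_conj_le Nat.prime_two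
    (two_zp (k := 1) (x := g * a * g⁻¹) (by rw [conj_pow, pow_one, h.el.2 a ha]; group))
    (zpowers_le.2 hg)
  obtain ⟨n, hn, e'⟩ := h.elt (g := m * g) (h.le ha) (by
    have := e (conj_mem_conj (mem_zpowers _) m)
    convert this using 1; group)
  have : n⁻¹ * (m * g) ∈ M := h2 a ha a1 (mem_cent1_iff_conj.2 (by
    calc _ = n⁻¹ * (m * g * a * (m * g)⁻¹) * n := by group
      _ = _ := by rw [e']; group))
  exact (mul_mem_cancel_left hm).1 ((mul_mem_cancel_left (inv_mem (h1 hn))).1 this)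

theorem one_class {M : Subgroup G} (h0 : M ≠ ⊤) (h1 : 𝐍(A) ≤ M) (h2 : ∀ a ∈ A, a ≠ 1 → 𝐂[a] ≤ M) :
    ∀ x ∈ A, x ≠ 1 → ∀ y ∈ A, y ≠ 1 → ∃ g ∈ 𝐍(A), g * x * g⁻¹ = y := by
  intro a ha a1 y hy y1
  obtain ⟨g, -, hg⟩ := SetLike.not_le_iff_exists.1 (mt top_le_iff.1 h0)
  have u1 : g * y * g⁻¹ * (g * y * g⁻¹) = 1 := by rw [conj_mul, h.sq hy]; group
  have u2 : g * y * g⁻¹ ∉ M := fun e => hg (h.mem_of_conj h1 h2 hy y1 e)
  rcases Nat.even_or_odd (orderOf (a * (g * y * g⁻¹))) with e | e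
  · obtain ⟨k, k1, k2, k3, k4⟩ := L.exists_invol_commute_of_even (h.sq ha) u1 e
    have k5 : ∃ x : G, ∃ z ∈ A, a * (a * (g * y * g⁻¹)) ^ k = x * z * x⁻¹ := by
      obtain ⟨x, e | e⟩ := dih (h.sq ha) u1 k
      · exact ⟨x, a, ha, e⟩
      · exact ⟨x * g, y, hy, by rw [e]; group⟩
    generalize (a * (g * y * g⁻¹)) ^ k = c at *
    obtain ⟨x, z, hz, k5⟩ := k5
    obtain ⟨w, -, hw⟩ := h.syl.exists_conj_le Nat.prime_two (Q := zpowers a ⊔ zpowers c)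
      (elemAb_isPGroup (elemAb_sup (elemAb_zpowers (h.el.2 a ha)) (elemAb_zpowers (by rwa [pow_two]))
        (zpowers_le.2 (by rw [cent_zpowers]; exact mem_cent1.2 k3.symm)))) le_top
    have w1 := h.scl a ha w trivial (hw (conj_mem_conj (mem_sup_left (mem_zpowers a)) w))
    have w2 := h.scl z hz (w * x) trivial (by
      have := hw (conj_mem_conj (mul_mem (mem_sup_left (mem_zpowers a))
        (mem_sup_right (mem_zpowers c))) w)
      rw [k5] at this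
      convert this using 1; group)
    have w3 : w * c * w⁻¹ ∈ A := by
      have := mul_mem (inv_mem w1) w2
      rwa [show w * x * z * (w * x)⁻¹ = w * (x * z * x⁻¹) * w⁻¹ by group, ← k5, ← conj_mul,
        inv_mul_cancel_left] at this
    have w4 := h2 _ w3 (by simpa using k1)
    rw [cent1_conj, conj_le_iff, conj_eq_of_mem
      (inv_mem (h.mem_of_conj h1 h2 ha a1 (h1 (le_normalizer w1))))] at w4
    exact absurd (w4 (mem_cent1.2 k4)) u2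
  · obtain ⟨k, k1, k2⟩ := L.exists_invol_conj_of_odd (h.sq ha) u1 e
    generalize a * (a * (g * y * g⁻¹)) ^ k = c at *
    have : g⁻¹ * c * a * (g⁻¹ * c)⁻¹ = y := by
      rw [mul_inv_rev, inv_eq_of_mul_eq_one_right k1]
      calc _ = g⁻¹ * (c * a * c) * g := by group
        _ = _ := by rw [k2]; group
    obtain ⟨m, hm, e⟩ := h.elt (g := g⁻¹ * c) (h.le ha) (this ▸ h.le hy)
    exact ⟨m, hm, e ▸ this⟩

end Gl

theorem na_of {A X : Subgroup G} (h : ¬ Act A X) (K : Subgroup (X ⧸ (od X).subgroupOf X))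
    (hK : CompIn ⊤ K) (act : ¬ br X A ≤ 𝐂(K)) : ¬ 3 ∣ 𝐨(K) := fun e => h ⟨K, hK, act, e⟩

theorem b2Stmt : B2Stmt.{u} := by
  intro G _ _ A S h h4 X hX hA na
  obtain ⟨P, hP, p1⟩ := exists_isSyl_ge Nat.prime_two h.pg hA
  have lo := h.lo hX hA
  have := lo.gen (M := br X (X ⊓ 𝐍(A))) (by rw [top_inf_eq, H7.SC.norm_br h.pg hA])
    fun K hK act => by
      have b := lo.bk (H7.SC.isSyl_br hP) (H1.bar_mono p1) (H7.SC.nf_br hP.pgrp hP.le p1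
        (h.nf P (h.sc.le_norm le_top hP.pgrp p1) hP.pgrp)) hK act (na_of na K hK act)
      have := (b.big.trans (card_le_of_le b.vle)).trans
        (Nat.le_of_dvd Nat.card_pos (H1.card_bar_dvd A))
      omega
  rwa [← H1.bar_top, H1.bar_le_bar_iff (od_le _) le_rfl inf_le_left, sup_comm] at this

end Cfsg.Agent.P18
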