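/-
P18, chapter B1 (port of P14/B3, P14/B4).
-/
import Cfsg.Agent.P18.BG

set_option autoImplicit false
set_option linter.unusedSectionVars false

namespace Cfsg.Agent.P18

open Subgroup Cfsg Cfsg.Agent Cfsg.Agent.FT Cfsg.Agent.P14
open Cfsg.Agent.H2 (CompIn)
open Cfsg.Agent.H2.ZC (oc wc oc_le oc_cop le_norm_oc le_wc wc_le wc_mono wc_conj)
open Cfsg.Agent.H7.SC (od br od_le od_inf)
open Cfsg.Agent.P14.Gl (norm_wc)
open scoped commutatorElement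

universe u

variable {G : Type u} [Group G] [Finite G]

namespace Gl

variable {A S : Subgroup G} (h : Gl A S)
include h

theorem vs_conj {V : Subgroup G} (hV : V ∈ VS A S) {g : G} (hg : g ∈ 𝐍(A)) : V ^ᵍ g ∈ VS A S := by
  obtain ⟨T, W, b, rfl⟩ := hV
  rw [← h.sylR.frattini Nat.prime_two ⟨cent_le_norm A, norm_cent⟩] at hg
  obtain ⟨c, hc, m, hm, rfl⟩ := (mem_sup_of_norm (inf_le_left.trans norm_cent)).1 hg
  have b' := b.conj hm.2 hm.1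
  refine ⟨_, _, b', ?_⟩
  rw [← conj_conj, conj_comm, conj_eq_of_mem_norm (cent_le_norm _ (cent_anti b'.vle hc))]

variable {T W T' W' : Subgroup G} (b : Bk (S ⊓ 𝐂(A)) A T W)
include b

theorem inf_eq : A ⊓ W = sSup {V | V ∈ VS A S ∧ V ≠ ⁅T, T⁆} := by
  have a1 : ∀ {s : Set (Subgroup G)}, s ⊆ VS A S → sSup s ≤ A := fun hs =>
    sSup_le fun V hV => by obtain ⟨T, W, b, rfl⟩ := hs hV; exact b.vle
  have a2 := (h.irr _ (a1 le_rfl) (H2.le_normalizer_sSup fun g hg V hV =>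
    le_sSup (h.vs_conj hV hg))).resolve_left fun e => b.ne (eq_bot_iff.2
      ((le_sSup (s := VS A S) ⟨T, W, b, rfl⟩).trans e.le))
  have a3 : sSup {V | V ∈ VS A S ∧ V ≠ ⁅T, T⁆} ≤ W := sSup_le fun V hV => by
    obtain ⟨⟨T', W', b', rfl⟩, e⟩ := hV
    exact (b'.dich b h.leR inf_le_right).resolve_left e
  have a4 := a1 (s := {V | V ∈ VS A S ∧ V ≠ ⁅T, T⁆}) fun _ a => a.1
  refine le_antisymm ?_ (le_inf a4 a3)
  have a5 := sup_inf_of_le_right (A := ⁅T, T⁆)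
    ((a4.trans h.cc).trans ((cent_anti b.vle).trans (cent_le_norm _))) a3
  rw [b.disj, bot_sup_eq] at a5
  refine (inf_le_inf_right W (a2.ge.trans (sSup_le fun V hV => ?_))).trans a5.le
  by_cases e : V = ⁅T, T⁆
  · exact e.le.trans le_sup_left
  · exact (le_sSup (s := {V | V ∈ VS A S ∧ V ≠ ⁅T, T⁆}) ⟨hV, e⟩).trans le_sup_right

theorem inf_eq_inf (b' : Bk (S ⊓ 𝐂(A)) A T' W') (e : ⁅T, T⁆ = ⁅T', T'⁆) : A ⊓ W = A ⊓ W' := by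
  rw [h.inf_eq b, h.inf_eq b', e]

theorem ex_other (h0 : A ⊓ W ≠ ⊥) :
    ∃ T' W', Bk (S ⊓ 𝐂(A)) A T' W' ∧ ⁅T', T'⁆ ≠ ⁅T, T⁆ := by
  by_contra e
  push Not at e
  refine h0 (eq_bot_iff.2 ((h.inf_eq b).le.trans (sSup_le fun V hV => ?_)))
  obtain ⟨⟨T', W', b', rfl⟩, e'⟩ := hV
  exact absurd (e _ _ b') e'

theorem eight_le (h0 : A ⊓ W ≠ ⊥) : 8 ≤ 𝐨(A ⊓ W) := by
  obtain ⟨T', W', b', e⟩ := h.ex_other b h0
  exact b'.big.trans (card_le_of_le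
    (le_inf b'.vle ((b'.dich b h.leR inf_le_right).resolve_left e)))

theorem not_one (h0 : A ⊓ W ≠ ⊥) :
    ¬ ∀ x ∈ A, x ≠ 1 → ∀ y ∈ A, y ≠ 1 → ∃ g ∈ 𝐍(A), g * x * g⁻¹ = y := fun e => by
  obtain ⟨T', W', b', e'⟩ := h.ex_other b h0
  have a1 := (b'.dich b h.leR inf_le_right).resolve_left e'
  obtain ⟨⟨x, hx⟩, x1⟩ := ne_bot_iff_exists_ne_one.1 b.ne
  obtain ⟨⟨y, hy⟩, y1⟩ := ne_bot_iff_exists_ne_one.1 b'.ne
  have x2 : x ∉ W := fun a => x1 (Subtype.ext (b.disj.le ⟨hx, a⟩))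
  obtain ⟨g, hg, a2⟩ := e x (b.vle hx) (fun a => x1 (Subtype.ext a)) (x * y)
    (mul_mem (b.vle hx) (b'.vle hy)) fun a => x2 (by
      rw [eq_inv_of_mul_eq_one_left a]; exact inv_mem (a1 hy))
  obtain ⟨T3, W3, b3, e3⟩ := h.vs_conj ⟨T, W, b, rfl⟩ hg
  have a3 : x * y ∈ ⁅T3, T3⁆ := by rw [e3, ← a2]; exact conj_mem_conj hx g
  rcases b3.dich b h.leR inf_le_right with a4 | a4
  · exact y1 (Subtype.ext (b.disj.le ⟨(mul_mem_cancel_left hx).1 (a4 ▸ a3), a1 hy⟩))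
  · exact x2 ((mul_mem_cancel_right (a1 hy)).1 (a4 a3))

theorem third (b' : Bk (S ⊓ 𝐂(A)) A T' W') (h0 : A ⊓ W ≠ ⊥) : A ⊓ W ⊓ W' ≠ ⊥ := by
  by_cases e : ⁅T, T⁆ = ⁅T', T'⁆
  · rwa [inf_eq_left.2 ((h.inf_eq_inf b b' e).le.trans inf_le_right)]
  intro h1
  have a1 : ∀ V ∈ VS A S, V = ⁅T, T⁆ ∨ V = ⁅T', T'⁆ := by
    rintro _ ⟨T3, W3, b3, rfl⟩
    by_contra e3
    push Not at e3
    exact b3.ne (eq_bot_iff.2 ((le_inf (le_inf b3.vle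
      ((b3.dich b h.leR inf_le_right).resolve_left e3.1))
      ((b3.dich b' h.leR inf_le_right).resolve_left e3.2)).trans h1.le))
  have a2 : ∀ x ∈ 𝐍(A), x ∉ 𝐍(A) ⊓ 𝐍(⁅T, T⁆) → ⁅T, T⁆ ^ᵍ x = ⁅T', T'⁆ := fun x hx hn =>
    (a1 _ (h.vs_conj ⟨T, W, b, rfl⟩ hx)).resolve_left fun e => hn ⟨hx, conj_eq_self_iff.1 e⟩
  have a3 : ∀ x ∈ 𝐍(A), x ∉ 𝐍(A) ⊓ 𝐍(⁅T, T⁆) → ∀ y ∈ 𝐍(A), y ∉ 𝐍(A) ⊓ 𝐍(⁅T, T⁆) →
      x * y ∈ 𝐍(A) ⊓ 𝐍(⁅T, T⁆) := fun x hx x1 y hy y1 =>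
    ⟨mul_mem hx hy, conj_eq_self_iff.1 (by
      rw [← conj_conj, a2 y hy y1]
      exact (a1 _ (h.vs_conj ⟨T', W', b', rfl⟩ hx)).resolve_right fun e' =>
        e (conj_inj.1 ((a2 x hx x1).trans e'.symm)))⟩
  have a0 : 𝐍(A) ⊓ 𝐍(⁅T, T⁆) ≤ 𝐍(⁅T, T⁆) := inf_le_right
  have a1 : 𝐍(A) ⊓ 𝐍(⁅T, T⁆) ≤ 𝐍(A) := inf_le_left
  generalize 𝐍(A) ⊓ 𝐍(⁅T, T⁆) = M at a0 a1 a3
  have a4 : 𝐍(A) ≤ 𝐍(M) := fun m hm => mem_norm_of_conj_le fun x hx => by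
    obtain ⟨y, hy, rfl⟩ := mem_conj'.1 hx
    by_cases e : m ∈ M
    · exact mul_mem (mul_mem e hy) (inv_mem e)
    · exact a3 _ (mul_mem hm (a1 hy)) (by rwa [mul_mem_cancel_right hy]) _ (inv_mem hm)
        (by rwa [inv_mem_iff])
  have a5 := focal_le Nat.prime_two h.syl (K := M) fun x hx g _ hg => by
    obtain ⟨m, hm, e⟩ := h.elt hx hg
    rw [e]
    by_cases hx' : x ∈ M
    · exact mul_mem (inv_mem hx') (cjm (a4 hm) hx')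
    · exact a3 _ (inv_mem (h.nrm hx)) (by simpa using hx') _ (e ▸ h.nrm hg)
        fun a => hx' ((mem_normalizer_iff.1 (a4 hm) x).2 a)
  rw [(h.sim.eq_bot_or_eq_top_of_normal ⁅(⊤ : Subgroup G), ⊤⁆ inferInstance).resolve_left
    fun e => h.nc ⟨⟨fun x y => (comm_eq_bot_iff.1 e (mem_top y) x trivial)⟩⟩, inf_top_eq] at a5
  have a6 := H7.SC.le_of_syl_le a4 (h.syl.of_le h.nrm le_top) a5 fun k hk => ⟨1, by
    rw [pow_one, pow_two]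
    by_cases e : k ∈ M
    · exact mul_mem e e
    · exact a3 k hk e k hk e⟩
  rcases h.irr _ b.vle (a6.trans a0) with a7 | a7
  · exact b.ne a7
  · exact h0 (a7 ▸ b.disj)

end Gl

/-- No linear component is moved. -/
structure G1 (A S : Subgroup G) : Prop extends Gl A S where
  na : ∀ a ∈ A, a ≠ 1 → ¬ Act A 𝐂[a]
  eight : 8 ≤ 𝐨(A)

namespace G1

variable {A S : Subgroup G} (h : G1 A S)
include h

theorem bal {a b : G} (ha : a ∈ A) (hb : b ∈ A) (b1 : b ≠ 1) : oc a ⊓ 𝐂[b] ≤ oc b := by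
  have a1 := h.le_cent hb ha
  have a2 : 𝐂[H1.qmk 𝐂[b] (od 𝐂[b]) ⟨a, a1⟩] = 𝐂(br 𝐂[b] (zpowers a)) := by
    rw [br, H1.bar_zpowers ⟨a, a1⟩, cent_zpowers]
  refine (H1.bar_eq_bot_iff (N := od 𝐂[b]) inf_le_right).1 ((h.lo (h.cent_ne b1) (h.le_cent hb)).bal
    (na_of (h.na b hb b1))    (H1.qmk_mem_bar (y := ⟨a, a1⟩) ha) (D := br 𝐂[b] (oc a ⊓ 𝐂[b])) ?_ (le_inf le_top ?_) ?_)
  · exact (Nat.coprime_two_right.1 (oc_cop a)).of_dvd_nat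
      ((H1.card_bar_dvd _).trans (FT.card_dvd_of_le inf_le_left))
  · rw [a2, H1.bar_le_centralizer_iff inf_le_right (zpowers_le.2 a1),
      comm_eq_bot_iff.2 (by rw [cent_zpowers]; exact inf_le_left.trans (oc_le a))]
    exact bot_le
  · rw [top_inf_eq, a2]
    refine (H7.SC.cent_br (h.pg.to_le (zpowers_le.2 ha)) (zpowers_le.2 a1)).trans
      (H1.bar_le_normalizer ?_)
    rw [cent_zpowers]
    exact H1.le_normalizer_inf (inf_le_right.trans (le_norm_oc a))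
      (inf_le_left.trans (le_norm_self _))

theorem cent_le {M : Subgroup G} {a : G} (ha : a ∈ A) (a1 : a ≠ 1) (h1 : 𝐍(A) ≤ M) (h2 : oc a ≤ M)
    (h3 : ∀ T W, Bk (S ⊓ 𝐂(A)) A T W → A ⊓ W ≠ ⊥ → 𝐂(A ⊓ W) ≤ M) : 𝐂[a] ≤ M := by
  have hA := h.le_cent ha
  have lo := h.lo (h.cent_ne a1) hA
  obtain ⟨P, hP, p1, p2, nf⟩ := h.sylX ha
  have hR : S ⊓ 𝐂(A) ≤ 𝐂[a] := inf_le_right.trans (cent_le_cent1 ha)
  have p3 : br 𝐂[a] P ⊓ 𝐂(br 𝐂[a] A) = br 𝐂[a] (S ⊓ 𝐂(A)) := by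
    rw [← p2]
    refine le_antisymm ?_ (le_inf (H1.bar_mono inf_le_left) ((H1.bar_le_centralizer_iff
      (inf_le_left.trans hP.le) hA).2 ((comm_eq_bot_iff.2 inf_le_right).le.trans bot_le)))
    rintro _ ⟨⟨y, hy, rfl⟩, e⟩
    refine H1.qmk_mem_bar ⟨hy, fun k hk => ?_⟩
    exact (commutatorElement_eq_one_iff_mul_comm.1 ((od_inf hP.pgrp).le
      ⟨(H1.qmk_mem_centralizer_bar_iff hA).1 e k hk, cmr (le_normalizer hy) (p1 hk)⟩)).symm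
  have := lo.gen (M := br 𝐂[a] (𝐂[a] ⊓ M)) (by
    rw [top_inf_eq, H7.SC.norm_br h.pg hA]
    exact H1.bar_mono (inf_le_inf_left _ h1)) fun K hK act => by
      have b := lo.bk (H7.SC.isSyl_br hP) (H1.bar_mono p1) (H7.SC.nf_br hP.pgrp hP.le p1 nf) hK act
        (na_of (h.na a ha a1) K hK act)
      rw [p3] at b
      obtain ⟨T, W, b1, b2, b3⟩ := bk_pull h.sylR.pgrp hR h.leR b
      have b4 : a ∈ W := b3 ⟨a, hA ha⟩ (h.leR ha) ⟨H1.qmk_mem_bar (h.leR ha), fun k _ => by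
        obtain ⟨k, rfl⟩ := H1.qmk_surjective k
        rw [← map_mul, ← map_mul]
        exact congrArg _ (Subtype.ext (mem_cent1.1 k.2).symm)⟩
      refine (cent_comm.1 ((H1.bar_mono inf_le_right).trans (b2.trans inf_le_right))).trans
        ((H7.SC.cent_br (h.pg.to_le inf_le_left) (inf_le_left.trans hA)).trans
          (H1.bar_mono (inf_le_inf_left _ (h3 T W b1 fun e => a1 (e.le ⟨ha, b4⟩)))))
  rw [← H1.bar_top, H1.bar_le_bar_iff (od_le _) le_rfl inf_le_left] at this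
  exact this.trans (sup_le inf_le_right h2)

theorem e8 {E : Subgroup G} (hE : E ≤ A) (h3 : IsElem 2 3 E) :
    𝐨(wc E).Coprime 2 ∧ ∀ B ≤ E, ¬ IsCyclic B → wc E ≤ wc B := by
  obtain ⟨M, hM, h⟩ := H2.sig_complete ⟨h3.1, h3.2⟩ (θ := oc) ⟨fun a _ _ => oc_le a,
    fun a ha _ => hE.trans ((h.le_cent (hE ha)).trans (le_norm_oc a)), fun a _ _ => oc_cop a,
    fun a _ _ => feit_thompson _ (Nat.coprime_two_right.1 (oc_cop a)),
    fun a ha _ b hb b1 => h.bal (hE ha) (hE hb) b1⟩ fun a _ _ => oc_cop a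
  refine ⟨hM.cop.coprime_dvd_left (FT.card_dvd_of_le (wc_le h)), fun B hB hnc => ?_⟩
  refine (wc_le h).trans (H1.le_of_forall_centralizer_le (isMulComm_of_le hB h3.comm) hnc
    (hB.trans hM.inv) (H1.coprime_card_of_isPGroup (h3.pgrp.to_le hB) hM.cop).symm
    fun b hb h1 => (hM.le b (hB hb) h1).trans (le_wc hb h1))

theorem wc_eq {B : Subgroup G} (hB : B ≤ A) (hB2 : IsElem 2 2 B) : wc A = wc B := by
  refine le_antisymm (wc_le fun e he h1 => ?_) (wc_mono hB)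
  by_cases heB : e ∈ B
  · exact le_wc heB h1
  exact (le_wc (mem_sup_right (mem_zpowers e)) h1).trans
    ((h.e8 (sup_le hB (zpowers_le.2 he)) (H2.ZC.isElem_sup_zpowers hB2 heB (h.el.2 e he)
      (cent_anti hB (h.cc he)))).2 B le_sup_left (hB2.not_isCyclic Nat.prime_two le_rfl))

theorem wc_cop : 𝐨(wc A).Coprime 2 := by
  have := h.eight
  obtain ⟨E, a1, a2⟩ := H7.SC.exists_isElem (k := 3) h.el (by omega)
  obtain ⟨B, b1, b2⟩ := a2.exists_le Nat.prime_two (k := 2) (by omega)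
  rw [h.wc_eq (b1.trans a1) b2]
  exact (h.e8 a1 a2).1.coprime_dvd_left (FT.card_dvd_of_le (wc_mono b1))

theorem wc_ne : wc A ≠ ⊤ := fun e => h.ne (by
  have := H1.inf_eq_bot_of_coprime' (H1.coprime_card_of_isPGroup h.pg h.wc_cop)
  rwa [e, top_inf_eq] at this)

section

variable (h0 : ∀ a ∈ A, a ≠ 1 → oc a = ⊥) {a : G} (ha : a ∈ A) (a1 : a ≠ 1) {K : Subgroup G}
  (hK : CompIn 𝐂[a] K) (act : ¬ A ≤ 𝐂(K))
include h0 ha a1

theorem loc : Lo 𝐂[a] A := h.lo' (h.cent_ne a1) (h.le_cent ha) (h0 a ha a1)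

include hK act

theorem nal : ¬ 3 ∣ 𝐨(K) := fun e => by
  have h1 : od 𝐂[a] = ⊥ := h0 a ha a1
  refine h.na a ha a1 ⟨br 𝐂[a] K, ?_, ?_, ?_⟩
  · have k1 := H2.compIn_top_iff.2 (H2.compIn_iff.1 hK).2
    have k2 := k1.1.map (H1.qmk 𝐂[a] (od 𝐂[a]))
    rw [map_top_of_surjective _ H1.qmk_surjective] at k2
    refine ⟨k2, H2.QS.map _ k1.2 fun e => H2.QS.ne_bot hK.2 ?_⟩
    exact eq_bot_iff.2 (((H1.bar_eq_bot_iff hK.le).1 e).trans h1.le)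
  · rw [H1.bar_le_centralizer_iff (h.le_cent ha) hK.le]
    exact fun e => act (comm_eq_bot_iff.1 (eq_bot_iff.2 (e.trans (h0 a ha a1).le)))
  · rwa [H1.card_bar hK.le, h1, relIndex_bot_left]

theorem blk : ∃ T ≤ K, Bk (S ⊓ 𝐂(A)) A T (S ⊓ 𝐂(A) ⊓ 𝐂(K)) := by
  obtain ⟨P, hP, p1, p2, nf⟩ := h.sylX ha
  exact ⟨_, inf_le_right, p2 ▸ (h.loc h0 ha a1).bk hP p1 nf hK act
    (h.nal h0 ha a1 hK act)⟩

theorem n1 : 𝐂[a] ⊓ 𝐂(A ⊓ (S ⊓ 𝐂(A) ⊓ 𝐂(K))) ≤ 𝐍(K) := fun c hc => by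
  by_contra e
  obtain ⟨T, hT, b⟩ := h.blk h0 ha a1 hK act
  refine (h.loc h0 ha a1).act_conj hK act hc.1 (b.dec.trans (sup_le (((der_le T).trans hT).trans
    (hK.le_centralizer_of_ne (comp_conj hK hc.1) fun e' => e (conj_eq_self_iff.1 e'.symm))) ?_))
  rw [← conj_eq_of_mem_norm (cent_le_norm _ hc.2)]
  exact conj_le_cent_iff.2 (inf_le_right.trans inf_le_right)

theorem pump {c : G} (hc : c ∈ A) (c1 : c ≠ 1) (c2 : c ∈ 𝐂(K)) : CompIn 𝐂[c] K := by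
  obtain ⟨T, hT, b⟩ := h.blk h0 ha a1 hK act
  have qs := (H2.isQuasisimple_subgroup_iff.1 hK.2).2.2
  have k1 : K ≤ 𝐂[c] := mem_cent_iff_cent1.1 c2
  have k2 : ¬ ⁅T, T⁆ ≤ 𝐂(K) := fun e => b.not_le (le_inf (b.vle.trans h.leR) e)
  have k3 : ⁅T, T⁆ ≤ K := (der_le T).trans hT
  by_cases e : ∀ J, CompIn 𝐂[c] J → ⁅T, T⁆ ≤ 𝐂(J)
  · have d1 : ⁅T, T⁆ ≤ A ⊓ 𝐂(H2.layerOf 𝐂[c]) := le_inf b.vle (cent_comm.1 (by
      rw [H2.layerOf_eq_sSup]; exact sSup_le fun J hJ => cent_comm.1 (e J hJ)))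
    have d2 : 𝐂[c] ≤ 𝐍(A ⊓ 𝐂(H2.layerOf 𝐂[c])) := (h.loc h0 hc c1).gen
      (H1.le_normalizer_inf inf_le_right
        (inf_le_left.trans ((H2.le_normalizer_layerOf _).trans norm_cent)))
      fun J hJ _ => hJ.le_layerOf.trans ((cent_comm.1 inf_le_right).trans (cent_le_norm _))
    rcases qs _ inf_le_right (H1.le_normalizer_inf (k1.trans d2) (le_norm_self K)) with d3 | d3
    · exact absurd (h.cc.trans (cent_anti (d3.ge.trans (inf_le_left.trans inf_le_left)))) act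
    · exact absurd ((le_inf d1 k3).trans d3) k2
  push Not at e
  obtain ⟨J, hJ, e⟩ := e
  have j1 : ¬ A ≤ 𝐂(J) := fun e' => e (b.vle.trans e')
  obtain ⟨T', hT', b'⟩ := h.blk h0 hc c1 hJ j1
  have j2 := (b.dich b' h.leR inf_le_right).resolve_right fun e' => e (e'.trans inf_le_right)
  have j3 := h.inf_eq_inf b b' j2
  have j4 : J ≤ 𝐍(K) := le_trans (le_inf (mem_cent_iff_cent1.1
    (j3.le ⟨ha, h.leR ha, mem_cent_iff_cent1.2 hK.le⟩).2.2)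
    (cent_comm.1 (j3.le.trans (inf_le_right.trans inf_le_right)))) (h.n1 h0 ha a1 hK act)
  have j5 : K ≤ 𝐍(J) := le_trans (le_inf k1
    (cent_comm.1 (j3.ge.trans (inf_le_right.trans inf_le_right)))) (h.n1 h0 hc c1 hJ j1)
  have j6 : ⁅T, T⁆ ≤ K ⊓ J := le_inf k3 (j2.le.trans ((der_le T').trans hT'))
  have j7 := (qs _ inf_le_left (H1.le_normalizer_inf (le_norm_self K) j5)).resolve_right
    fun e' => k2 (j6.trans e')
  have j8 := ((H2.isQuasisimple_subgroup_iff.1 hJ.2).2.2 _ inf_le_right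
    (H1.le_normalizer_inf j4 (le_norm_self J))).resolve_right fun e' => e (j6.trans e')
  rwa [← j7, j8]

theorem comm {c : G} (hc : c ∈ A) (c1 : c ≠ 1) {J : Subgroup G} (hJ : CompIn 𝐂[c] J)
    (j1 : ¬ A ≤ 𝐂(J)) : J ≤ 𝐍(K) := by
  obtain ⟨T, -, b⟩ := h.blk h0 ha a1 hK act
  obtain ⟨T', -, b'⟩ := h.blk h0 hc c1 hJ j1
  obtain ⟨⟨x, hx⟩, x1⟩ := ne_bot_iff_exists_ne_one.1 (h.third b b' fun e =>
    a1 (e.le ⟨ha, h.leR ha, mem_cent_iff_cent1.2 hK.le⟩))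
  have x2 : x ≠ 1 := fun e => x1 (Subtype.ext e)
  by_cases e : J = K
  · exact e ▸ le_norm_self J
  exact ((h.pump h0 hc c1 hJ j1 hx.1.1 x2 hx.2.2).le_centralizer_of_ne
    (h.pump h0 ha a1 hK act hx.1.1 x2 hx.1.2.2) e).trans (cent_le_norm K)

end

theorem exM : ∃ M : Subgroup G, M ≠ ⊤ ∧ 𝐍(A) ≤ M ∧ ∀ a ∈ A, a ≠ 1 → 𝐂[a] ≤ M := by
  by_cases e : wc A = ⊥
  swap
  · refine ⟨_, h.norm_ne e h.wc_ne, norm_wc A, fun a ha a1 => h.cent_le ha a1 (norm_wc A)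
      ((le_wc ha a1).trans (le_norm_self _)) fun T W b h0 => ?_⟩
    have := h.eight_le b h0
    obtain ⟨B, b1, b2⟩ := H7.SC.exists_isElem (k := 2)
      (elemAb_of_le (inf_le_left : A ⊓ W ≤ A) h.el) (by omega)
    rw [h.wc_eq (b1.trans inf_le_left) b2]
    exact (cent_anti b1).trans ((cent_le_norm B).trans (norm_wc B))
  have h0 : ∀ a ∈ A, a ≠ 1 → oc a = ⊥ := fun a ha a1 => eq_bot_iff.2 ((le_wc ha a1).trans e.le)
  obtain ⟨s, hs⟩ : ∃ s : Set (Subgroup G),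
    ∀ K, K ∈ s ↔ ∃ a ∈ A, a ≠ 1 ∧ CompIn 𝐂[a] K ∧ ¬ A ≤ 𝐂(K) := ⟨{K | _}, fun _ => Iff.rfl⟩
  by_cases e' : ∃ K, K ∈ s
  swap
  · exact ⟨_, h.norm_ne h.ne h.ne_top, le_rfl, fun a ha a1 => (h.loc h0 ha a1).gen inf_le_right
      fun K hK act => absurd ⟨K, (hs K).2 ⟨a, ha, a1, hK, act⟩⟩ e'⟩
  obtain ⟨K, hK⟩ := e'
  obtain ⟨a, ha, a1, k1, k2⟩ := (hs K).1 hK
  have hn : 𝐍(A) ≤ 𝐍(sSup s) := H2.le_normalizer_sSup fun g hg J hJ => by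
    obtain ⟨c, hc, c1, j1, j2⟩ := (hs J).1 hJ
    refine le_sSup ((hs _).2 ⟨_, cjm hg hc, by simpa using c1, ?_, fun e => j2 ?_⟩)
    · rw [cent1_conj]; exact j1.conj g
    · rw [← conj_eq_of_mem_norm hg] at e
      exact conj_le_cent_iff.1 e
  have k3 : K ≠ ⊥ := H2.QS.ne_bot k1.2
  refine ⟨_, h.norm_ne (fun e => k3 (eq_bot_iff.2 ((le_sSup hK).trans e.le))) fun e => ?_, hn,
    fun c hc c1 => (h.loc h0 hc c1).gen (inf_le_right.trans hn) fun J hJ act =>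
      (le_sSup ((hs J).2 ⟨c, hc, c1, hJ, act⟩)).trans (le_norm_self _)⟩
  refine h.norm_ne k3 (fun e => h.cent_ne a1 (top_le_iff.1 (e.ge.trans k1.le)))
    (top_le_iff.1 (e.ge.trans (sSup_le fun J hJ => ?_)))
  obtain ⟨c, hc, c1, j1, j2⟩ := (hs J).1 hJ
  exact h.comm h0 ha a1 k1 k2 hc c1 j1 j2

theorem chyp : CHyp A (wc A) := by
  obtain ⟨M, m1, m2, m3⟩ := h.exM
  refine ⟨h.el, le_trans (by omega) h.eight, h.sc, Nat.coprime_two_right.1 h.wc_cop, norm_wc A, fun e => ?_,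
    fun a ha a1 => h.cent_le ha a1 le_sup_right ((le_wc ha a1).trans le_sup_left)
      fun T W b h0 => absurd (h.one_class m1 m2 m3) (h.not_one b h0)⟩
  by_cases e' : wc A = ⊥
  · rw [e', bot_sup_eq] at e
    exact h.norm_ne h.ne h.ne_top e
  · exact h.norm_ne e' h.wc_ne (top_le_iff.1 (e.ge.trans (sup_le (le_norm_self _) (norm_wc A))))

end G1

theorem b1Stmt : B1Stmt.{u} := fun _ _ _ _ _ h na e => ⟨_, G1.chyp ⟨h, na, e⟩⟩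

end Cfsg.Agent.P18
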