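/-
Sylow 2-subgroups of type `U₃(4)`: definitions and the reduction to simple groups.
-/
import Cfsg.Agent.P7.Final
import Cfsg.Agent.P14.CB1

set_option autoImplicit false
set_option linter.unusedSectionVars false
set_option linter.style.haveILetI false

namespace Cfsg.Agent.P18.U

open Subgroup Cfsg Cfsg.Agent Cfsg.Agent.FT
open Cfsg.Agent.P6 (Inv Od Qt pr)
open Cfsg.Agent.P7 (br Zs AS)
open Cfsg.Agent.P14.St (I3)
open scoped commutatorElement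

universe u

variable {G : Type u} [Group G]

/-- A four-group with an automizer of odd order. -/
structure F4 (V : Subgroup G) : Prop where
  card : Nat.card V = 4
  sq : ∀ v ∈ V, v * v = 1
  odd : ¬ 2 ∣ (𝐂(V)).relIndex 𝐍(V)

namespace F4

variable {V : Subgroup G} (hV : F4 V)
include hV

theorem inv_eq {v : G} (hv : v ∈ V) : v⁻¹ = v := inv_eq_of_mul_eq_one_right (hV.sq v hv)

theorem comm {a b : G} (ha : a ∈ V) (hb : b ∈ V) : Commute a b := by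
  have h := hV.inv_eq (mul_mem ha hb)
  rw [mul_inv_rev, hV.inv_eq ha, hV.inv_eq hb] at h
  exact h.symm

theorem isMulCommutative : IsMulCommutative V :=
  ⟨⟨fun a b => Subtype.ext (hV.comm a.2 b.2).eq⟩⟩

theorem isPGroup : IsPGroup 2 V := IsPGroup.of_card (n := 2) (by rw [hV.card]; rfl)

theorem not_isCyclic : ¬ IsCyclic V := by
  intro h
  obtain ⟨g, hg⟩ := IsCyclic.exists_ofOrder_eq_natCard (α := V)
  have : orderOf g ∣ 2 := orderOf_dvd_of_pow_eq_one (Subtype.ext (by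
    simpa [pow_two] using hV.sq g g.2))
  rw [hg, hV.card] at this
  omega

theorem coprime {W : Subgroup G} (hW : Odd (Nat.card W)) :
    (Nat.card V).Coprime (Nat.card W) := by
  rw [hV.card]
  exact (Nat.coprime_two_left.2 hW).pow_left 2

theorem mem_cases {t s : G} (ht : t ∈ V) (hs : s ∈ V) (ht1 : t ≠ 1) (hs1 : s ≠ 1) (hts : t ≠ s)
    {v : G} (hv : v ∈ V) : v = 1 ∨ v = t ∨ v = s ∨ v = t * s := by
  classical
  by_contra hcon
  push Not at hcon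
  obtain ⟨h1, h2, h3, h4⟩ := hcon
  have e1 : t * s ≠ 1 := fun e => hts (by rw [eq_inv_of_mul_eq_one_left e, hV.inv_eq hs])
  have e2 : t * s ≠ t := fun e => hs1 (by simpa using e)
  have e3 : t * s ≠ s := fun e => ht1 (by simpa using e)
  have hfin : (V : Set G).Finite := Set.finite_coe_iff.1
    (Nat.finite_of_card_ne_zero (by rw [show Nat.card (V : Set G) = 4 from hV.card]; omega))
  have hsub : (({1, t, s, t * s, v} : Finset G) : Set G) ⊆ V := by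
    intro y hy
    simp only [Finset.coe_insert, Finset.coe_singleton, Set.mem_insert_iff,
      Set.mem_singleton_iff] at hy
    rcases hy with rfl | rfl | rfl | rfl | rfl
    exacts [one_mem V, ht, hs, mul_mem ht hs, hv]
  have hle := Set.ncard_le_ncard hsub hfin
  rw [Set.ncard_coe_finset, show (V : Set G).ncard = 4 from hV.card] at hle
  rw [Finset.card_insert_of_notMem (by simp [ht1.symm, hs1.symm, e1.symm, h1.symm]),
    Finset.card_insert_of_notMem (by simp [hts, e2.symm, h2.symm]),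
    Finset.card_insert_of_notMem (by simp [e3.symm, h3.symm]),
    Finset.card_insert_of_notMem (by simp [h4.symm]), Finset.card_singleton] at hle
  omega

theorem le_of_mem {t s : G} (ht : t ∈ V) (hs : s ∈ V) (ht1 : t ≠ 1) (hs1 : s ≠ 1) (hts : t ≠ s)
    {X : Subgroup G} (h1 : t ∈ X) (h2 : s ∈ X) : V ≤ X := fun v hv => by
  rcases hV.mem_cases ht hs ht1 hs1 hts hv with rfl | rfl | rfl | rfl
  exacts [one_mem X, h1, h2, mul_mem h1 h2]

theorem mul_ne_one {t s : G} (hs : s ∈ V) (hts : t ≠ s) : t * s ≠ 1 := fun e =>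
  hts (by rw [eq_inv_of_mul_eq_one_left e, hV.inv_eq hs])

theorem exists_ne (t : G) : ∃ s ∈ V, s ≠ 1 ∧ s ≠ t := by
  by_contra hcon
  push Not at hcon
  have hsub : (V : Set G) ⊆ {1, t} := fun v hv => by
    by_cases h : v = 1
    · exact Or.inl h
    · exact Or.inr (hcon v hv h)
  have := Set.ncard_le_ncard hsub (Set.toFinite _)
  rw [show (V : Set G).ncard = 4 from hV.card] at this
  have h2 := Set.ncard_insert_le (1 : G) {t}
  rw [Set.ncard_singleton] at h2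
  omega

theorem mem_cent {t s u : G} (ht : t ∈ V) (hs : s ∈ V) (ht1 : t ≠ 1) (hs1 : s ≠ 1) (hts : t ≠ s)
    (a : Commute u t) (b : Commute u s) : u ∈ 𝐂(V) :=
  H1.mem_centralizer_iff_le.2 (hV.le_of_mem ht hs ht1 hs1 hts (P5.Mx.mem_cent1.2 a.symm)
    (P5.Mx.mem_cent1.2 b.symm))

variable [Finite G]

theorem mem_cent_of_sq {g : G} (hg : g ∈ 𝐍(V)) (h : g * g ∈ 𝐂(V)) : g ∈ 𝐂(V) := by
  haveI := H1.normal_subgroupOf_of_le (H1.normalizer_le_normalizer_centralizer V)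
  have h2 : g ^ (𝐂(V)).relIndex 𝐍(V) ∈ 𝐂(V) := by
    have := pow_index_mem ((𝐂(V)).subgroupOf 𝐍(V)) ⟨g, hg⟩
    rw [mem_subgroupOf, SubgroupClass.coe_pow] at this
    exact this
  obtain ⟨m, hm⟩ : Odd ((𝐂(V)).relIndex 𝐍(V)) :=
    Nat.not_even_iff_odd.1 fun h => hV.odd (even_iff_two_dvd.1 h)
  rw [hm, pow_succ, pow_mul, pow_two] at h2
  exact (mul_mem_cancel_left (pow_mem h m)).1 h2

omit hV in
theorem conj_mem {g : G} (hg : g ∈ 𝐍(V)) {v : G} (hv : v ∈ V) : g * v * g⁻¹ ∈ V :=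
  (mem_normalizer_iff.1 hg v).1 hv

theorem mem_cent_of_commute {g t : G} (hg : g ∈ 𝐍(V)) (ht : t ∈ V) (ht1 : t ≠ 1)
    (h : Commute g t) : g ∈ 𝐂(V) := by
  obtain ⟨s, hs, hs1, hst⟩ := hV.exists_ne t
  have key := fun u => hV.mem_cent (u := u) ht hs ht1 hs1 hst.symm
  have e : g * t * g⁻¹ = t := by rw [h.eq]; group
  rcases hV.mem_cases ht hs ht1 hs1 hst.symm (conj_mem hg hs) with e1 | e1 | e1 | e1
  · exact absurd (by simpa using e1) hs1
  · exact absurd (by rw [← e] at e1; simpa using e1) hst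
  · exact key g h (P5.Mx.commute_of_conj_eq e1)
  · refine hV.mem_cent_of_sq hg (key _ (h.mul_left h) (P5.Mx.commute_of_conj_eq ?_))
    calc g * g * s * (g * g)⁻¹ = g * (g * s * g⁻¹) * g⁻¹ := by group
      _ = g * (t * s) * g⁻¹ := by rw [e1]
      _ = (g * t * g⁻¹) * (g * s * g⁻¹) := by group
      _ = s := by rw [e, e1, ← mul_assoc, hV.sq t ht, one_mul]

theorem tri {x : G} (hx : x ∈ 𝐍(V)) (hxc : x ∉ 𝐂(V)) {t : G} (ht : t ∈ V) (ht1 : t ≠ 1) :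
    x * t * x⁻¹ ≠ t ∧ x * (x * t * x⁻¹) * x⁻¹ = t * (x * t * x⁻¹) := by
  have hfix : ∀ v ∈ V, v ≠ 1 → x * v * x⁻¹ ≠ v := fun v hv hv1 e =>
    hxc (hV.mem_cent_of_commute hx hv hv1 (P5.Mx.commute_of_conj_eq e))
  refine ⟨hfix t ht ht1, ?_⟩
  obtain ⟨u, hu⟩ : ∃ u, u = x * t * x⁻¹ := ⟨_, rfl⟩
  have huV : u ∈ V := hu ▸ conj_mem hx ht
  have hu1 : u ≠ 1 := fun e => ht1 (by simpa [hu] using e)
  have hut : t ≠ u := fun e => hfix t ht ht1 (hu ▸ e.symm)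
  rw [← hu]
  rcases hV.mem_cases ht huV ht1 hu1 hut (conj_mem hx huV) with f | f | f | f
  · exact absurd (by simpa using f) hu1
  · refine absurd ?_ (hfix (t * u) (mul_mem ht huV) (hV.mul_ne_one huV hut))
    calc x * (t * u) * x⁻¹ = (x * t * x⁻¹) * (x * u * x⁻¹) := by group
      _ = t * u := by rw [← hu, f, (hV.comm huV ht).eq]
  · exact absurd f (hfix u huV hu1)
  · exact f

theorem exists_conj {x : G} (hx : x ∈ 𝐍(V)) (hxc : x ∉ 𝐂(V)) {t s : G} (ht : t ∈ V)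
    (ht1 : t ≠ 1) (hs : s ∈ V) (hs1 : s ≠ 1) : ∃ g ∈ zpowers x, g * t * g⁻¹ = s := by
  obtain ⟨h1, h2⟩ := hV.tri hx hxc ht ht1
  rcases hV.mem_cases ht (conj_mem hx ht) ht1 (fun e => ht1 (by simpa using e)) h1.symm hs
    with e | e | e | e
  · exact absurd e hs1
  · exact ⟨1, one_mem _, by simp [e]⟩
  · exact ⟨x, mem_zpowers x, e.symm⟩
  · exact ⟨x * x, mul_mem (mem_zpowers x) (mem_zpowers x), by rw [e, ← h2]; group⟩

theorem cube {x : G} (hx : x ∈ 𝐍(V)) : x ^ 3 ∈ 𝐂(V) := by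
  by_cases hxc : x ∈ 𝐂(V)
  · exact pow_mem hxc 3
  obtain ⟨t, ht, t1, -⟩ := hV.exists_ne 1
  obtain ⟨-, h2⟩ := hV.tri hx hxc ht t1
  refine hV.mem_cent_of_commute (pow_mem hx 3) ht t1 (P5.Mx.commute_of_conj_eq ?_)
  calc x ^ 3 * t * (x ^ 3)⁻¹ = x * (x * (x * t * x⁻¹) * x⁻¹) * x⁻¹ := by
        rw [pow_succ, pow_two]; group
    _ = x * (t * (x * t * x⁻¹)) * x⁻¹ := by rw [h2]
    _ = x * t * x⁻¹ * (x * (x * t * x⁻¹) * x⁻¹) := by group
    _ = t := by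
      rw [h2, ← mul_assoc, (hV.comm (conj_mem hx ht) ht).eq, mul_assoc,
        hV.sq _ (conj_mem hx ht), mul_one]

end F4

/-- `S` is a Sylow 2-subgroup of type `U₃(4)` with centre `A`. -/
structure US (S A : Subgroup G) : Prop where
  syl : IsSyl 2 S ⊤
  card : 𝐨(S) = 64
  cardA : 𝐨(A) = 4
  le : A ≤ S
  cen : S ≤ 𝐂(A)
  inv : ∀ x ∈ S, x * x = 1 ↔ x ∈ A
  sq : ∀ x ∈ S, x * x ∈ A
  full : ∀ u ∈ S, u ∉ A → ∀ a ∈ A, ∃ w ∈ S, ⁅u, w⁆ = a
  nq : ∀ x ∈ S, ∀ y ∈ S, x ∉ A → x * y ∉ A → x * x = y * y → x * y * (x * y) ≠ x * x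

variable [Finite G]

theorem cent_fusion {T X : Subgroup G} (h : IsSyl 2 T X) {a g : G} (ha : T ≤ 𝐂[a]) (hg : g ∈ X)
    (hb : T ≤ 𝐂[g * a * g⁻¹]) : ∃ k ∈ X ⊓ 𝐍(T), k * a * k⁻¹ = g * a * g⁻¹ := by
  have h1 := h.of_le (le_inf h.le hb) inf_le_left
  have h0 : IsSyl 2 (T ^ᵍ g) X := h.conj_of_mem_norm (le_norm_self _ hg)
  have h2 := h0.of_le (le_inf h0.le (cent1_conj a g ▸ conj_mono ha g)) inf_le_left
  obtain ⟨c, hc, e⟩ := h1.exists_conj_eq Nat.prime_two h2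
  rw [conj_conj, conj_eq_self_iff] at e
  refine ⟨c * g, ⟨mul_mem hc.1 hg, e⟩, ?_⟩
  rw [← mem_cent1_iff_conj.1 hc.2]
  group

namespace US

variable {S A : Subgroup G} (h : US S A)
include h

theorem two : IsPGroup 2 S := h.syl.pgrp

theorem sqA {a : G} (ha : a ∈ A) : a * a = 1 := (h.inv a (h.le ha)).2 ha

theorem le_cent1 {a : G} (ha : a ∈ A) : S ≤ 𝐂[a] := h.cen.trans (cent_le_cent1 ha)

theorem commute {a x : G} (ha : a ∈ A) (hx : x ∈ S) : Commute a x :=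
  mem_cent1_iff_commute.1 (h.le_cent1 ha hx)

theorem f4 : F4 A := ⟨h.cardA, fun _ => h.sqA, fun k => (h.syl.of_le (h.cen.trans (cent_le_norm A))
  le_top).ndvd (k.trans (relIndex_dvd_of_le_left _ h.cen))⟩

theorem norm_le : 𝐍(S) ≤ 𝐍(A) := fun g hg => mem_norm_of_conj_le fun a ha => by
  obtain ⟨b, hb, rfl⟩ := mem_conj'.1 ha
  exact (h.inv _ (P7.cjm hg (h.le hb))).1 (P7.sq_cj (h.sqA hb) g)

theorem comm_mem {x y : G} (hx : x ∈ S) (hy : y ∈ S) : ⁅x, y⁆ ∈ A := by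
  have : ⁅x, y⁆ = x * x * (x⁻¹ * y * (x⁻¹ * y)) * (y * y)⁻¹ := by
    rw [commutatorElement_def]; group
  rw [this]
  exact mul_mem (mul_mem (h.sq x hx) (h.sq _ (mul_mem (inv_mem hx) hy))) (inv_mem (h.sq y hy))

theorem eq_one {W : Subgroup G} (ho : Odd 𝐨(W)) {x : G} (hx : x ∈ S) (hW : x ∈ W) : x = 1 :=
  P7.eq_one_of_two_odd h.two ho hx hW

theorem sylX {X : Subgroup G} (hX : S ≤ X) : IsSyl 2 S X := h.syl.of_le hX le_top

theorem exists_cj {X : Subgroup G} (hX : S ≤ X) {x : G} (hx : x ∈ X) (xx : x * x = 1) :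
    ∃ g ∈ X, g * x * g⁻¹ ∈ A := by
  obtain ⟨g, h1, hg⟩ := (h.sylX hX).exists_conj_le Nat.prime_two
    (P7.two_zpowers xx) (zpowers_le.2 hx)
  exact ⟨g, h1, (h.inv _ (hg (conj_mem_conj (mem_zpowers x) g))).1 (P7.sq_cj xx g)⟩

/-- Involutions are central in every 2-subgroup. -/
theorem commute_two {P : Subgroup G} (hP : IsPGroup 2 P) {j x : G} (hj : j ∈ P) (jj : j * j = 1)
    (hx : x ∈ P) : Commute j x := by
  obtain ⟨g, -, hg⟩ := h.syl.exists_conj_le Nat.prime_two hP le_top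
  have := h.commute ((h.inv _ (hg (conj_mem_conj hj g))).1 (P7.sq_cj jj g))
    (hg (conj_mem_conj hx g))
  simpa [mul_assoc] using P5.commute_cj g⁻¹ this

theorem zs {N : Subgroup G} (hA : A ≤ N) (hs : IsSyl 2 (S ⊓ N) N) (hn : N ⊓ 𝐍(A) ≤ 𝐂(A))
    {c : G} (hc : c ∈ A) : Zs N c := by
  intro g hg
  rcases eq_or_ne c 1 with rfl | c1
  · simp
  obtain ⟨P, hP⟩ := hs.exists_sylow Nat.prime_two
  refine ⟨_, P1.zstar_sylow P (t := ⟨c, hA hc⟩) ?_
    (show _ ∈ (P : Subgroup N) from hP ▸ ⟨h.le hc, hA hc⟩) (fun y hy => Subtype.ext ?_) ⟨g, hg⟩, rfl⟩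
  · rw [← orderOf_coe]
    exact (⟨c1, h.sqA hc⟩ : Inv c).orderOf_eq
  · have h1 := (h.inv _ (mem_subgroupOf.1 (hP.le hy)).1).1 (P7.sq_cj (h.sqA hc) y)
    obtain ⟨k, hk, e⟩ := cent_fusion hs (inf_le_left.trans (h.le_cent1 hc)) y.2
      (inf_le_left.trans (h.le_cent1 h1))
    refine e.symm.trans (mem_cent1_iff_conj.1 (cent_le_cent1 hc (hn ⟨hk.1, ?_⟩)))
    refine mem_norm_of_conj_le fun a ha => ?_
    obtain ⟨b, hb, rfl⟩ := mem_conj'.1 ha
    exact (h.inv _ (P7.cjm hk.2 ⟨h.le hb, hA hb⟩).1).1 (P7.sq_cj (h.sqA hb) k)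

theorem bar {X : Subgroup G} (hX : S ≤ X) : US (br X S) (br X A) := by
  have hA := h.le.trans hX
  have c : ∀ {T : Subgroup G}, T ≤ S → 𝐨(br X T) = 𝐨(T) := fun {T} hT => by
    rw [H1.card_bar (hT.trans hX), ← inf_relIndex_right, (eq_bot_iff (a := Od X ⊓ T)).2 fun x hx =>
      mem_bot.2 (h.eq_one (P6.odd_Od X) (hT hx.2) hx.1), relIndex_bot_left]
  have inj : ∀ {x y : X}, (x : G) ∈ S → (y : G) ∈ S → pr X x = pr X y → x = y := fun hx hy e =>
    Subtype.ext (inv_mul_eq_one.1 (h.eq_one (P6.odd_Od X) (mul_mem (inv_mem hx) hy)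
      ((P6.pr_eq_iff _ _).1 e)))
  have m : ∀ {x : X}, (x : G) ∈ S → (pr X x ∈ br X A ↔ (x : G) ∈ A) := fun hx =>
    ⟨fun k => by
      obtain ⟨y, hy, e⟩ := H1.mem_bar.1 k
      exact inj (h.le hy) hx e ▸ hy, H1.qmk_mem_bar⟩
  refine ⟨H1.bar_top (Y := X) (N := Od X) ▸ (h.sylX hX).bar Nat.prime_two le_rfl,
    (c le_rfl).trans h.card, (c h.le).trans h.cardA, H1.bar_mono h.le,
    (H1.bar_le_centralizer_iff hX hA).2 (comm_eq_bot_iff.2 h.cen ▸ bot_le), ?_, ?_, ?_, ?_⟩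
  · intro z hz
    obtain ⟨x, hx, rfl⟩ := H1.mem_bar.1 hz
    rw [m hx, ← h.inv x hx, ← map_mul]
    exact ⟨fun e => congrArg Subtype.val (inj (x := x * x) (y := 1) (mul_mem hx hx) (one_mem _)
      (e.trans (map_one _).symm)), fun e => by rw [show x * x = 1 from Subtype.ext e, map_one]⟩
  · intro z hz
    obtain ⟨x, hx, rfl⟩ := H1.mem_bar.1 hz
    rw [← map_mul]
    exact H1.qmk_mem_bar (h.sq x hx)
  · intro z hz hn b hb
    obtain ⟨x, hx, rfl⟩ := H1.mem_bar.1 hz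
    obtain ⟨a, ha, rfl⟩ := H1.mem_bar.1 hb
    obtain ⟨w, hw, e⟩ := h.full x hx (fun k => hn ((m hx).2 k)) a ha
    exact ⟨pr X ⟨w, hX hw⟩, H1.qmk_mem_bar hw, by
      rw [← map_commutatorElement]; exact congrArg _ (Subtype.ext e)⟩
  · intro z hz w hw h1 h2 e1 e2
    obtain ⟨x, hx, rfl⟩ := H1.mem_bar.1 hz
    obtain ⟨y, hy, rfl⟩ := H1.mem_bar.1 hw
    simp only [← map_mul] at h2 e1 e2
    exact h.nq x hx y hy (fun k => h1 ((m hx).2 k)) (fun k => h2 ((m (mul_mem hx hy)).2 k))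
      (congrArg Subtype.val (inj (x := x * x) (y := y * y) (mul_mem hx hx) (mul_mem hy hy) e1))
      (congrArg Subtype.val (inj (x := x * y * (x * y)) (y := x * x)
        (mul_mem (mul_mem hx hy) (mul_mem hx hy)) (mul_mem hx hx) e2))

/-- `C(A)` is 2-closed modulo its odd core. -/
theorem cent_le : 𝐂(A) ≤ Od 𝐂(A) ⊔ 𝐂(A) ⊓ 𝐍(S) := by
  have hA : A ≤ 𝐂(A) := h.le.trans h.cen
  haveI := H1.normal_subgroupOf_of_le (cent_le_norm A)
  have as : AS (H1.bar 𝐂(A) A S) ⊤ :=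
    ⟨H1.bar_top (Y := 𝐂(A)) (N := A) ▸ (h.sylX h.cen).bar Nat.prime_two le_rfl,
      (H1.bar_le_centralizer_iff h.cen h.cen).2 (commutator_le.2 fun _ hx _ hy => h.comm_mem hx hy)⟩
  have lc := P7.loc_of P7.k3All (P7.wInd P7.k3All _) (Nat.lt_succ_self _) as
  have key := as.le_of_cp (H := Od ⊤ ⊔ 𝐍(H1.bar 𝐂(A) A S)) le_sup_left (fun K c => False.elim (by
    obtain ⟨a, ha, b, hb, v⟩ := lc.exists_v4 c
    have sq : ∀ x y : 𝐂(A), (x : G) ∈ S → (y : G) ∈ S → H1.qmk 𝐂(A) A x ∈ K → H1.qmk 𝐂(A) A y ∈ K →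
        (x : G) ∉ A → (y : G) ∉ A → (x : G) * x = y * y := fun x y hx hy kx ky nx ny => by
      obtain ⟨σ, -, e⟩ := lc.trans c ⟨H1.qmk_mem_bar hx, kx⟩ ⟨H1.qmk_mem_bar hy, ky⟩
        (fun e => nx (H1.qmk_eq_one_iff.1 e)) fun e => ny (H1.qmk_eq_one_iff.1 e)
      obtain ⟨g, rfl⟩ := H1.qmk_surjective σ
      have e1 : (y : G)⁻¹ * (g * x * (g : G)⁻¹) ∈ A := by
        have : H1.qmk 𝐂(A) A (y⁻¹ * (g * x * g⁻¹)) = 1 := by
          rw [map_mul, map_mul, map_mul, map_inv, map_inv, e, inv_mul_cancel]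
        exact H1.qmk_eq_one_iff.1 this
      obtain ⟨z, hz, e2⟩ : ∃ z ∈ A, (g : G) * x * (g : G)⁻¹ = y * z := ⟨_, e1, by group⟩
      calc (x : G) * x = g * (x * x) * (g : G)⁻¹ :=
            (mem_cent1_iff_conj.1 (cent_le_cent1 (h.sq x hx) g.2)).symm
        _ = y * z * (y * z) := by rw [← e2]; group
        _ = y * y := by
          rw [mul_assoc, ← mul_assoc z, (h.commute hz hy).eq, mul_assoc, h.sqA hz, mul_one]
    obtain ⟨x, hx, rfl⟩ := H1.mem_bar.1 ha.1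
    obtain ⟨y, hy, rfl⟩ := H1.mem_bar.1 hb.1
    have nx : (x : G) ∉ A := fun k => v.t1 (H1.qmk_eq_one_iff.2 k)
    have ny : (y : G) ∉ A := fun k => v.s1 (H1.qmk_eq_one_iff.2 k)
    have nxy : ((x * y : 𝐂(A)) : G) ∉ A := fun k =>
      v.ts1 (by rw [← map_mul]; exact H1.qmk_eq_one_iff.2 k)
    exact h.nq x hx y hy nx nxy (sq x y hx hy ha.2 hb.2 nx ny)
      (sq (x * y) x (mul_mem hx hy) hx (by rw [map_mul]; exact mul_mem ha.2 hb.2) ha.2 nxy nx)))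
    (inf_le_right.trans le_sup_right)
  have k2 := H1.unbar_mono key
  rw [H1.unbar_top, H1.unbar_sup] at k2
  refine k2.trans (sup_le ?_ (le_sup_of_le_right (le_inf (H1.unbar_le _) ?_)))
  · set W := H1.unbar 𝐂(A) A (Od ⊤)
    have hW : W ≤ 𝐂(A) := H1.unbar_le _
    haveI := Fact.mk Nat.prime_two
    have h1 : W ≤ Od W ⊔ A := P5.Mx.le_sup_of_burnside (H1.le_unbar hA _) h.f4.isPGroup (by
      rw [← H1.card_bar hW, H1.bar_unbar]
      exact fun k => Nat.not_even_iff_odd.2 (P6.odd_Od _) (even_iff_two_dvd.2 k))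
      (inf_le_left.trans hW)
    refine h1.trans (sup_le (le_sup_of_le_left (P6.le_Od ⟨(P7.Od_le W).trans hW,
      (H1.le_normalizer_unbar le_rfl (le_top.trans (P7.le_norm_Od ⊤))).trans (P6.norm_le_norm_Od W)⟩
      (P6.odd_Od W))) (le_sup_of_le_right (le_inf hA (h.le.trans le_normalizer))))
  · have := H1.le_normalizer_unbar (H1.unbar_le 𝐍(H1.bar 𝐂(A) A S)) (H1.bar_unbar _).le
    rwa [H1.unbar_bar_of_le h.le h.cen] at this

end US

end Cfsg.Agent.P18.U
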