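/-
P18, chapter B4: a strongly closed four-group moving a linear component.
-/
import Cfsg.Agent.P18.Defs
import Cfsg.Agent.P18.U0

set_option autoImplicit false
set_option linter.unusedSectionVars false

namespace Cfsg.Agent.P18

open Subgroup Cfsg Cfsg.Agent Cfsg.Agent.FT
open Cfsg.Agent.P14 (SC SCl SzT cjm cmr cml pow_two_pow two_zp eq_one_of norm_cent comp_conj comp_norm)
open Cfsg.Agent.P14.St (I3)
open Cfsg.Agent.H2 (CompIn)
open Cfsg.Agent.H2.ZC (oc)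
open Cfsg.Agent.H7.SC (od br od_le od_inf)
open scoped commutatorElement

universe u

variable {G : Type u} [Group G] [Finite G]

namespace B4

theorem sc_br {X A : Subgroup G} (el : IsElementaryAbelian 2 A) (sc : SC ⊤ A) (hA : A ≤ X) :
    SC ⊤ (br X A) := by
  obtain ⟨P, hP, hAP⟩ := exists_isSyl_ge Nat.prime_two (elemAb_isPGroup el) hA
  refine SCl.sc ?_ (H7.SC.isSyl_br hP) (H1.bar_mono hAP)
  rintro _ ⟨a, ha, rfl⟩ g - e
  obtain ⟨g, rfl⟩ := H1.qmk_surjective g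
  rw [← map_inv, ← map_mul, ← map_mul] at e ⊢
  rw [H1.qmk_mem_bar_iff (od_le X) hP.le] at e
  rw [H1.qmk_mem_bar_iff (od_le X) hA]
  obtain ⟨k, hk, e'⟩ := (H7.SC.isSyl_sup_od hP.le hP.pgrp).exists_conj_le Nat.prime_two
    (two_zp (k := 1) (x := (g : G) * a * (g : G)⁻¹) (by
      rw [conj_pow, pow_one, el.2 a ha]; group)) (zpowers_le.2 e)
  have a2 := sc P le_top hP.pgrp hAP a ha (k * g) trivial (by
    have := e' (conj_mem_conj (mem_zpowers _) k)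
    convert this using 1; group)
  have a3 : P ⊔ od X ≤ 𝐍(A ⊔ od X) := sup_le (H1.le_normalizer_sup
    (sc.le_norm le_top hP.pgrp hAP) (hP.le.trans (H7.SC.le_norm_od X)))
    (le_sup_right.trans (le_norm_self _))
  have := cjm (inv_mem (a3 hk)) (mem_sup_left a2)
  convert this using 1
  push_cast; group

theorem l2_dec {K T : Subgroup G} (z : L2T K T) (hZ : IsPGroup 2 (K ⊓ 𝐂(K) : Subgroup G)) {x : G}
    {k : ℕ} (hx : x ^ 2 ^ k = 1) (h1 : x ∈ 𝐍(K)) (h2 : x ∈ 𝐍(T)) :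
    ∃ s ∈ T, ∃ c ∈ 𝐂(K), s * c = x := by
  obtain ⟨s, hs, c, hc, rfl⟩ := (mem_sup_of_norm (cent_le_norm K)).1
    (z.inner x h1 ⟨k, hx ▸ one_mem _⟩)
  refine ⟨s, ?_, c, hc, rfl⟩
  have a1 : s ^ 2 ^ k ∈ 𝐂(K) := by
    rw [Commute.mul_pow (hc s hs), mul_eq_one_iff_eq_inv] at hx
    exact hx ▸ inv_mem (pow_mem hc _)
  obtain ⟨j, hj⟩ := pow_two_pow hZ ⟨pow_mem hs _, a1⟩
  rw [← pow_mul, ← pow_add] at hj
  refine zpowers_le.1 (z.syl.le_of_norm Nat.prime_two (two_zp hj) (zpowers_le.2 hs)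
    (zpowers_le.2 ?_))
  simpa using mul_mem h2 (inv_mem (cent_le_norm T (cent_anti z.syl.le hc)))

/-- Involutions normalize the components of order divisible by three. -/
theorem norm_comp (h3 : I3 G) {X K : Subgroup G} (hK : CompIn X K) {d : G} (hd : d ∈ K) {j : ℕ}
    (hj : d ^ 3 ^ j = 1) (hc : d ∉ 𝐂(K)) {t : G} (ht : t ∈ X) (tt : t * t = 1) : t ∈ 𝐍(K) := by
  refine comp_norm hK ht hd fun e => hc ?_
  have c : Commute d (t * d * t⁻¹) := e d hd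
  have := h3.pow (x := d * (t * d * t⁻¹)⁻¹) (g := t) (k := j)
    (by rw [c.inv_right.mul_pow, inv_pow, conj_pow, hj]; group)
    (by calc _ = t * d * t⁻¹ * (t * t * d * (t * t)⁻¹)⁻¹ := by group
          _ = _ := by rw [tt]; group)
  rwa [← mul_inv_eq_one.1 this] at e

theorem act4 (h3 : I3 G) {S A K : Subgroup G} (hS : IsSyl 2 S ⊤) (hA : A ≤ S)
    (el : IsElementaryAbelian 2 A) (c4 : 𝐨(A) ≤ 4) (sc : SC ⊤ A) (hK : CompIn ⊤ K)
    (z : L2T K (S ⊓ K)) (hZ : IsPGroup 2 (K ⊓ 𝐂(K) : Subgroup G)) (act : ¬ A ≤ 𝐂(K)) :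
    A ≤ K ∧ ⊤ ≤ 𝐍(K) ∧ A ⊓ 𝐂(K) = ⊥ ∧ S ≤ A ⊔ S ⊓ 𝐂(K) ∧
      ∃ d ∈ K ⊓ 𝐍(S), (∃ j : ℕ, d ^ 3 ^ j = 1) ∧ d ∉ 𝐂(A) := by
  obtain ⟨d, hd, ⟨j, hj⟩, fp⟩ := z.tri
  have sq : ∀ a ∈ A, a * a = 1 := fun a ha => (pow_two a).symm.trans (el.2 a ha)
  have cc := isMulComm_iff_le_cent.1 el.1
  have dc : d ∉ 𝐂(K) := fun e => by
    have := relIndex_eq_one.2 fun s hs => fp s hs (by
      rw [commutatorElement_eq_one_iff_mul_comm.2 (e s hs.2).symm]; exact one_mem _)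
    rw [z.card] at this; omega
  have nK : A ≤ 𝐍(K) := fun a ha => norm_comp h3 hK hd.1 hj dc trivial (sq a ha)
  have st : ∀ a ∈ A, a ∉ 𝐂(K) → ⁅d, a⁆ ∈ A ∧ ⁅d, a⁆ ∈ K ∧ ⁅d, a⁆ ∉ 𝐂(K) := fun a ha hn => by
    obtain ⟨s, hs, c, hc, rfl⟩ := l2_dec z hZ (k := 1) (el.2 a ha) (nK ha)
      (H1.le_normalizer_inf (hA.trans (le_norm_self S)) nK ha)
    have e : ⁅d, s * c⁆ = ⁅d, s⁆ := by
      simp only [commutatorElement_def]
      calc d * (s * c) * d⁻¹ * (s * c)⁻¹ = d * s * (c * d⁻¹ * c⁻¹) * s⁻¹ := by group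
        _ = _ := by rw [← hc _ (inv_mem hd.1), mul_inv_cancel_right]
    have e1 := cmr hd.2 hs
    refine ⟨mul_mem (sc S le_top hS.pgrp hA _ ha d trivial ?_) (inv_mem ha), e ▸ e1.2,
      e ▸ fun k => hn (mul_mem (fp s hs k) hc)⟩
    have := mul_mem e1.1 (hA ha)
    rwa [← e, commutatorElement_def, inv_mul_cancel_right] at this
  obtain ⟨a, ha, hn⟩ := SetLike.not_le_iff_exists.1 act
  obtain ⟨v1, v2, v3⟩ := st a ha hn
  generalize ⁅d, a⁆ = v at v1 v2 v3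
  obtain ⟨w1, w2, w3⟩ := st v v1 v3
  have e : d * v * d⁻¹ = ⁅d, v⁆ * v := by rw [commutatorElement_def, inv_mul_cancel_right]
  generalize ⁅d, v⁆ = w at w1 w2 w3 e
  have n1 : ∀ u, u ∉ 𝐂(K) → u ≠ 1 := fun u hu k => hu (k ▸ one_mem _)
  have cv : ∀ u ∈ 𝐂(K), d * v * d⁻¹ ≠ u := fun u hu k => v3 (by
    have := cjm (inv_mem (norm_cent (le_norm_self K hd.1))) hu
    rw [← k] at this
    simpa [mul_assoc] using this)
  have vw : w ≠ v := fun k => cv 1 (one_mem _) (by rw [e, k, sq v v1])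
  have cs : ∀ u ∈ A, u = 1 ∨ u = v ∨ u = w ∨ u = w * v := fun u hu => by
    by_contra! k
    have h5 : ({1, v, w, w * v, u} : Set G).ncard = 5 := by
      have := n1 v v3
      have := n1 w w3
      have : w * v ≠ 1 := cv 1 (one_mem _) ∘ e.trans
      rw [Set.ncard_insert_of_notMem, Set.ncard_insert_of_notMem, Set.ncard_insert_of_notMem,
        Set.ncard_pair k.2.2.2.symm] <;> simp only [Set.mem_insert_iff, Set.mem_singleton_iff] <;>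
        grind
    have := Set.ncard_le_ncard (s := ({1, v, w, w * v, u} : Set G)) (t := A) (by
      intro y hy
      rcases hy with rfl | rfl | rfl | rfl | rfl
      exacts [one_mem _, v1, w1, mul_mem w1 v1, hu])
    change _ ≤ 𝐨(A) at this
    omega
  have a1 : A ≤ K := fun u hu => by
    rcases cs u hu with rfl | rfl | rfl | rfl
    exacts [one_mem _, v2, w2, mul_mem w2 v2]
  have a2 : A ⊓ 𝐂(K) = ⊥ := eq_bot_iff.2 fun u hu => by
    rcases cs u hu.1 with k | rfl | rfl | rfl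
    exacts [k, absurd hu.2 v3, absurd hu.2 w3, absurd e (cv _ hu.2)]
  have a3 : ⊤ ≤ 𝐍(K) := fun g _ => comp_norm hK trivial v2 fun k => by
    have c : g * v * g⁻¹ ∈ 𝐂(A) := cent_anti a1 k
    have g2 : (g * v * g⁻¹) ^ 2 = 1 := by rw [conj_pow, el.2 v v1]; group
    have := sc (A ⊔ zpowers (g * v * g⁻¹)) le_top (elemAb_isPGroup (elemAb_sup el
      (elemAb_zpowers g2) (zpowers_le.2 c))) le_sup_left v v1 g trivial
      (mem_sup_right (mem_zpowers _))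
    exact n1 v v3 (by simpa using a2.le ⟨this, k⟩)
  have a4 : S ⊓ K ≤ A ⊔ 𝐂(K) := by
    have b1 : A ≤ S ⊓ K := le_inf hA a1
    have b2 : 𝐂(K).relIndex A = 𝐨(A) := by rw [← inf_relIndex_left, a2, relIndex_bot_left]
    have b3 : 4 ≤ 𝐨(A) := by
      have h4 : ({1, v, w, w * v} : Set G).ncard = 4 := by
        have := n1 v v3
        have := n1 w w3
        have : w * v ≠ 1 := cv 1 (one_mem _) ∘ e.trans
        rw [Set.ncard_insert_of_notMem, Set.ncard_insert_of_notMem, Set.ncard_pair] <;>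
          try simp only [Set.mem_insert_iff, Set.mem_singleton_iff] <;> grind
        all_goals grind
      have := Set.ncard_le_ncard (s := ({1, v, w, w * v} : Set G)) (t := A) (by
        intro y hy
        rcases hy with rfl | rfl | rfl | rfl
        exacts [one_mem _, v1, w1, mul_mem w1 v1])
      rwa [h4] at this
    have nC : ∀ U : Subgroup G, U ≤ 𝐍(𝐂(K)) := fun U => le_top.trans (a3.trans norm_cent)
    have b4 : 𝐂(K).relIndex (A ⊔ 𝐂(K)) = 𝐂(K).relIndex (S ⊓ K ⊔ 𝐂(K)) := by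
      rw [H1.relIndex_sup_of_le_normalizer (nC _), H1.relIndex_sup_of_le_normalizer (nC _),
        z.card, b2]
      omega
    have b5 := relIndex_mul_relIndex 𝐂(K) (A ⊔ 𝐂(K)) (S ⊓ K ⊔ 𝐂(K)) le_sup_right
      (sup_le_sup_right b1 _)
    rw [b4] at b5
    exact le_sup_left.trans (relIndex_eq_one.1
      (Nat.eq_of_mul_eq_mul_left (H2.relIndex_pos _ _) (b5.trans (mul_one _).symm)))
  have a5 : S ≤ A ⊔ S ⊓ 𝐂(K) := fun x hx => by
    obtain ⟨k, hk⟩ := pow_two_pow hS.pgrp hx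
    obtain ⟨s, hs, c, hc, rfl⟩ := l2_dec z hZ hk (a3 trivial)
      (H1.le_normalizer_inf (le_norm_self S) (le_top.trans a3) hx)
    obtain ⟨u, hu, c', hc', rfl⟩ := (mem_sup_of_norm ((cent_anti a1).trans (cent_le_norm A))).1 (a4 hs)
    rw [mul_assoc] at hx ⊢
    exact mul_mem (mem_sup_left hu) (mem_sup_right
      ⟨(mul_mem_cancel_left (hA hu)).1 hx, mul_mem hc' hc⟩)
  have a6 : d ∈ 𝐍(A) := mem_norm_of_conj_le fun x hx => by
    obtain ⟨u, hu, rfl⟩ := mem_conj'.1 hx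
    exact sc S le_top hS.pgrp hA u hu d trivial (cjm hd.2 ⟨hA hu, a1 hu⟩).1
  refine ⟨a1, a3, a2, a5, d, ⟨hd.1, ?_⟩, ⟨j, hj⟩, fun k => w3 ?_⟩
  · rw [le_antisymm a5 (sup_le hA inf_le_left)]
    exact H1.le_normalizer_sup (zpowers_le.2 a6) (zpowers_le.2 (cent_le_norm _
      (cent_comm.1 (inf_le_right : S ⊓ 𝐂(K) ≤ _) hd.1))) (mem_zpowers d)
  · rw [← k v v1, mul_inv_cancel_right, eq_comm, mul_eq_right] at e
    exact e ▸ one_mem _

/-- The local facts for an active subgroup `X` with Sylow subgroup `T`. -/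
structure LF (A X T W : Subgroup G) (d : G) : Prop where
  le : W ≤ T
  sup : A ⊔ W = T
  disj : A ⊓ W = ⊥
  dX : d ∈ X
  dT : d ∈ 𝐍(T)
  dW : d ∈ 𝐂(W)
  odd : Odd (orderOf d)
  dn : d ∉ 𝐂(A)
  nW : X ⊓ 𝐍(T) ≤ 𝐍(W)
  key : ∀ y ∈ X, Odd (orderOf y) → ∀ b ∈ A, ∀ g ∈ W, b * y * b⁻¹ = y⁻¹ → g * y * g⁻¹ = y⁻¹ →
    y ∈ od X
  ns : ∀ f ∈ W, ∀ M : Subgroup G, Group.IsSolvable M → A ≤ M → ¬ X ⊓ 𝐂[f] ≤ 𝐍(M)

theorem lf {A S X T : Subgroup G} (h : Gl A S) (c4 : 𝐨(A) ≤ 4) (hX : X ≠ ⊤) (hT : IsSyl 2 T X)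
    (hA : A ≤ T) (act : Act A X) : ∃ W d, LF A X T W d := by
  obtain ⟨K, hK, act, k3⟩ := act
  have AX := hA.trans hT.le
  have i3 : I3 (X ⧸ (od X).subgroupOf X) := P18.A.i3_bar h.i3 X _
  have hZ : IsPGroup 2 (K ⊓ 𝐂(K) : Subgroup _) := (H2.isPGroup_pCoreOf 2 ⊤).to_le
    (hK.inf_centralizer_le_fittingOf.trans (fittingOf_eq_pCoreOf Nat.prime_two (H7.SC.od_br X)).le)
  have sT := H7.SC.isSyl_br hT
  have z := ((h.z _ K _ i3 hK.2 hZ (h.k3.mono (Nat.succ_le_of_lt (lt_of_le_of_lt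
    ((Nat.le_of_dvd Nat.card_pos (relIndex_dvd_card _ _)).trans ((card_le_card_group K).trans
    (Nat.le_of_dvd Nat.card_pos (card_quotient_dvd_card _))))
    ((H1.card_lt_of_lt (lt_top_iff_ne_top.2 hX)).trans_eq card_top))))
    (P14.syl_comp sT hK)).resolve_left fun e => e.1 k3).2
  obtain ⟨a1, a2, a3, a4, D, hD, ⟨j, hj⟩, dn⟩ := act4 i3 sT (H1.bar_mono hA)
    (H7.SC.elemAb_br AX h.el) ((Nat.le_of_dvd Nat.card_pos (H1.card_bar_dvd A)).trans c4)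
    (sc_br h.el h.sc AX) hK z hZ act
  have h1 := hD.2
  rw [H7.SC.norm_br hT.pgrp hT.le] at h1
  obtain ⟨d, hd, rfl⟩ := h1
  have mW : ∀ x : X, (x : G) ∈ H1.unbar X (od X) 𝐂(K) ↔ H1.qmk X (od X) x ∈ 𝐂(K) := fun x => by
    rw [H1.mem_unbar]
    exact ⟨fun ⟨_, e⟩ => e, fun e => ⟨x.2, e⟩⟩
  have one : ∀ x ∈ T, x ∈ od X → x = 1 := fun x a b => (od_inf hT.pgrp).le ⟨b, a⟩
  refine ⟨T ⊓ H1.unbar X (od X) 𝐂(K), d, inf_le_left, le_antisymm (sup_le hA inf_le_left)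
    fun x hx => ?_, eq_bot_iff.2 fun x hx => ?_, d.2, hd.2, fun w hw => ?_, ?_, fun e => dn ?_,
    H1.le_normalizer_inf inf_le_right (inf_le_left.trans (H1.le_normalizer_unbar le_rfl ?_)),
    fun y hy ho b hb g hg e1 e2 => ?_, fun f hf M hs hM hn => ?_⟩
  · obtain ⟨_, ⟨a, ha, rfl⟩, c, hc, e⟩ := (mem_sup_of_norm (inf_le_right.trans ((cent_anti a1).trans
      (cent_le_norm _)))).1 (a4 (H1.qmk_mem_bar (y := ⟨x, hT.le hx⟩) hx))
    have : (a : G)⁻¹ * x ∈ T ⊓ H1.unbar X (od X) 𝐂(K) := ⟨T.mul_mem (T.inv_mem (hA ha)) hx,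
      (mW (a⁻¹ * ⟨x, hT.le hx⟩)).2 (by rw [map_mul, map_inv, ← e]; simpa using hc.2)⟩
    simpa using mul_mem (mem_sup_left (T := T ⊓ H1.unbar X (od X) 𝐂(K)) ha) (mem_sup_right this)
  · exact one x hx.2.1 (H1.qmk_eq_one_iff.1 (a3.le ⟨H1.qmk_mem_bar (y := ⟨x, AX hx.1⟩) hx.1,
      (mW ⟨x, AX hx.1⟩).1 hx.2.2⟩))
  · refine commutatorElement_eq_one_iff_mul_comm.1 (one _ (cml hd.2 hw.1)
      ((H1.qmk_eq_one_iff (y := ⁅(⟨w, hT.le hw.1⟩ : X), d⁆)).1 ?_))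
    rw [map_commutatorElement, commutatorElement_eq_one_iff_mul_comm]
    exact ((mW ⟨w, hT.le hw.1⟩).1 hw.2 _ hD.1).symm
  · have b1 : (d : G) ^ 3 ^ j ∈ od X := (H1.qmk_eq_one_iff (y := d ^ 3 ^ j)).1 (by rwa [map_pow])
    have b2 := orderOf_dvd_of_pow_eq_one (show (d : G) ^ (3 ^ j * 𝐨(od X)) = 1 by
      rw [pow_mul]; exact orderOf_dvd_iff_pow_eq_one.1 (orderOf_dvd_card_of_mem b1))
    exact (Odd.mul (Odd.pow (by decide)) (Nat.coprime_two_right.1 (H7.SC.od_cop X))).of_dvd_nat b2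
  · rintro _ ⟨a, ha, rfl⟩
    rw [← map_mul, ← map_mul]
    exact congrArg _ (Subtype.ext (e a ha))
  · exact le_top.trans (a2.trans norm_cent)
  · have gX := hT.le hg.1
    have o : Odd (orderOf (H1.qmk X (od X) ⟨y, hy⟩)) :=
      (orderOf_coe (⟨y, hy⟩ : X) ▸ ho : Odd (orderOf (⟨y, hy⟩ : X))).of_dvd_nat (orderOf_map_dvd _ _)
    have f1 : H1.qmk X (od X) ⟨b, AX hb⟩ * H1.qmk X (od X) ⟨y, hy⟩ * (H1.qmk X (od X) ⟨b, AX hb⟩)⁻¹ =
        (H1.qmk X (od X) ⟨y, hy⟩)⁻¹ := by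
      rw [← map_inv, ← map_mul, ← map_mul, ← map_inv]; exact congrArg _ (Subtype.ext e1)
    have f2 : H1.qmk X (od X) ⟨g, gX⟩ * H1.qmk X (od X) ⟨y, hy⟩ * (H1.qmk X (od X) ⟨g, gX⟩)⁻¹ =
        (H1.qmk X (od X) ⟨y, hy⟩)⁻¹ := by
      rw [← map_inv, ← map_mul, ← map_mul, ← map_inv]; exact congrArg _ (Subtype.ext e2)
    have f3 := a1 (H1.qmk_mem_bar (y := ⟨b, AX hb⟩) hb)
    have f4 := (mW ⟨g, gX⟩).1 hg.2
    refine (H1.qmk_eq_one_iff (y := ⟨y, hy⟩)).1 ?_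
    generalize H1.qmk X (od X) ⟨y, hy⟩ = Y at o f1 f2 ⊢
    generalize H1.qmk X (od X) ⟨b, AX hb⟩ = B at f1 f3
    generalize H1.qmk X (od X) ⟨g, gX⟩ = C at f2 f4
    have f5 : Y ^ 2 ∈ K := by
      have := cmr (a2 (mem_top Y)) f3
      rwa [commutatorElement_def, show Y * B * Y⁻¹ * B⁻¹ = Y * (B * Y * B⁻¹)⁻¹ by group, f1, inv_inv,
        ← pow_two] at this
    have f6 : C * Y ^ 2 * C⁻¹ = Y ^ 2 := by rw [← f4 _ f5, mul_inv_cancel_right]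
    rw [← conj_pow, f2, inv_pow, inv_eq_iff_mul_eq_one, ← pow_add] at f6
    exact eq_one_of (k := 2) f6 o
  · have fX := hT.le hf.1
    have b1 : K ≤ 𝐍(br X M) := by
      refine le_trans (le_trans ?_ (H7.SC.cent_br (hT.pgrp.to_le (zpowers_le.2 hf.1))
        (zpowers_le.2 fX))) (H1.bar_le_normalizer (by rwa [cent_zpowers]))
      rw [br, H1.bar_zpowers ⟨f, fX⟩]
      exact cent_comm.1 (zpowers_le.2 ((mW ⟨f, fX⟩).1 hf.2))
    rcases (H2.isQuasisimple_subgroup_iff.1 hK.2).2.2 (br X M ⊓ K) inf_le_right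
      (H1.le_normalizer_inf b1 (le_norm_self K)) with e | e
    · exact H2.QS.not_isSolvable hK.2 (H1.isSolvable_of_le (e.ge.trans inf_le_left)
        (H1.isSolvable_bar hs))
    · exact act ((le_inf (H1.bar_mono hM) a1).trans e)

end B4

end Cfsg.Agent.P18
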