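/-
P18, chapter B4 (a): the signalizer functor.
-/
import Cfsg.Agent.P18.B4L

set_option autoImplicit false
set_option linter.unusedSectionVars false

namespace Cfsg.Agent.P18.B4

open Subgroup Cfsg Cfsg.Agent Cfsg.Agent.FT
open Cfsg.Agent.P14 (SC norm_cent)
open Cfsg.Agent.H2.ZC (oc wc oc_le oc_cop le_norm_oc le_wc wc_le)
open Cfsg.Agent.H7.SC (od od_le od_cop le_norm_od)
open scoped commutatorElement

universe u

variable {G : Type u} [Group G] [Finite G]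

theorem odd_le {O A U : Subgroup G} (hA : IsPGroup 2 A) (hn : A ≤ 𝐍(O)) (hU : U ≤ O ⊔ A)
    (ho : 𝐨(U).Coprime 2) : U ≤ O := by
  haveI := H1.normal_subgroupOf_of_le (sup_le (le_norm_self O) hn)
  refine (H1.bar_eq_bot_iff (N := O) hU).1 (eq_bot_iff.2 (le_trans (le_inf le_rfl ?_)
    (H1.inf_eq_bot_of_coprime' (H1.coprime_card_of_isPGroup
      (IsPGroup.map (hA.comap_subtype (K := O ⊔ A)) (H1.qmk (O ⊔ A) O))
      (ho.coprime_dvd_left (H1.card_bar_dvd U)))).le))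
  exact (H1.bar_le_bar_iff le_sup_left hU le_sup_right).2 (hU.trans (sup_comm O A).le)

theorem chyp_of {A S : Subgroup G} (h : Gl A S) (c4 : 4 ≤ 𝐨(A)) (ho : 𝐨(wc A).Coprime 2)
    (loc : ∀ a ∈ A, a ≠ 1 → 𝐂[a] ≤ oc a ⊔ 𝐍(A)) : CHyp A (wc A) := by
  have nn : ∀ U : Subgroup G, U ≠ ⊥ → U ≠ ⊤ → 𝐍(U) ≠ ⊤ := fun U h1 h2 e =>
    (h.sim.eq_bot_or_eq_top_of_normal U (normal_iff_top_le.2 e.ge)).elim h1 h2
  refine ⟨h.el, c4, h.sc, Nat.coprime_two_right.1 ho, P14.Gl.norm_wc A, fun e => ?_,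
    fun a ha a1 => (loc a ha a1).trans (sup_le_sup_right (le_wc ha a1) _)⟩
  by_cases e' : wc A = ⊥
  · rw [e', bot_sup_eq] at e
    exact nn A h.ne (fun e => h.nc ⟨⟨fun x y => isMulComm_iff_le_cent.1 h.el.1 (e.ge (mem_top y)) x
      (e.ge trivial)⟩⟩) e
  · refine nn _ e' (fun k => h.ne ?_)
      (top_le_iff.1 (e.ge.trans (sup_le (le_norm_self _) (P14.Gl.norm_wc A))))
    have := H1.inf_eq_bot_of_coprime' (H1.coprime_card_of_isPGroup (elemAb_isPGroup h.el) ho)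
    rwa [k, top_inf_eq] at this

theorem wc_cop {A : Subgroup G} (el : IsElem 2 2 A) {t : G} (tt : t ^ 2 = 1) (tA : t ∉ A)
    (tc : t ∈ 𝐂(A)) (loc : ∀ e ∈ A ⊔ zpowers t, e ≠ 1 → 𝐂[e] ≤ oc e ⊔ 𝐂[e] ⊓ 𝐍(A))
    (loc' : ∀ a ∈ A, a ≠ 1 → 𝐂[a] ⊓ 𝐍(A) ≤ 𝐂(A)) : 𝐨(wc A).Coprime 2 := by
  have hE := H2.ZC.isElem_sup_zpowers el tA tt tc
  have gen : ∀ e ∈ A ⊔ zpowers t, e ∉ A → 𝐂[e] ⊓ 𝐂(A) ≤ 𝐂(A ⊔ zpowers t) := fun e he hn => by
    obtain ⟨a, ha, z, hz, rfl⟩ := (mem_sup_of_norm (zpowers_le.2 (cent_le_norm A tc))).1 he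
    rcases (P7.mem_zpowers_invol ((pow_two t).symm.trans tt)).1 hz with rfl | rfl
    · exact absurd (by simpa using ha) hn
    rw [cent_sup, cent_zpowers]
    refine le_inf inf_le_right fun x hx => mem_cent1_comm.1 ?_
    simpa using mul_mem (inv_mem (mem_cent1_comm.1 (cent_le_cent1 ha hx.2))) (mem_cent1_comm.1 hx.1)
  have AE : A ≤ A ⊔ zpowers t := le_sup_left
  generalize A ⊔ zpowers t = E at hE gen AE loc
  have cc : E ≤ 𝐂(E) := isMulComm_iff_le_cent.1 hE.1.1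
  have n1 : ∀ e ∈ E, od 𝐂(E) ≤ 𝐍(oc e) := fun e he =>
    ((od_le _).trans (cent_le_cent1 he)).trans (le_norm_oc e)
  have cop : ∀ e ∈ E, 𝐨((oc e ⊔ od 𝐂(E) : Subgroup G)).Coprime 2 := fun e he => by
    rw [sup_comm]
    exact H9.coprime_card_sup (n1 e he) (od_cop _) (oc_cop e)
  have inv : ∀ e ∈ E, E ≤ 𝐍(oc e ⊔ od 𝐂(E)) := fun e he => H1.le_normalizer_sup
    ((cc.trans (cent_le_cent1 he)).trans (le_norm_oc e)) (cc.trans (le_norm_od _))
  have k1 : ∀ e ∈ E, ∀ U ≤ E, e ∈ U → oc e ⊓ 𝐂(U) ≤ od 𝐂(U) := fun e _ U _ he =>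
    le_pPrimeCoreOf ⟨inf_le_right, H1.le_normalizer_inf ((cent_le_cent1 he).trans (le_norm_oc e))
      (le_norm_self _)⟩ ((oc_cop e).coprime_dvd_left (FT.card_dvd_of_le inf_le_left))
  have k2 : ∀ e ∈ E, (oc e ⊔ od 𝐂(E)) ⊓ 𝐂(E) ≤ od 𝐂(E) := fun e he => by
    rw [sup_inf_of_le_right (n1 e he) (od_le _)]
    exact sup_le (k1 e he E le_rfl he) le_rfl
  obtain ⟨M, hM, h⟩ := H2.sig_complete ⟨hE.1, hE.2⟩ (θ := fun e => oc e ⊔ od 𝐂(E))
    ⟨fun e he _ => sup_le (oc_le e) ((od_le _).trans (cent_le_cent1 he)), fun e he _ => inv e he,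
    fun e he _ => cop e he, fun e he _ => feit_thompson _ (Nat.coprime_two_right.1 (cop e he)),
    fun e he _ f hf f1 => by
      have c1 : 𝐨(((oc e ⊔ od 𝐂(E)) ⊓ 𝐂[f] : Subgroup G)).Coprime 2 :=
        (cop e he).coprime_dvd_left (FT.card_dvd_of_le inf_le_left)
      have c2 : A ≤ 𝐂[f] := AE.trans (cc.trans (cent_le_cent1 hf))
      have c3 : A ≤ 𝐍((oc e ⊔ od 𝐂(E)) ⊓ 𝐂[f]) :=
        H1.le_normalizer_inf (AE.trans (inv e he)) (c2.trans (le_norm_self _))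
      have c4 : 𝐂[f] ≤ 𝐍(oc f ⊔ A) := (loc f hf f1).trans (sup_le (le_sup_left.trans
        (le_norm_self _)) (H1.le_normalizer_sup (inf_le_left.trans (le_norm_oc f)) inf_le_right))
      refine (H1.commutator_sup_centralizer c3 (H1.coprime_card_of_isPGroup el.pgrp c1).symm
        (Or.inl (H1.isSolvable_of_isPGroup el.pgrp))).ge.trans (sup_le (le_sup_of_le_left ?_) ?_)
      · exact odd_le el.pgrp (c2.trans (le_norm_oc f)) ((commutator_mono inf_le_right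
          le_sup_right).trans (comm_le_right_iff.2 c4))
          (c1.coprime_dvd_left (FT.card_dvd_of_le (comm_le_left_iff.2 c3)))
      by_cases eA : e ∈ A
      swap
      · exact le_sup_of_le_right (le_trans (le_inf (inf_le_left.trans inf_le_left) (le_trans
          (inf_le_inf_right _ (inf_le_left.trans (sup_le (oc_le e)
          ((od_le _).trans (cent_le_cent1 he))))) (gen e he eA))) (k2 e he))
      by_cases fA : f ∈ A
      swap
      · exact le_sup_of_le_right (le_trans (le_inf (inf_le_left.trans inf_le_left) (le_trans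
          (inf_le_inf_right _ inf_le_right) (gen f hf fA))) (k2 e he))
      refine (inf_le_inf_right _ inf_le_left).trans ?_
      rw [sup_inf_of_le_right (n1 e he) ((od_le _).trans (cent_anti AE))]
      refine sup_le_sup_right ((k1 e he A AE eA).trans (le_sup_right.trans (le_pPrimeCoreOf
        (N := oc f ⊔ od 𝐂(A)) ⟨sup_le (oc_le f) ((od_le _).trans (cent_le_cent1 fA)),
        (loc f hf f1).trans (sup_le (le_sup_left.trans (le_norm_self _)) (H1.le_normalizer_sup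
          (inf_le_left.trans (le_norm_oc f)) ((loc' f fA f1).trans (le_norm_od _))))⟩ ?_))) _
      rw [sup_comm]
      exact H9.coprime_card_sup (((od_le _).trans (cent_le_cent1 fA)).trans (le_norm_oc f))
        (od_cop _) (oc_cop f)⟩ fun e he _ => cop e he
  exact hM.cop.coprime_dvd_left (FT.card_dvd_of_le (wc_le fun a ha a1 =>
    le_sup_left.trans (h a (AE ha) a1)))

end Cfsg.Agent.P18.B4
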