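/-
P18, chapter B4 (b): the configuration of an active involution.
-/
import Cfsg.Agent.P18.B4a

set_option autoImplicit false
set_option linter.unusedSectionVars false

namespace Cfsg.Agent.P18.B4

open Subgroup Cfsg Cfsg.Agent Cfsg.Agent.FT
open Cfsg.Agent.H2.ZC (oc)
open scoped commutatorElement

universe u

variable {G : Type u} [Group G] [Finite G]

/-- `Z = A × W` is the Sylow subgroup of the centralizer of an active involution, `Q = N_S(Z)`. -/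
structure Ac (A S Z W Q : Subgroup G) (d : G) : Prop where
  gl : Gl A S
  f4 : U.F4 A
  cen : S ≤ 𝐂(A)
  sup : A ⊔ W = Z
  disj : A ⊓ W = ⊥
  ne : W ≠ ⊥
  el : IsElementaryAbelian 2 Z
  ZQ : Z ≤ Q
  QS : Q ≤ S
  sylQ : IsSyl 2 Q 𝐍(Z)
  sylZ : ∀ f ∈ Z, f ∉ A → IsSyl 2 Z 𝐂[f]
  idx : Z.relIndex Q = 4
  sq : ∀ x ∈ Q, x * x ∈ A
  com : ∀ x ∈ Q, ∀ y ∈ Q, ⁅x, y⁆ ∈ A
  full : ∀ f ∈ Z, f ∉ A → ∀ a ∈ A, ∃ x ∈ Q, ⁅x, f⁆ = a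
  dQ : d ∈ 𝐍(Q)
  dW : d ∈ 𝐂(W)
  dA : d ∈ 𝐍(A)
  dn : d ∉ 𝐂(A)
  odd : Odd (orderOf d)
  key : ∀ f ∈ W, f ≠ 1 → ∀ y ∈ 𝐂[f], Odd (orderOf y) → ∀ b ∈ A, ∀ g ∈ W,
    b * y * b⁻¹ = y⁻¹ → g * y * g⁻¹ = y⁻¹ → y ∈ oc f

/-- The case `|W| = 2` (Thompson transfer). -/
def B4cStmt : Prop := ∀ (G : Type u) [Group G] [Finite G] (A S Z W Q : Subgroup G) (d : G),
  Ac A S Z W Q d → 𝐨(W) = 2 → (∀ t ∈ S, t * t = 1 → t ∉ A → 𝐨((S ⊓ 𝐂[t] : Subgroup G)) ≤ 8) → False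

/-- The case `|W| = 4`: `S = Q`. -/
def B4dStmt : Prop := ∀ (G : Type u) [Group G] [Finite G] (A S Z W Q : Subgroup G) (d : G),
  Ac A S Z W Q d → 𝐨(W) = 4 → Q = S ∧ ∀ u ∈ S, u ∉ A → ∀ a ∈ A, ∃ x ∈ S, ⁅x, u⁆ = a

end Cfsg.Agent.P18.B4
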