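/-
Sylow 2-subgroups of type `U₃(4)`: the induction and the local facts.
-/
import Cfsg.Agent.P18.U0

set_option autoImplicit false
set_option linter.unusedSectionVars false
set_option linter.style.haveILetI false

namespace Cfsg.Agent.P18.U

open Subgroup Cfsg Cfsg.Agent Cfsg.Agent.FT
open Cfsg.Agent.P6 (Inv Od Qt pr)
open Cfsg.Agent.P7 (br Zs AS)
open Cfsg.Agent.P14.St (I3)
open Cfsg.Agent.H2 (layerOf)
open scoped commutatorElement

universe u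

variable {G : Type u} [Group G] [Finite G]

/-- The minimal configuration. -/
structure UH (S A : Subgroup G) : Prop extends US S A where
  i3 : I3 G
  loc : ∀ X : Subgroup G, X ≠ ⊤ → S ≤ X → X ≤ Od X ⊔ X ⊓ 𝐍(S)
  tri : ∃ ρ ∈ 𝐍(S), ρ ∉ 𝐂(A)

def SimpleStmt : Prop := ∀ (G : Type u) [Group G] [Finite G] [IsSimpleGroup G] (S A : Subgroup G),
  UH S A → False

namespace US

variable {S A : Subgroup G} (h : US S A)
include h

theorem frat : 𝐍(A) ≤ 𝐂(A) ⊔ 𝐍(S) :=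
  ((h.sylX h.cen).frattini Nat.prime_two ⟨cent_le_norm A, H1.normalizer_le_normalizer_centralizer A⟩).ge.trans
    (sup_le_sup_left inf_le_right _)

theorem nc_of_normal {N : Subgroup G} (hN : ⊤ ≤ 𝐍(N)) (hS : ¬ S ≤ N) : N ⊓ 𝐍(A) ≤ 𝐂(A) := by
  have hSN : S ≤ 𝐍(N) := le_top.trans hN
  have k : N ⊓ 𝐍(S) ≤ 𝐂(A) := H1.le_of_forall_isPGroup_le fun p hp P hP pP _ => by
    by_cases e : p = 2
    · subst e
      exact (h.syl.le_of_norm hp pP le_top (hP.trans inf_le_right)).trans h.cen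
    have ho := P6.odd_of_isPGroup hp e pP
    have h1 := H1.commutator_sup_centralizer (hP.trans inf_le_right)
      (P7.cop_two_odd h.two ho).symm (.inl (P5.Mx.isSolvable_of_odd ho))
    obtain ⟨a, ha, ia⟩ := P7.exists_inv_of_two (h.two.to_le (inf_le_left (b := 𝐂(P)))) fun e => hS (by
      rw [e, sup_bot_eq] at h1
      exact h1.ge.trans ((commutator_mono le_rfl (hP.trans inf_le_left)).trans
        (comm_le_right_iff.2 hSN)))
    exact fun g hg => h.f4.mem_cent_of_commute (h.norm_le (hP hg).2) ((h.inv a ha.1).1 ia.sq) ia.ne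
      (mem_centralizer_iff.1 ha.2 g hg)
  have hY : S ≤ (N ⊔ S) ⊓ 𝐍(A) := le_inf le_sup_right (h.cen.trans (cent_le_norm A))
  have h2 := (h.sylX (le_inf hY h.cen)).frattini (M := (N ⊔ S) ⊓ 𝐍(A)) Nat.prime_two
    ⟨inf_le_left, H1.le_normalizer_inf le_normalizer
      (inf_le_right.trans (H1.normalizer_le_normalizer_centralizer A))⟩
  refine (inf_le_inf_right _ le_sup_left).trans (h2.ge.trans (sup_le inf_le_right ?_))
  refine (inf_le_inf_right _ inf_le_left).trans ?_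
  rw [sup_inf_of_le_right hSN le_normalizer]
  exact sup_le k h.cen

theorem normal_of_zs {N : Subgroup G} (hN : ⊤ ≤ 𝐍(N)) (hO : Od (⊤ : Subgroup G) = ⊥) (hA : A ≤ N)
    (hn : N ⊓ 𝐍(A) ≤ 𝐂(A)) : ⊤ ≤ 𝐍(A) := by
  have hs := h.syl.inf_normal Nat.prime_two ⟨le_top, hN⟩
  have o : Od N = ⊥ := eq_bot_iff.2 (hO ▸ P6.le_Od ⟨le_top, hN.trans (P6.norm_le_norm_Od N)⟩
    (P6.odd_Od N))
  intro g _
  refine mem_norm_of_conj_le fun a ha => ?_
  obtain ⟨b, hb, rfl⟩ := mem_conj'.1 ha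
  obtain ⟨k, hk, e⟩ := hs.exists_conj_le Nat.prime_two (P7.two_zpowers (P7.sq_cj (h.sqA hb) g))
    (zpowers_le.2 (P7.cjm (hN trivial) (hA hb)))
  have h1 := (h.inv _ (e (conj_mem_conj (mem_zpowers _) k)).1).1 (P7.sq_cj (P7.sq_cj (h.sqA hb) g) k)
  have h2 := h.zs hA hs hn h1 k⁻¹ (inv_mem hk)
  rw [o, mem_bot, commutatorElement_eq_one_iff_mul_comm] at h2
  have : g * b * g⁻¹ = k * (g * b * g⁻¹) * k⁻¹ := by
    calc _ = k⁻¹ * (k * (g * b * g⁻¹) * k⁻¹) * k := by group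
      _ = _ := by rw [← h2]; group
  rwa [this]

theorem normal_of_A (hO : Od (⊤ : Subgroup G) = ⊥) (hA : ⊤ ≤ 𝐍(A)) : ⊤ ≤ 𝐍(S) := by
  have o : Od 𝐂(A) = ⊥ := eq_bot_iff.2 (hO ▸ P6.le_Od ⟨le_top, (hA.trans
    (H1.normalizer_le_normalizer_centralizer A)).trans (P6.norm_le_norm_Od _)⟩ (P6.odd_Od _))
  have := h.cent_le
  rw [o, bot_sup_eq] at this
  exact hA.trans (h.frat.trans (sup_le (this.trans inf_le_right) le_rfl))

end US

theorem normal_aux (H : SimpleStmt.{u}) (n : ℕ) : ∀ (G : Type u) [Group G] [Finite G]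
    (S A : Subgroup G), Nat.card G < n → I3 G → US S A → Od (⊤ : Subgroup G) = ⊥ → ⊤ ≤ 𝐍(S) := by
  induction n with
  | zero => exact fun _ _ _ _ _ h => absurd h (Nat.not_lt_zero _)
  | succ n ih =>
  intro G _ _ S A hn h3 h hO
  have loc : ∀ X : Subgroup G, X ≠ ⊤ → S ≤ X → X ≤ Od X ⊔ X ⊓ 𝐍(S) := fun X h1 hX => by
    have := ih (Qt X) _ _ (((Nat.le_of_dvd Nat.card_pos (P7.KO.card_bar_dvd X)).trans_lt
      ((H1.card_lt_of_lt (Ne.lt_top h1)).trans_eq card_top)).trans_le (Nat.lt_succ_iff.1 hn))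
      ((h3.subgroup X).of_surjective _ H1.qmk_surjective) (h.bar hX) (P7.KO.Od_bar X)
    rw [P7.br_norm hX h.two, ← H1.bar_top, H1.bar_le_bar_iff (P7.Od_le X) le_rfl inf_le_left,
      sup_comm] at this
    exact this
  by_cases c : 𝐍(S) ≤ 𝐂(A)
  · exact h.normal_of_A hO (h.normal_of_zs (le_normalizer.trans (by simp)) hO le_top
      (inf_le_right.trans (h.frat.trans (sup_le le_rfl c))))
  obtain ⟨ρ, hρ, hρ'⟩ := SetLike.not_le_iff_exists.1 c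
  by_cases hs : IsSimpleGroup G
  · exact (H G S A ⟨h, h3, loc, ρ, hρ, hρ'⟩).elim
  obtain ⟨N, hN, N1, N2⟩ : ∃ N : Subgroup G, N.Normal ∧ N ≠ ⊥ ∧ N ≠ ⊤ := by
    by_contra! k
    haveI : Nontrivial G := by
      obtain ⟨a, -, a1, -⟩ := h.f4.exists_ne 1
      exact ⟨a, 1, a1⟩
    exact hs ⟨fun N hN => or_iff_not_imp_left.2 (k N hN)⟩
  have hN' : ⊤ ≤ 𝐍(N) := (normalizer_eq_top N).ge
  have o : Od N = ⊥ := eq_bot_iff.2 (hO ▸ P6.le_Od ⟨le_top, hN'.trans (P6.norm_le_norm_Od N)⟩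
    (P6.odd_Od N))
  by_cases hS : S ≤ N
  · have := loc N N2 hS
    rw [o, bot_sup_eq] at this
    exact ((h.sylX hS).frattini Nat.prime_two ⟨le_top, hN'⟩).ge.trans
      (sup_le (this.trans inf_le_right) inf_le_right)
  refine h.normal_of_A hO (h.normal_of_zs hN' hO ?_ (h.nc_of_normal hN' hS))
  obtain ⟨j, hj, ij⟩ := P6.exists_inv_of_even (X := N) fun k =>
    N1 (eq_bot_iff.2 (hO ▸ P6.le_Od ⟨le_top, hN'⟩ k))
  obtain ⟨g, -, hg⟩ := h.exists_cj le_top (mem_top j) ij.sq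
  intro a ha
  rcases eq_or_ne a 1 with rfl | a1
  · exact one_mem N
  obtain ⟨k, -, rfl⟩ := h.f4.exists_conj (h.norm_le hρ) hρ' hg (ij.conj g).ne ha a1
  exact hN.conj_mem _ (hN.conj_mem _ hj g) k

theorem US.false (H : SimpleStmt.{u}) [IsSimpleGroup G] {S A : Subgroup G} (h : US S A)
    (h3 : I3 G) : False := by
  have hA := h.cardA
  have hO : Od (⊤ : Subgroup G) = ⊥ :=
    (normal_iff_top_le.2 (P7.le_norm_Od ⊤)).eq_bot_or_eq_top.resolve_right fun e => by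
      have := P6.odd_of_le (le_top.trans e.ge : A ≤ _) (P6.odd_Od ⊤)
      rw [hA] at this
      exact absurd this (by decide)
  have h1 := (normal_aux H _ G S A (Nat.lt_succ_self _) h3 h hO).trans h.norm_le
  rcases (normal_iff_top_le.2 h1).eq_bot_or_eq_top with e | e
  · rw [e, card_bot] at hA; omega
  · have := card_le_of_le (e.ge.trans' (le_top (a := S)))
    rw [hA, h.card] at this; omega

theorem le_cent1_of_fitting {W : Subgroup G} (ho : Odd 𝐨(W)) {t : G} (tt : t * t = 1)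
    (hn : t ∈ 𝐍(W)) (h : fittingOf W ≤ 𝐂[t]) : W ≤ 𝐂[t] := by
  have h1 : ⁅W, zpowers t⁆ ≤ fittingOf W := (le_inf (comm_le_left_iff.2 (zpowers_le.2 hn))
    ((commutator_mono le_rfl (P5.Mx.zpowers_le_cent_iff.2 h)).trans (comm_le_right_iff.2
      (H1.le_normalizer_centralizer (H2.le_normalizer_fittingOf W))))).trans
    (cent_fittingOf_le (P5.Mx.isSolvable_of_odd ho))
  rw [← P5.Mx.comm_eq_bot_iff, ← H1.commutator_commutator_eq (zpowers_le.2 hn)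
    (P5.Mx.coprime_zpowers tt ho), P5.Mx.comm_eq_bot_iff]
  exact h1.trans h

namespace UH

variable [IsSimpleGroup G] {S A : Subgroup G} (h : UH S A)
include h

theorem solv {X : Subgroup G} (h1 : X ≠ ⊤) (hX : S ≤ X) : Group.IsSolvable X := by
  have as := (h.sylX (le_inf hX le_normalizer))
  refine H1.isSolvable_of_le ((h.loc X h1 hX).trans (sup_comm _ _).le)
    (H2.isSolvable_sup_of_le_normalizer (inf_le_left.trans (P7.le_norm_Od X)) ?_ (P7.solv_Od X))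
  haveI := H1.normal_subgroupOf_of_le (inf_le_right : X ⊓ 𝐍(S) ≤ _)
  refine P7.solv_of_bar (N := S) le_rfl (H1.isSolvable_of_isPGroup h.two)
    (P5.Mx.isSolvable_of_odd ?_)
  rw [H1.card_bar le_rfl]
  exact Nat.not_even_iff_odd.1 fun k => as.ndvd (even_iff_two_dvd.1 k)

theorem lay {X : Subgroup G} (h1 : X ≠ ⊤) (hX : S ≤ X) : layerOf X = ⊥ :=
  H2.layerOf_eq_bot_of_isSolvable (h.solv h1 hX)

theorem le_Od {X W : Subgroup G} (h1 : X ≠ ⊤) (hX : S ≤ X) (hW : W ≤ X) (ho : Odd 𝐨(W))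
    (hn : S ≤ 𝐍(W)) : W ≤ Od X := by
  have u := h.toUS.bar hX
  have n : ⊤ ≤ 𝐍(br X S) := by
    rw [P7.br_norm hX h.two, ← H1.bar_top, H1.bar_le_bar_iff (P7.Od_le X) le_rfl inf_le_left,
      sup_comm]
    exact h.loc X h1 hX
  have o : Odd 𝐨(br X W) := ho.of_dvd_nat (H1.card_bar_dvd W)
  have c := P5.Mx.le_cent_of_coprime (le_top.trans n) (H1.bar_le_normalizer hn)
    (P7.cop_two_odd u.two o).symm
  have f : fittingOf ⊤ ≤ br X S := P5.Mx.fittingOf_le_of fun r hr => by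
    by_cases e : r = 2
    · exact e ▸ u.syl.pCoreOf_le Nat.prime_two
    · exact (P6.le_Od (pCoreOf_normal r ⊤) (P6.odd_of_isPGroup hr e
        (H2.isPGroup_pCoreOf r ⊤))).trans ((P7.KO.Od_bar X).le.trans bot_le)
  have := (le_inf le_top (c.trans (cent_anti f))).trans ((cent_fittingOf_le
    (H1.bar_top (Y := X) (N := Od X) ▸ H1.isSolvable_bar (h.solv h1 hX))).trans f)
  exact (H1.bar_eq_bot_iff hW).1 (eq_bot_iff.2 fun x hx => u.eq_one o (this hx) hx)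

theorem d1 {X Q : Subgroup G} (h1 : X ≠ ⊤) (hX : S ≤ X) {t : G} (ht : t ∈ A) {p : ℕ}
    (hp : p.Prime) (p2 : p ≠ 2) (hQX : Q ≤ X) (hQ : IsPGroup p Q) (hQt : ⁅Q, zpowers t⁆ = Q)
    (hn : X ⊓ 𝐂[t] ≤ 𝐍(Q)) : Q ≤ pCoreOf p X :=
  (P5.Mx.le_pCoreOf_of_odd hp (h.sqA ht) (P6.odd_Od X) (P7.le_norm_Od X (hX (h.le ht)))
    (h.le_Od h1 hX hQX (P6.odd_of_isPGroup hp p2 hQ) ((le_inf hX (h.le_cent1 ht)).trans hn)) hQ hQt
    ((inf_le_inf_right _ (P7.Od_le X)).trans hn)).trans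
    (((H2.snIn_pCoreOf p _).trans (H2.snIn_pPrimeCoreOf 2 X)).le_pCoreOf (H2.isPGroup_pCoreOf p _))

theorem exists_conj {t s : G} (ht : t ∈ A) (t1 : t ≠ 1) (hs : s ∈ A) (s1 : s ≠ 1) :
    ∃ g ∈ 𝐍(S), g * t * g⁻¹ = s := by
  obtain ⟨ρ, h1, h2⟩ := h.tri
  obtain ⟨g, hg, e⟩ := h.f4.exists_conj (h.norm_le h1) h2 ht t1 hs s1
  exact ⟨g, zpowers_le.2 h1 hg, e⟩

theorem norm_ne_top {X : Subgroup G} (h1 : X ≠ ⊥) (hX : Group.IsSolvable X) : 𝐍(X) ≠ ⊤ :=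
  P5.Mx.norm_ne_top h1 fun e => by
    subst e
    have := H1.isSolvable_of_le (le_top (a := S)) hX
    haveI : Group.IsSolvable G := Group.isSolvable_of_surjective (f := (⊤ : Subgroup G).subtype)
      fun x => ⟨⟨x, trivial⟩, rfl⟩
    obtain ⟨ρ, h1, h2⟩ := h.tri
    exact h2 (mem_centralizer_iff.2 fun a _ => IsSimpleGroup.comm_iff_isSolvable.2 this a ρ)

theorem cent1_ne_top {t : G} (ht : t ∈ A) (t1 : t ≠ 1) : 𝐂[t] ≠ ⊤ := fun e =>
  h.norm_ne_top (X := zpowers t) (fun k => t1 (zpowers_eq_bot.1 k))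
    (H1.isSolvable_of_isPGroup (P7.two_zpowers (h.sqA ht)))
    (top_le_iff.1 (e ▸ P5.Mx.cent1_le_norm_zpowers t))

/-- There is no strongly embedded subgroup. -/
theorem t0 {t : G} (ht : t ∈ A) (t1 : t ≠ 1) {M : Subgroup G} (hM : M ≠ ⊤) (hC : 𝐂[t] ≤ M) :
    M ⊓ 𝐍(A) ≤ 𝐂(A) := by
  intro x hx
  by_contra hxc
  have hS := (h.le_cent1 ht).trans hC
  have cj : ∀ a ∈ A, a ≠ 1 → ∃ g ∈ M, g * t * g⁻¹ = a := fun a ha a1 => by
    obtain ⟨g, hg, e⟩ := h.f4.exists_conj hx.2 hxc ht t1 ha a1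
    exact ⟨g, zpowers_le.2 hx.1 hg, e⟩
  have se : P6.SE G (G ⧸ M) := P6.se_quot h.syl hS fun s hs is g hg => by
    obtain ⟨a, ha, e1⟩ := cj s ((h.inv s hs).1 is.sq) is.ne
    obtain ⟨b, hb, e2⟩ := cj _ ((h.inv _ hg).1 (is.conj g).sq) (is.conj g).ne
    have : b⁻¹ * g * a ∈ M := hC (mem_cent1_iff_conj.2 (by
      calc b⁻¹ * g * a * t * (b⁻¹ * g * a)⁻¹ = b⁻¹ * (g * (a * t * a⁻¹) * g⁻¹) * b := by group
        _ = t := by rw [e1, ← e2]; group))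
    simpa [mul_assoc] using mul_mem (mul_mem hb this) (inv_mem ha)
  have it : Inv t := ⟨t1, h.sqA ht⟩
  haveI := P6.nontrivial_quot hM
  obtain ⟨β, hβ⟩ := exists_ne ((1 : G) : G ⧸ M)
  obtain ⟨b, ib, eb⟩ := P6.all_quot it (hC (self_mem_cent1 t)) β
  have fx : ∀ a ∈ M, a • ((1 : G) : G ⧸ M) = (1 : G) := fun a ha =>
    P6.smul_mk_eq_iff.2 (by simpa using ha)
  obtain ⟨v, iv, -, ev, -⟩ := se.exists_swap it ib (fx t (hC (self_mem_cent1 t))) eb hβ.symm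
  obtain ⟨s, hs, s1, st⟩ := h.f4.exists_ne t
  obtain ⟨k, hk, e1, e2, -⟩ := se.exists_K iv ev hβ.symm it ⟨s1, h.sqA hs⟩
    (fx t (hC (self_mem_cent1 t))) (fx s (hS (h.le hs)))
  have kM : k ∈ M := by simpa using P6.smul_mk_eq_iff.1 (P6.mem_St2.1 hk).1
  have k3 : ¬ 3 ∣ orderOf k := fun ⟨m, hm⟩ => by
    have := h.i3 (k ^ m) v (by rw [← pow_mul, mul_comm, ← hm, pow_orderOf_eq_one])
      (by rw [iv.inv_eq]; exact P6.inverts_pow iv.sq e1 m)
    have h2 := Nat.le_of_dvd (Nat.pos_of_ne_zero fun e => (orderOf_pos k).ne' (by simp [hm, e]))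
      (orderOf_dvd_of_pow_eq_one this)
    have := orderOf_pos k
    omega
  obtain ⟨o, ho, n, hn, rfl⟩ := (mem_sup_of_norm (inf_le_left.trans (P7.le_norm_Od M))).1
    (h.loc M hM hS kM)
  have cm : ∀ y ∈ Od M, y ∈ 𝐍(A) → y ∈ 𝐂(A) := fun y hy hy' => mem_centralizer_iff.2 fun a ha =>
    commutatorElement_eq_one_iff_mul_comm.1 (h.eq_one (P6.odd_Od M) (h.le (P7.comm_mem_left hy' ha))
      (P7.comm_mem_right (P7.le_norm_Od M (hS (h.le ha))) hy))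
  have nA := h.norm_le hn.2
  have n1 : n ^ orderOf (o * n) ∈ 𝐂(A) := cm _ (by
    have e : pr M ⟨o * n, kM⟩ = pr M ⟨n, hn.1⟩ := (P6.pr_eq_iff _ _).2 (by
      simpa [mul_assoc] using P7.cjm (P7.le_norm_Od M (inv_mem hn.1)) (inv_mem ho))
    refine (P6.pr_eq_one (y := ⟨n, hn.1⟩ ^ orderOf (o * n))).1 ?_
    rw [map_pow, ← e, ← map_pow, show (⟨o * n, kM⟩ : M) ^ orderOf (o * n) = 1 from
      Subtype.ext (pow_orderOf_eq_one _), map_one]) (pow_mem nA _)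
  have n2 : n ∈ 𝐂(A) := by
    obtain ⟨m, hm⟩ := Nat.exists_mul_mod_eq_one_of_coprime
      ((Nat.prime_three.coprime_iff_not_dvd.2 k3).symm) (by norm_num)
    have := pow_mem n1 m
    rw [← pow_mul, ← Nat.div_add_mod (orderOf (o * n) * m) 3, hm.2, pow_succ, pow_mul] at this
    exact (mul_mem_cancel_left (pow_mem (h.f4.cube nA) _)).1 this
  have e3 : o * t * o⁻¹ = s := by
    rw [← e2, ← mem_cent1_iff_conj.1 (cent_le_cent1 ht n2)]
    conv_rhs => rw [mem_cent1_iff_conj.1 (cent_le_cent1 ht n2)]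
    group
  refine st (mul_inv_eq_one.1 (h.eq_one (P6.odd_Od M) (h.le (mul_mem hs (inv_mem ht))) ?_))
  rw [← e3]
  exact P7.comm_mem_left (P7.le_norm_Od M (hS (h.le ht))) ho

end UH

end Cfsg.Agent.P18.U
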