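/-
Sylow 2-subgroups of type `U₃(4)`: centralizers of involutions are maximal subgroups.
-/
import Cfsg.Agent.P18.U1
import Cfsg.Agent.P5.Max2

set_option autoImplicit false
set_option linter.unusedSectionVars false
set_option linter.style.haveILetI false

namespace Cfsg.Agent.P18.U

open Cfsg Subgroup H2 P5 P5.Mx
open scoped commutatorElement Pointwise

local notation:max "𝐂[" t "]" => Subgroup.centralizer (Singleton.singleton t : Set _)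
local notation:max "𝐂(" X ")" => Subgroup.centralizer (SetLike.coe X)
local notation:max "𝐍(" X ")" => Subgroup.normalizer (SetLike.coe X)
local notation:max "𝐎(" X ")" => H2.pPrimeCoreOf 2 X

universe u

variable {G : Type u} [Group G] [Finite G] [IsSimpleGroup G] {S A : Subgroup G}

theorem eq_of_fitting {M₁ M₂ : Subgroup G} (h₁ : IsCoatom M₁) (h₂ : IsCoatom M₂)
    (e₁ : layerOf M₁ = ⊥) (e₂ : layerOf M₂ = ⊥) (k : Two M₂) (k₁ : fittingOf M₁ ≤ M₂)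
    (k₂ : fittingOf M₂ ≤ M₁) : M₁ = M₂ := by
  by_contra hne
  have hP : ∀ A : Subgroup G, A ≠ ⊥ → A ≤ M₁ ⊓ M₂ →
      (M₁ ≤ 𝐍(A) → M₂ ⊓ 𝐍(A) = M₁ ⊓ M₂) ∧ (M₂ ≤ 𝐍(A) → M₁ ⊓ 𝐍(A) = M₁ ⊓ M₂) :=
    fun A a b => ⟨fun c => by rw [norm_eq h₁ a (b.trans inf_le_left) c, inf_comm],
      fun c => by rw [norm_eq h₂ a (b.trans inf_le_right) c]⟩
  obtain ⟨p, hp, -, c, -⟩ := S3752.result M₁ M₂ hne hP
    (by rwa [← fstarOf, fstarOf_eq, e₁, bot_sup_eq]) (by rwa [← fstarOf, fstarOf_eq, e₂, bot_sup_eq])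
  obtain ⟨q, hq, hqp, h1⟩ := k p hp
  refine h1 (eq_bot_iff.2 ?_)
  rw [← H1.inf_eq_bot_of_coprime' (coprime_of_primes hq hp hqp (isPGroup_pCoreOf q M₂)
    (isPGroup_pCoreOf p M₂))]
  refine le_inf le_rfl fun x hx => mem_map_of_mem M₂.subtype (c (x := ⟨x, pCoreOf_le q M₂ hx⟩)
    (mem_centralizer_iff.2 fun y hy => Subtype.ext ?_))
  exact mem_centralizer_iff.1 (pCoreOf_le_cent hq hp hqp M₂ hx) y (mem_map_of_mem M₂.subtype hy)

theorem eq_of_two {M R : Subgroup G} (hM : IsCoatom M) (hR : IsCoatom R) (eM : layerOf M = ⊥)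
    (eR : layerOf R = ⊥) (h2 : Two M) (hF : fittingOf R ≤ M) (hZ : ZF M ≤ R) : R = M := by
  have key : ∀ r : ℕ, r.Prime → pCoreOf r M ≠ ⊥ → pCoreOf r R ≠ ⊥ := by
    intro r hr h1 h0
    haveI := Fact.mk hr
    have hZR : Zr r M ≤ R := (Zr_le_ZF hr M).trans hZ
    have a1 := fittingOf_le_sup hr R
    rw [h0, bot_sup_eq] at a1
    have a2 : Zr r M ≤ 𝐂(fittingOf R) := le_cent_of_le le_rfl a1
      (hZR.trans (le_normalizer_pPrimeCoreOf r R)) (hF.trans (le_norm_Zr r M))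
      (H1.coprime_card_of_isPGroup (isPGroup_Zr r M) (coprime_card_pPrimeCoreOf r R)).symm
    exact Zr_ne_bot hr h1 (eq_bot_iff.2 (h0 ▸ le_pCoreOf_of_le_fittingOf (isPGroup_Zr r M)
      ((le_inf hZR a2).trans (inf_centralizer_fittingOf_le_of_layerOf_eq_bot eR))))
  refine eq_of_fitting hR hM eR eM h2 hF (fittingOf_le_of fun r hr => ?_)
  by_cases h0 : pCoreOf r M = ⊥
  · exact h0 ▸ bot_le
  obtain ⟨q, hq, hne, hq1⟩ := h2 r hr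
  exact pCoreOf_le_of_two hr hq hne hR (isPGroup_pCoreOf r R) (key r hr h0) (pCoreOf_le r R)
    (le_normalizer_pCoreOf r R) ((pCoreOf_le_fittingOf hr R).trans hF) (isPGroup_pCoreOf q R)
    (key q hq hq1) (pCoreOf_le q R) (le_normalizer_pCoreOf q R)
    ((pCoreOf_le_fittingOf hq R).trans hF)

/-- The configuration that arises when `C(t)` is not a maximal subgroup. -/
structure MC (S A : Subgroup G) (t : G) (p : ℕ) (T M : Subgroup G) : Prop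
    extends MCfg A t p T M where
  h : UH S A

namespace MC

variable {t : G} {p : ℕ} {T M : Subgroup G} (c : MC S A t p T M)
include c

theorem conj {g : G} (hg : g ∈ 𝐍(A)) :
    MC S A (g * t * g⁻¹) p (MulAut.conj g • T) (MulAut.conj g • M) where
  tV := F4.conj_mem hg c.tV
  t1 := fun e => c.t1 (by simpa using e)
  pp := c.pp
  p2 := c.p2
  pT := c.pT.map _
  T1 := fun e => c.T1 (by rw [← conj_smul_inj (g := g), e, smul_bot])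
  Tt := by rw [← conj_smul_zpowers, ← conj_smul_commutator, c.Tt]
  CT := by rw [← conj_smul_cent1, normalizer_conj_smul]; exact conj_smul_mono g c.CT
  NT := by rw [normalizer_conj_smul]; exact conj_smul_mono g c.NT
  co := isCoatom_conj_smul c.co g
  h := c.h

theorem tt : t * t = 1 := c.h.sqA c.tV

theorem tS : zpowers t ≤ S := zpowers_le.2 (c.h.le c.tV)

theorem VT : S ≤ 𝐍(T) := (c.h.le_cent1 c.tV).trans c.CT

theorem VM : S ≤ M := c.VT.trans c.NT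

theorem CVM : 𝐂(A) ≤ M := fun _ hg => c.CM (mem_cent1.2 (mem_centralizer_iff.1 hg t c.tV).symm)

theorem solv : Group.IsSolvable M := c.h.solv c.co.1 c.VM

theorem lay : layerOf M = ⊥ := c.h.lay c.co.1 c.VM

theorem comm_le {X : Subgroup G} (hX : S ≤ X) : ⁅T ⊓ X, zpowers t⁆ ≤ T ⊓ X :=
  H1.commutator_le_of_le_normalizer (c.tS.trans
    (H1.le_normalizer_inf c.VT (hX.trans le_normalizer)))

theorem comm_comm {X : Subgroup G} (hX : S ≤ X) :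
    ⁅⁅T ⊓ X, zpowers t⁆, zpowers t⁆ = ⁅T ⊓ X, zpowers t⁆ :=
  H1.commutator_commutator_eq (c.tS.trans
    (H1.le_normalizer_inf c.VT (hX.trans le_normalizer)))
    (coprime_zpowers c.tt (odd_of_le inf_le_left c.oddT))

theorem comm_norm (X : Subgroup G) : X ⊓ 𝐂[t] ≤ 𝐍(⁅T ⊓ X, zpowers t⁆) :=
  H1.le_normalizer_commutator (H1.le_normalizer_inf (inf_le_right.trans c.CT)
    (inf_le_left.trans le_normalizer)) (inf_le_right.trans (cent1_le_norm_zpowers t))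

theorem d1 {X : Subgroup G} (hX1 : X ≠ ⊤) (hX : S ≤ X) : ⁅T ⊓ X, zpowers t⁆ ≤ pCoreOf p X :=
  c.h.d1 hX1 hX c.tV c.pp c.p2 ((c.comm_le hX).trans inf_le_right)
    (c.pT.to_le ((c.comm_le hX).trans inf_le_left)) (c.comm_comm hX) (c.comm_norm X)

theorem T_le {X : Subgroup G} (hX1 : X ≠ ⊤) (hX : S ≤ X) (hT : T ≤ X) : T ≤ pCoreOf p X := by
  have := c.d1 hX1 hX
  rwa [inf_of_le_left hT, c.Tt] at this

theorem TO : T ≤ pCoreOf p M := c.T_le c.co.1 c.VM c.TM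

theorem TF : T ≤ fittingOf M := c.TO.trans (pCoreOf_le_fittingOf c.pp M)

theorem Op_ne_bot : pCoreOf p M ≠ ⊥ := fun e => c.T1 (eq_bot_iff.2 (e ▸ c.TO))

theorem ne_conj {g : G} (hg : g ∈ 𝐍(A)) (hne : g * t * g⁻¹ ≠ t) : MulAut.conj g • M ≠ M :=
  fun e => hne (by
    have := mem_centralizer_iff.1 (c.h.t0 c.tV c.t1 c.co.1 c.CM
      ⟨mem_of_conj_smul_eq c.co c.ne_bot e, hg⟩) t c.tV
    rw [← this]; group)

variable (h2 : Two M)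
include h2

theorem norm_le {X : Subgroup G} (hX1 : X ≠ ⊥) (hX : X ≤ ZF M) (hV : S ≤ 𝐍(X)) : 𝐍(X) ≤ M := by
  obtain ⟨R, hR, hN⟩ := exists_coatom_norm c.co.1 hX1 (hX.trans (ZF_le M))
  have hF : fittingOf M ≤ R := (le_centralizer_iff.1 (hX.trans inf_le_right)).trans
    ((centralizer_le_normalizer _).trans hN)
  have hVR := hV.trans hN
  have hTR := c.TF.trans hF
  refine hN.trans (eq_of_fitting hR c.co (c.h.lay hR.1 hVR) c.lay h2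
    (fittingOf_le_of fun r hr => ?_) hF).le
  by_cases e : r = p
  · rw [e]
    exact h2.pCoreOf_le c.co (inf_le_left.trans hF) c.pp c.Op_ne_bot
  · exact (pCoreOf_le_cent hr c.pp e R).trans ((centralizer_anti (c.T_le hR.1 hVR hTR)).trans
      ((centralizer_le_normalizer _).trans c.NT))

omit h2 in
theorem ZF_le_of {Y R : Subgroup G} (hY : Y ≤ pCoreOf p M) (hR : 𝐍(Y) ≤ R) : ZF M ≤ R :=
  (ZF_le_cent (hY.trans (pCoreOf_le_fittingOf c.pp M))).trans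
    ((centralizer_le_normalizer _).trans hR)

omit h2 in
theorem inf_eq_bot {Y R : Subgroup G} (hY : Y ≤ pCoreOf p M) (hR : 𝐍(Y) ≤ R) {q : ℕ}
    (hq : q.Prime) (h0 : pCoreOf q M = ⊥) : pCoreOf q R ⊓ M = ⊥ := by
  haveI := c.solv
  haveI := Fact.mk c.pp
  have hQ : IsPGroup q (pCoreOf q R ⊓ M : Subgroup G) := (isPGroup_pCoreOf q R).to_le inf_le_left
  have key : ∀ r : ℕ, r.Prime → r ≠ q → ∀ A, A ≤ pCoreOf r M → A ≤ R →
      A ≤ 𝐂(pCoreOf q R ⊓ M) := fun r hr hne A a1 a2 =>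
    le_cent_of_le a1 inf_le_left (a2.trans (le_normalizer_pCoreOf q R))
      (inf_le_right.trans (le_normalizer_pCoreOf r M))
      (coprime_of_primes hr hq hne (isPGroup_pCoreOf r M) (isPGroup_pCoreOf q R))
  have hCR : 𝐂(Y) ≤ R := (centralizer_le_normalizer _).trans hR
  have h1 : pCoreOf q R ⊓ M ≤ 𝐂(fittingOf M) := by
    refine le_cent_fittingOf fun r hr => ?_
    by_cases e : r = q
    · rw [e, h0, coe_bot]
      exact fun q _ => mem_cent1.2 (Commute.one_right q)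
    by_cases e' : r = p
    · subst e'
      exact H1.pxq_lemma ((isPGroup_pCoreOf r M).to_le hY) (isPGroup_pCoreOf r M)
        (hY.trans le_normalizer) (inf_le_right.trans (le_normalizer_pCoreOf r M))
        (key r hr e Y hY (le_normalizer.trans hR))
        (coprime_of_primes hq hr (Ne.symm e) hQ (isPGroup_pCoreOf r M))
        (key r hr e _ inf_le_left (inf_le_right.trans hCR))
    · exact le_centralizer_iff.1 (key r hr e _ le_rfl ((pCoreOf_le_cent hr c.pp e' M).trans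
        ((centralizer_anti hY).trans hCR)))
  exact eq_bot_iff.2 (h0 ▸ le_pCoreOf_of_le_fittingOf hQ
    ((le_inf inf_le_right h1).trans inf_centralizer_fittingOf_le))

theorem eq_of {Y R : Subgroup G} (hY : Y ≤ pCoreOf p M) (hR : 𝐍(Y) ≤ R) (hRc : IsCoatom R)
    (hE : layerOf R = ⊥) (h0 : ∀ q : ℕ, q.Prime → pCoreOf q M = ⊥ → pCoreOf q R = ⊥) : R = M := by
  refine eq_of_two c.co hRc c.lay hE h2 (fittingOf_le_of fun r hr => ?_)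
    (c.ZF_le_of hY hR)
  by_cases e : pCoreOf r M = ⊥
  · exact h0 r hr e ▸ bot_le
  · exact h2.pCoreOf_le c.co (c.ZF_le_of hY hR) hr e

omit h2 in
/-- A subgroup normalized by `t` and meeting `M` trivially is inverted by `t`. -/
theorem inverts {Q : Subgroup G} (hQ : t ∈ 𝐍(Q)) (h0 : Q ⊓ M = ⊥) :
    ∀ a ∈ Q, t * a * t = a⁻¹ :=
  L.inverts_of_fpf c.tt hQ fun _ ha hc =>
    mem_bot.1 (h0 ▸ mem_inf.2 ⟨ha, c.CM (mem_cent1.2 hc.symm)⟩)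

/-- If `[Z(F(M)), s]` centralizes a nontrivial subgroup meeting `M` trivially then `s`
centralizes `Z(F(M))`. -/
theorem ZF_le_cent1 {Q : Subgroup G} (hQ1 : Q ≠ ⊥) (h0 : Q ⊓ M = ⊥) {s : G} (hs : s ∈ A)
    (hc : ⁅ZF M, zpowers s⁆ ≤ 𝐂(Q)) : ZF M ≤ 𝐂[s] := by
  by_contra hn
  have hVZ : S ≤ 𝐍(ZF M) := c.VM.trans (le_norm_ZF M)
  have h1 := c.norm_le h2 (fun e => hn (comm_eq_bot_iff.1 e))
    (H1.commutator_le_of_le_normalizer ((zpowers_le.2 (c.h.le hs)).trans hVZ))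
    (H1.le_normalizer_commutator hVZ ((c.h.le_cent1 hs).trans (cent1_le_norm_zpowers s)))
  exact hQ1 (h0 ▸ (inf_of_le_left ((le_centralizer_iff.1 hc).trans
    ((centralizer_le_normalizer _).trans h1))).symm)

end MC

namespace MC


variable {t₁ t₂ t₃ : G} {p : ℕ} {T₁ T₂ T₃ M₁ M₂ M₃ : Subgroup G}

/-- Centers of Fitting subgroups of two different configurations inside `C(V)` commute. -/
theorem ZF_comm (c₁ : MC S A t₁ p T₁ M₁) (c₂ : MC S A t₂ p T₂ M₂) (k₁ : Two M₁)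
    (k₂ : Two M₂) (hne : M₁ ≠ M₂) (z₁ : ZF M₁ ≤ 𝐂(A)) (z₂ : ZF M₂ ≤ 𝐂(A)) :
    ZF M₁ ≤ 𝐂(ZF M₂) := by
  have a1 : ZF M₁ ≤ 𝐍(ZF M₂) := (z₁.trans c₂.CVM).trans (le_norm_ZF M₂)
  have a2 : ZF M₂ ≤ 𝐍(ZF M₁) := (z₂.trans c₁.CVM).trans (le_norm_ZF M₁)
  have a3 : ZF M₁ ⊓ ZF M₂ = ⊥ := by
    by_contra h0
    have hV : S ≤ 𝐍(ZF M₁ ⊓ ZF M₂) := H1.le_normalizer_inf (c₁.VM.trans (le_norm_ZF M₁))
      (c₂.VM.trans (le_norm_ZF M₂))
    have b1 := c₁.norm_le k₁ h0 inf_le_left hV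
    have b2 := c₂.norm_le k₂ h0 inf_le_right hV
    refine hne (eq_of_fitting c₁.co c₂.co c₁.lay c₂.lay k₂ ?_ ?_)
    · exact (le_centralizer_iff.1 (inf_le_left.trans inf_le_right)).trans
        ((centralizer_le_normalizer _).trans b2)
    · exact (le_centralizer_iff.1 (inf_le_right.trans inf_le_right)).trans
        ((centralizer_le_normalizer _).trans b1)
  rw [← commutator_eq_bot_iff_le_centralizer, eq_bot_iff, ← a3]
  exact le_inf (H1.commutator_le_of_le_normalizer a2)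
    (by rw [commutator_comm]; exact H1.commutator_le_of_le_normalizer a1)

/-- The centers of the Fitting subgroups do not all centralize `V`. -/
theorem false_of_ZF (c₁ : MC S A t₁ p T₁ M₁) (c₂ : MC S A t₂ p T₂ M₂)
    (c₃ : MC S A t₃ p T₃ M₃) (k₁ : Two M₁) (k₂ : Two M₂) (k₃ : Two M₃) (e : t₃ = t₁ * t₂)
    (n12 : M₁ ≠ M₂) (n23 : M₂ ≠ M₃)
    (π₂ : ∀ q : ℕ, pCoreOf q M₁ = ⊥ ↔ pCoreOf q M₂ = ⊥)
    (π₃ : ∀ q : ℕ, pCoreOf q M₁ = ⊥ ↔ pCoreOf q M₃ = ⊥)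
    (z₂ : ZF M₂ ≤ 𝐂(A)) (z₃ : ZF M₃ ≤ 𝐂(A)) : False := by
  haveI := Fact.mk c₁.pp
  have hp := c₁.pp
  have a1 : Zr p M₂ ≤ 𝐂(Zr p M₃) := ((Zr_le_ZF hp M₂).trans
    (ZF_comm c₂ c₃ k₂ k₃ n23 z₂ z₃)).trans (centralizer_anti (Zr_le_ZF hp M₃))
  have hA : IsPGroup p (Zr p M₂ ⊔ Zr p M₃ : Subgroup G) :=
    IsPGroup.to_sup_of_normal_right' (isPGroup_Zr p M₂) (isPGroup_Zr p M₃)
      (a1.trans (centralizer_le_normalizer _))
  have hAC : Zr p M₂ ⊔ Zr p M₃ ≤ 𝐂[t₁] := (sup_le ((Zr_le_ZF hp M₂).trans z₂)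
    ((Zr_le_ZF hp M₃).trans z₃)).trans fun g hg =>
      mem_cent1.2 (mem_centralizer_iff.1 hg t₁ c₁.tV).symm
  have hZ : ∀ {t T M}, MC S A t p T M → 𝐂(Zr p M) ≤ M := fun c =>
    (centralizer_le_normalizer _).trans (norm_eq c.co (Zr_ne_bot hp c.Op_ne_bot) (Zr_le _ _)
      (le_norm_Zr _ _)).le
  have hn : ¬ T₁ ⊓ (M₂ ⊓ M₃) ≤ 𝐂[t₁] := fun hc => c₁.not_le (zpowers_le_cent_iff.1
    (H1.pxq_lemma hA c₁.pT (hAC.trans c₁.CT) (c₁.tS.trans c₁.VT)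
      (hAC.trans (cent_zpowers t₁).ge) (coprime_zpowers c₁.tt c₁.oddT)
      ((inf_le_inf_left _ (le_inf ((centralizer_anti le_sup_left).trans (hZ c₂))
        ((centralizer_anti le_sup_right).trans (hZ c₃)))).trans (hc.trans (cent_zpowers t₁).ge))))
  have hV23 : S ≤ M₂ ⊓ M₃ := le_inf c₂.VM c₃.VM
  obtain ⟨W, hW⟩ : ∃ W, W = ⁅T₁ ⊓ (M₂ ⊓ M₃), zpowers t₁⁆ := ⟨_, rfl⟩
  have hW0 : W ≠ ⊥ := fun e => hn (comm_eq_bot_iff.1 (hW ▸ e))
  have hWT : W ≤ T₁ := hW ▸ (c₁.comm_le hV23).trans inf_le_left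
  have w1 : W ≤ pCoreOf p M₁ := hWT.trans c₁.TO
  have w2 : W ≤ pCoreOf p M₂ := hW ▸ (commutator_mono (inf_le_inf_left _ inf_le_left)
    le_rfl).trans (c₁.d1 c₂.co.1 c₂.VM)
  have w3 : W ≤ pCoreOf p M₃ := hW ▸ (commutator_mono (inf_le_inf_left _ inf_le_right)
    le_rfl).trans (c₁.d1 c₃.co.1 c₃.VM)
  obtain ⟨R, hR, hN⟩ := exists_coatom_norm c₁.co.1 hW0 (hWT.trans c₁.TM)
  have hVR : S ≤ R := ((le_inf hV23 (c₁.h.le_cent1 c₁.tV)).trans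
    (hW ▸ c₁.comm_norm (M₂ ⊓ M₃))).trans hN
  have hE := c₁.h.lay hR.1 hVR
  have h0 : ∀ q : ℕ, q.Prime → pCoreOf q M₁ = ⊥ → pCoreOf q R = ⊥ := by
    intro q hq hq0
    have hVQ := hVR.trans (le_normalizer_pCoreOf q R)
    have b1 := c₁.inverts (hVQ (c₁.h.le c₁.tV)) (c₁.inf_eq_bot w1 hN hq hq0)
    have b2 := c₂.inverts (hVQ (c₁.h.le c₂.tV)) (c₂.inf_eq_bot w2 hN hq ((π₂ q).1 hq0))
    rw [← c₃.inf_eq_bot w3 hN hq ((π₃ q).1 hq0)]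
    refine (inf_of_le_left fun a ha => c₃.CM (mem_cent1.2 ?_)).symm
    rw [e]
    exact (commute_mul_of_inverts c₁.tt (b1 a ha) (b2 a ha) c₂.tt).symm
  exact n12 ((c₁.eq_of k₁ w1 hN hR hE h0).symm.trans
    (c₂.eq_of k₂ w2 hN hR hE fun q hq e => h0 q hq ((π₂ q).2 e)))

theorem ZF_le_cent_V (c₁ : MC S A t₁ p T₁ M₁) (c₂ : MC S A t₂ p T₂ M₂)
    (k₁ : Two M₁) (k₂ : Two M₂) (n : t₁ ≠ t₂) (n12 : M₁ ≠ M₂)
    (π₂ : ∀ q : ℕ, pCoreOf q M₁ = ⊥ ↔ pCoreOf q M₂ = ⊥) (hy : ¬ T₁ ⊓ 𝐂[t₂] ≤ 𝐂[t₁]) :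
    ZF M₁ ≤ 𝐂(A) := by
  haveI := Fact.mk c₁.pp
  have hp := c₁.pp
  have hyp : IsPGroup p (T₁ ⊓ 𝐂[t₂] : Subgroup G) := c₁.pT.to_le inf_le_left
  have hn : ¬ T₂ ⊓ 𝐂(T₁ ⊓ 𝐂[t₂]) ≤ 𝐂[t₂] := fun hc => c₂.not_le (zpowers_le_cent_iff.1
    (H1.pxq_lemma hyp c₂.pT (inf_le_right.trans c₂.CT) (c₂.tS.trans c₂.VT)
      (inf_le_right.trans (cent_zpowers t₂).ge) (coprime_zpowers c₂.tt c₂.oddT)
      (hc.trans (cent_zpowers t₂).ge)))
  obtain ⟨R, hR, hN⟩ := exists_coatom_norm c₁.co.1 (fun e => hy (e.le.trans bot_le))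
    (inf_le_left.trans c₁.TM)
  have hVR : S ≤ R :=
    (H1.le_normalizer_inf c₁.VT ((c₁.h.le_cent1 c₂.tV).trans le_normalizer)).trans hN
  have a1 : pCoreOf p R ≤ M₁ := k₁.pCoreOf_le c₁.co
    (c₁.ZF_le_of (inf_le_left.trans c₁.TO) hN) hp c₁.Op_ne_bot
  obtain ⟨Y, hY⟩ : ∃ Y, Y = ⁅T₂ ⊓ M₁, zpowers t₂⁆ := ⟨_, rfl⟩
  have hY0 : Y ≠ ⊥ := by
    intro e
    have b1 : ⁅T₂ ⊓ R, zpowers t₂⁆ ≤ T₂ ⊓ M₁ :=
      le_inf ((c₂.comm_le hVR).trans inf_le_left) ((c₂.d1 hR.1 hVR).trans a1)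
    have b2 := commutator_mono b1 (le_refl (zpowers t₂))
    rw [c₂.comm_comm hVR, ← hY, e, le_bot_iff, comm_eq_bot_iff] at b2
    exact hn ((inf_le_inf_left _ ((centralizer_le_normalizer _).trans hN)).trans b2)
  have hYT : Y ≤ T₂ := hY ▸ (c₂.comm_le c₁.VM).trans inf_le_left
  have y1 : Y ≤ pCoreOf p M₁ := hY ▸ c₂.d1 c₁.co.1 c₁.VM
  have y2 : Y ≤ pCoreOf p M₂ := hYT.trans c₂.TO
  obtain ⟨R', hR', hN'⟩ := exists_coatom_norm c₂.co.1 hY0 (hYT.trans c₂.TM)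
  have hVR' : S ≤ R' := ((le_inf c₁.VM (c₁.h.le_cent1 c₂.tV)).trans
    (hY ▸ c₂.comm_norm M₁)).trans hN'
  have hE := c₁.h.lay hR'.1 hVR'
  obtain ⟨q, hq, hq0, hq1⟩ : ∃ q : ℕ, q.Prime ∧ pCoreOf q M₁ = ⊥ ∧ pCoreOf q R' ≠ ⊥ := by
    by_contra hcon
    push Not at hcon
    exact n12 ((c₁.eq_of k₁ y1 hN' hR' hE hcon).symm.trans
      (c₂.eq_of k₂ y2 hN' hR' hE fun q hq e => hcon q hq ((π₂ q).2 e)))
  have hVQ := hVR'.trans (le_normalizer_pCoreOf q R')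
  have q1 := c₁.inf_eq_bot y1 hN' hq hq0
  have b1 := c₁.inverts (hVQ (c₁.h.le c₁.tV)) q1
  have b2 := c₂.inverts (hVQ (c₁.h.le c₂.tV)) (c₂.inf_eq_bot y2 hN' hq ((π₂ q).1 hq0))
  have hZQ := (c₁.ZF_le_of y1 hN').trans (le_normalizer_pCoreOf q R')
  have d1 := c₁.ZF_le_cent1 k₁ hq1 q1 c₁.tV
    (comm_le_cent_of_inverts c₁.tt (hVQ (c₁.h.le c₁.tV)) b1 hZQ)
  have d2 := c₁.ZF_le_cent1 k₁ hq1 q1 (mul_mem c₁.tV c₂.tV) (by
    have : zpowers (t₁ * t₂) ≤ 𝐂(pCoreOf q R') := zpowers_le.2 (mem_centralizer_iff.2 fun a ha =>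
      (commute_mul_of_inverts c₁.tt (b1 a ha) (b2 a ha) c₂.tt).symm.eq)
    refine (commutator_mono le_rfl this).trans ?_
    rw [commutator_comm]
    exact H1.commutator_le_of_le_normalizer (H1.le_normalizer_centralizer hZQ))
  rw [le_centralizer_iff]
  exact c₁.h.f4.le_of_mem c₁.tV (mul_mem c₁.tV c₂.tV) c₁.t1 (c₁.h.f4.mul_ne_one c₂.tV n)
    (fun e => c₂.t1 (by simpa using e)) (zpowers_le_cent_iff.2 d1 (mem_zpowers _))
    (zpowers_le_cent_iff.2 d2 (mem_zpowers _))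

theorem exists_not_le {t : G} {T M : Subgroup G} (c : MC S A t p T M) :
    ∃ s ∈ A, s ≠ 1 ∧ s ≠ t ∧ ¬ T ⊓ 𝐂[s] ≤ 𝐂[t] := by
  by_contra hcon
  push Not at hcon
  refine c.not_le (H1.le_of_forall_centralizer_le c.h.f4.isMulCommutative c.h.f4.not_isCyclic
    (c.h.le.trans c.VT) (c.h.f4.coprime c.oddT) fun s hs hs1 => ?_)
  by_cases e : s = t
  · exact e ▸ inf_le_right
  · exact hcon s hs hs1 e

theorem not_two {t : G} {T M : Subgroup G} (c : MC S A t p T M) : ¬ Two M := by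
  intro k
  obtain ⟨s, hs, hs1, hst, hy⟩ := c.exists_not_le
  have hπ : ∀ (g : G) (q : ℕ), pCoreOf q M = ⊥ ↔ pCoreOf q (MulAut.conj g • M) = ⊥ := by
    intro g q
    rw [← conj_smul_pCoreOf, ← conj_smul_inj (g := g), smul_bot]
  have hk : ∀ g : G, Two (MulAut.conj g • M) := fun g r hr =>
    (k r hr).imp fun q hq => ⟨hq.1, hq.2.1, fun e => hq.2.2 ((hπ g q).2 e)⟩
  obtain ⟨g₂, hg₂, e₂⟩ := c.h.exists_conj c.tV c.t1 hs hs1
  obtain ⟨g₃, hg₃, e₃⟩ := c.h.exists_conj c.tV c.t1 (mul_mem c.tV hs)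
    (c.h.f4.mul_ne_one hs hst.symm)
  replace hg₂ := c.h.norm_le hg₂
  replace hg₃ := c.h.norm_le hg₃
  have c₂ := c.conj hg₂
  have c₃ := c.conj hg₃
  have n12 : M ≠ MulAut.conj g₂ • M := (c.ne_conj hg₂ (e₂ ▸ hst)).symm
  have n23 : MulAut.conj g₂ • M ≠ MulAut.conj g₃ • M := by
    intro e
    refine c₂.ne_conj (mul_mem hg₃ (inv_mem hg₂)) ?_ (by rw [← conj_smul_mul, e]; simp)
    have : g₃ * g₂⁻¹ * (g₂ * t * g₂⁻¹) * (g₃ * g₂⁻¹)⁻¹ = g₃ * t * g₃⁻¹ := by group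
    rw [this, e₃, e₂]
    exact fun e => c.t1 (by simpa using e)
  have z := ZF_le_cent_V c c₂ k (hk g₂) (e₂ ▸ hst.symm) n12 (hπ g₂) (e₂ ▸ hy)
  have hz : ∀ g ∈ 𝐍(A), ZF (MulAut.conj g • M) ≤ 𝐂(A) := fun g hg => by
    rw [← conj_smul_ZF, ← mem_normalizer_iff_conj_smul.1
      (H1.normalizer_le_normalizer_centralizer A hg)]
    exact conj_smul_mono g z
  exact false_of_ZF c c₂ c₃ k (hk g₂) (hk g₃) (by rw [e₃, e₂]) n12 n23 (hπ g₂) (hπ g₃)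
    (hz g₂ hg₂) (hz g₃ hg₃)

theorem pCoreOf_eq_bot {t : G} {T M : Subgroup G} (c : MC S A t p T M) {q : ℕ}
    (hq : q.Prime) (hne : q ≠ p) : pCoreOf q M = ⊥ := by
  by_contra h0
  refine c.not_two fun r hr => ?_
  by_cases e : r = p
  · exact ⟨q, hq, e ▸ hne, h0⟩
  · exact ⟨p, c.pp, Ne.symm e, c.Op_ne_bot⟩


variable {t : G} {T M : Subgroup G} (c : MC S A t p T M)
include c

theorem pPrimeCoreOf_eq_bot : pPrimeCoreOf p M = ⊥ := by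
  haveI := c.solv
  haveI := Fact.mk c.pp
  have hF : fittingOf M ≤ pCoreOf p M := fittingOf_le_of fun r hr => by
    by_cases e : r = p
    · exact e ▸ le_rfl
    · exact c.pCoreOf_eq_bot hr e ▸ bot_le
  rw [eq_bot_iff, ← H1.inf_eq_bot_of_coprime' (H1.coprime_card_of_isPGroup (isPGroup_pCoreOf p M)
    (coprime_card_pPrimeCoreOf p M))]
  exact le_inf le_rfl (((le_inf (pPrimeCoreOf_le p M) ((pPrimeCoreOf_le_centralizer_pCoreOf c.pp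
    M).trans (centralizer_anti hF))).trans inf_centralizer_fittingOf_le).trans hF)

theorem T_le_syl {P : Subgroup G} (hP : FT.IsSyl p P 𝐎(M)) : T ≤ P :=
  (((snIn_pCoreOf p M).mono (c.h.le_Od c.co.1 c.VM (pCoreOf_le p M)
    (odd_of_isPGroup c.pp c.p2 (isPGroup_pCoreOf p M)) (c.VM.trans (le_normalizer_pCoreOf p M)))
    (pPrimeCoreOf_le 2 M)).le_pCoreOf (isPGroup_pCoreOf p M)).trans' c.TO |>.trans
    (hP.pCoreOf_le c.pp)

theorem norm_zl {P : Subgroup G} (hP : FT.IsSyl p P 𝐎(M)) : 𝐍(zl P) = M := by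
  haveI := Fact.mk c.pp
  haveI := hP.pgrp.isNilpotent
  refine norm_eq c.co (zl_ne_bot fun e => c.T1 (eq_bot_iff.2 (e ▸ c.T_le_syl hP)))
    ((zl_le P).trans (hP.le.trans (pPrimeCoreOf_le 2 M))) ((hP.frattini c.pp
      ⟨pPrimeCoreOf_le 2 M, le_normalizer_pPrimeCoreOf 2 M⟩).ge.trans (sup_le (fun u hu => ?_)
      (inf_le_right.trans (normalizer_le_normalizer_zl P))))
  obtain ⟨o, ho, n, hn, rfl⟩ := exists_mul_normalizer_zl c.p2 (Mx.isSolvable_of_odd (odd_O M))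
    (fun T hT h2 => ⟨⟨fun a b => Subtype.ext (by
      rw [coe_mul, coe_mul, P7.eq_one_of_two_odd h2 (odd_O M) a.2 (hT a.2), one_mul, mul_one])⟩⟩)
    hP.le hP.pgrp hP.ndvd hu
  have := ((snIn_pPrimeCoreOf p _).trans (snIn_pPrimeCoreOf 2 M)).le_pPrimeCoreOf
    (coprime_card_pPrimeCoreOf p _) ho
  rw [c.pPrimeCoreOf_eq_bot, mem_bot] at this
  rw [this, one_mul]
  exact hn.2

theorem exists_syl {U : Subgroup G} (hUM : U ≤ M) (hU : IsPGroup p U) (hV : S ≤ 𝐍(U)) :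
    ∃ P, U ≤ P ∧ FT.IsSyl p P 𝐎(M) ∧ S ≤ 𝐍(P) := by
  haveI := Fact.mk c.pp
  obtain ⟨P, a1, a2, a3, a4, a5⟩ := H1.exists_invariant_sylow_ge
    (c.VM.trans (le_normalizer_pPrimeCoreOf 2 M)) (P7.cop_two_odd c.h.two (odd_O M))
    (.inr (Mx.isSolvable_of_odd (odd_O M)))
    (c.h.le_Od c.co.1 c.VM hUM (odd_of_isPGroup c.pp c.p2 hU) hV) hU hV
  exact ⟨P, a1, ⟨a2, a3, a4⟩, a5⟩

theorem eq_of_syl {P Q : Subgroup G} (hP : FT.IsSyl p P 𝐎(M)) (hS : S ≤ 𝐍(P)) (hPQ : P ≤ Q)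
    (hQ : IsPGroup p Q) (hQS : S ≤ 𝐍(Q)) : P = Q := by
  haveI := Fact.mk c.pp
  by_contra hne
  obtain ⟨x, h1, h2, h3⟩ := H1.exists_mem_normalizer_of_lt hQ.isNilpotent (lt_of_le_of_ne hPQ hne)
  have hW : IsPGroup p (Q ⊓ 𝐍(P) : Subgroup G) := hQ.to_le inf_le_left
  exact h3 ((H1.sylow_maximal hP.ndvd (le_inf hPQ le_normalizer) (c.h.le_Od c.co.1 c.VM
    (inf_le_right.trans ((normalizer_le_normalizer_zl P).trans (c.norm_zl hP).le))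
    (odd_of_isPGroup c.pp c.p2 hW) (H1.le_normalizer_inf hQS (hS.trans le_normalizer))) hW).le
    ⟨h1, h2⟩)

theorem le_M {Q : Subgroup G} (hQ : IsPGroup p Q) (hS : S ≤ 𝐍(Q)) (h0 : Q ⊓ M ≠ ⊥) : Q ≤ M := by
  haveI := Fact.mk c.pp
  by_contra hn
  obtain ⟨Q, ⟨h1, h2, h3, h4⟩, hmax⟩ := Set.exists_max_image
    {Q : Subgroup G | IsPGroup p Q ∧ S ≤ 𝐍(Q) ∧ ¬ Q ≤ M ∧ Q ⊓ M ≠ ⊥}
    (fun Q => Nat.card (Q ⊓ M : Subgroup G)) (Set.toFinite _) ⟨Q, hQ, hS, hn, h0⟩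
  obtain ⟨D, hD⟩ : ∃ D, D = Q ⊓ M := ⟨_, rfl⟩
  rw [← hD] at h4 hmax
  have hDp : IsPGroup p D := hD ▸ h1.to_le inf_le_left
  have hVD : S ≤ 𝐍(D) := hD ▸ H1.le_normalizer_inf h2 (c.VM.trans le_normalizer)
  have hDQ : D < Q := hD ▸ lt_of_le_of_ne inf_le_left fun e => h3 (inf_eq_left.1 e)
  have hVN : S ≤ 𝐍(𝐍(D)) := hVD.trans le_normalizer
  have key : ∀ W : Subgroup G, IsPGroup p W → S ≤ 𝐍(W) → W ⊓ 𝐍(D) ≤ 𝐎(𝐍(D)) := fun W hW hVW =>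
    c.h.le_Od (c.h.norm_ne_top h4 (H1.isSolvable_of_isPGroup hDp)) hVD inf_le_right
      (odd_of_isPGroup c.pp c.p2 (hW.to_le inf_le_left)) (H1.le_normalizer_inf hVW hVN)
  obtain ⟨P, a1, a2, a5⟩ := c.exists_syl (hD ▸ inf_le_right) hDp hVD
  have hDP : D < P := lt_of_le_of_ne a1 fun e =>
    hDQ.ne (e.trans (c.eq_of_syl a2 a5 (e ▸ hDQ.le) h1 h2))
  obtain ⟨x, hxQ, hxN, hxD⟩ := H1.exists_mem_normalizer_of_lt h1.isNilpotent hDQ
  obtain ⟨y, hyP, hyN, hyD⟩ := H1.exists_mem_normalizer_of_lt a2.pgrp.isNilpotent hDP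
  have hVY := hVD.trans (le_normalizer_pPrimeCoreOf 2 _)
  have cop := P7.cop_two_odd c.h.two (odd_O 𝐍(D))
  have sv := Mx.isSolvable_of_odd (odd_O 𝐍(D))
  obtain ⟨R, b1, b2, b3, b4, b5⟩ := H1.exists_invariant_sylow_ge hVY cop (.inr sv)
    (key P a2.pgrp a5) (a2.pgrp.to_le inf_le_left) (H1.le_normalizer_inf a5 hVN)
  obtain ⟨g, hg, hgS⟩ := H1.exists_centralizer_conj_le_sylow hVY cop (.inr sv) b2 b3 b4 b5
    (key Q h1 h2) (h1.to_le inf_le_left) (H1.le_normalizer_inf h2 hVN)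
  have hDS : D < R ⊓ M := lt_of_le_of_ne
    (le_inf ((le_inf a1 le_normalizer).trans b1) (hD ▸ inf_le_right))
    fun e => hyD (e ▸ mem_inf.2 ⟨b1 (mem_inf.2 ⟨hyP, hyN⟩), pPrimeCoreOf_le 2 M (a2.le hyP)⟩)
  have hSM : R ≤ M := by
    by_contra hn
    exact (H1.card_lt_of_lt hDS).not_ge (hmax R ⟨b3, b5, hn, fun e => not_lt_bot (e ▸ hDS)⟩)
  have hgM := c.CVM (centralizer_anti c.h.le hg.2)
  have := hSM (H1.map_conj_le_iff.1 hgS x (mem_inf.2 ⟨hxQ, hxN⟩))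
  exact hxD (hD ▸ mem_inf.2 ⟨hxQ, (mul_mem_cancel_left hgM).1
    ((mul_mem_cancel_right (inv_mem hgM)).1 this)⟩)

theorem false : False := by
  obtain ⟨s, hs, hs1, hst, hy⟩ := c.exists_not_le
  obtain ⟨g, hg, e⟩ := c.h.exists_conj c.tV c.t1 hs hs1
  have c' := c.conj (c.h.norm_le hg)
  obtain ⟨P, a1, a2, a3⟩ := c.exists_syl c.TM c.pT c.VT
  obtain ⟨P', b1, b2, b3⟩ := c'.exists_syl (c'.le_M a2.pgrp a3 fun h0 => hy
    (((inf_le_inf a1 (e ▸ c'.CM)).trans h0.le).trans bot_le)) a2.pgrp a3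
  refine c.ne_conj (c.h.norm_le hg) (e ▸ hst) ?_
  rw [← c'.norm_zl b2, ← c.eq_of_syl a2 a3 b1 b2.pgrp b3, c.norm_zl a2]

end MC

theorem UH.isCoatom (h : UH S A) {t : G} (ht : t ∈ A) (ht1 : t ≠ 1) : IsCoatom 𝐂[t] := by
  by_contra hn
  obtain ⟨M, hM, hCM⟩ := exists_coatom_ge (h.cent1_ne_top ht ht1)
  have hVM : S ≤ M := (h.le_cent1 ht).trans hCM
  have hnc := h.t0 ht ht1 hM.1 hCM
  have htO : t ∈ 𝐍(𝐎(M)) := le_normalizer_pPrimeCoreOf 2 M (hVM (h.le ht))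
  obtain ⟨p, hp, hp1⟩ : ∃ p : ℕ, p.Prime ∧ ¬ pCoreOf p 𝐎(M) ≤ 𝐂[t] := by
    by_contra! hcon
    exact hn (le_antisymm ((h.loc M hM.1 hVM).trans (sup_le (le_cent1_of_fitting (odd_O M)
      (h.sqA ht) htO (fittingOf_le_of hcon)) (((inf_le_inf_left _ h.norm_le).trans hnc).trans
      (FT.cent_le_cent1 ht)))) hCM ▸ hM)
  have hodd : Odd (Nat.card (pCoreOf p 𝐎(M))) := odd_of_le (pCoreOf_le _ _) (odd_O M)
  have hp2 : p ≠ 2 := by
    rintro rfl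
    exact hp1 fun x hx => P7.eq_one_of_two_odd (isPGroup_pCoreOf 2 _) hodd hx hx ▸ one_mem _
  have hMP : M ≤ 𝐍(pCoreOf p 𝐎(M)) :=
    (le_normalizer_pPrimeCoreOf 2 M).trans (normalizer_le_normalizer_pCoreOf p _)
  have htP := (zpowers_le.2 (h.le ht)).trans (hVM.trans hMP)
  have hT := H1.commutator_le_of_le_normalizer htP
  have hT1 : ⁅pCoreOf p 𝐎(M), zpowers t⁆ ≠ ⊥ := fun e => hp1 (comm_eq_bot_iff.1 e)
  obtain ⟨R, hR, hN⟩ := exists_coatom_norm hM.1 hT1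
    (hT.trans ((pCoreOf_le _ _).trans (pPrimeCoreOf_le 2 M)))
  exact MC.false ⟨⟨ht, ht1, hp, hp2, (isPGroup_pCoreOf p _).to_le hT, hT1,
    H1.commutator_commutator_eq htP (coprime_zpowers (h.sqA ht) hodd),
    H1.le_normalizer_commutator (hCM.trans hMP) (cent1_le_norm_zpowers t), hN, hR⟩, h⟩

end Cfsg.Agent.P18.U
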