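/-
Sylow 2-subgroups of type `U₃(4)`: the Fitting subgroup of an involution centralizer.
-/
import Cfsg.Agent.P18.U3
import Cfsg.Agent.P5.B1

set_option autoImplicit false
set_option linter.unusedSectionVars false
set_option linter.style.haveILetI false

namespace Cfsg.Agent.P18.U

open Subgroup Cfsg Cfsg.Agent Cfsg.Agent.FT
open Cfsg.Agent.P6 (Inv Od)
open scoped commutatorElement

universe u

variable {G : Type u} [Group G] [Finite G] [IsSimpleGroup G]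

namespace UH

variable {S A : Subgroup G} (h : UH S A) {t : G} (ht : t ∈ A) (t1 : t ≠ 1)
include h ht t1

theorem solvH : Group.IsSolvable 𝐂[t] := h.solv (h.cent1_ne_top ht t1) (h.le_cent1 ht)

theorem zp_le : zpowers t ≤ pCoreOf 2 𝐂[t] :=
  le_pCoreOf ⟨zpowers_le.2 (self_mem_cent1 t), P5.Mx.cent1_le_norm_zpowers t⟩
    (P7.two_zpowers (h.sqA ht))

theorem cent_inf {s : G} (hs : s ∈ A) (s1 : s ≠ 1) (st : s ≠ t) : 𝐂[t] ⊓ 𝐂[s] ≤ 𝐂(A) :=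
  fun _ hx => h.f4.mem_cent ht hs t1 s1 st.symm (mem_cent1_iff_commute.1 hx.1).symm
    (mem_cent1_iff_commute.1 hx.2).symm

theorem pCore_bot {s : G} (hs : s ∈ A) (s1 : s ≠ 1) {q : ℕ} (hq : q.Prime)
    (h0 : pCoreOf q 𝐂[t] = ⊥) : pCoreOf q 𝐂[s] = ⊥ := by
  obtain ⟨g, -, rfl⟩ := h.exists_conj ht t1 hs s1
  rw [cent1_conj, pCoreOf_conj _ _ hq, h0, conj_eq_bot_iff]

/-- Bender's argument: `t` centralizes the odd core of `X`. -/
theorem Od_le {p : ℕ} (hp : p.Prime) (p2 : p ≠ 2) {Y X : Subgroup G} (hY : Y ≤ pCoreOf p 𝐂[t])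
    (Y1 : Y ≠ ⊥) (hX : Y ≤ X) (hC : 𝐂(Y) ≤ X) (hA : A ≤ 𝐍(X))
    (k : ∀ q : ℕ, q.Prime → q ≠ 2 → (∀ z ∈ pCoreOf q X, t * z * t = z⁻¹) → ∀ s ∈ A, s ≠ 1 → s ≠ t →
      pCoreOf q X ⊓ 𝐂[s] ≤ pCoreOf q 𝐂[s]) : Od X ≤ 𝐂[t] := by
  have tt := h.sqA ht
  have n2 : pCoreOf 2 𝐂[t] ≠ ⊥ := fun e => t1 (zpowers_eq_bot.1 (eq_bot_iff.2 (e ▸ h.zp_le ht t1)))
  have hYF := hY.trans (H2.pCoreOf_le_fittingOf hp _)
  have two : P5.Mx.Two 𝐂[t] := fun r _ => by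
    by_cases e : r = 2
    · exact ⟨p, hp, e ▸ p2, fun e => Y1 (eq_bot_iff.2 (e ▸ hY))⟩
    · exact ⟨2, Nat.prime_two, Ne.symm e, n2⟩
  refine le_cent1_of_fitting (P6.odd_Od X) tt (P6.norm_le_norm_Od X (hA ht))
    ((fittingOf_le_of_normal ⟨P7.Od_le X, P7.le_norm_Od X⟩).trans
      (P5.Mx.fittingOf_le_of fun q hq => ?_))
  by_cases h0 : pCoreOf q 𝐂[t] = ⊥
  swap
  · exact two.pCoreOf_le (h.isCoatom ht t1) ((P5.Mx.ZF_le_cent hYF).trans hC) hq h0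
  have h2 := P5.bender_i (cent_fittingOf_le (h.solvH ht t1)) hYF
    (sup_le hX (inf_le_right.trans hC)) hq h0
  have hn := hA.trans (H2.normalizer_le_normalizer_pCoreOf q X)
  have q2 : q ≠ 2 := fun e => n2 (e ▸ h0)
  have h3 := L.inverts_of_fpf tt (hn ht) fun a ha hc =>
    mem_bot.1 (h2 ▸ mem_inf.2 ⟨ha, mem_cent1_iff_commute.2 hc⟩)
  refine H1.le_of_forall_centralizer_le h.f4.isMulCommutative h.f4.not_isCyclic hn
    (h.f4.coprime (P6.odd_of_isPGroup hq q2 (H2.isPGroup_pCoreOf q X))) fun s hs s1 => ?_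
  by_cases e : s = t
  · exact e ▸ inf_le_right
  · exact (k q hq q2 h3 s hs s1 e).trans ((h.pCore_bot ht t1 hs s1 hq h0).le.trans bot_le)

theorem b1 {p : ℕ} (hp : p.Prime) {s : G} (hs : s ∈ A) (s1 : s ≠ 1) (st : s ≠ t) :
    pCoreOf p 𝐂[t] ≤ 𝐂(A) ∨ ∀ z ∈ pCoreOf p 𝐂[t], s * z * s = z⁻¹ := by
  haveI := Fact.mk hp
  by_cases p2 : p = 2
  · exact .inl (p2 ▸ ((h.sylX (h.le_cent1 ht)).pCoreOf_le Nat.prime_two).trans h.cen)
  have nH : ∀ a : G, 𝐂[a] ≤ 𝐍(pCoreOf p 𝐂[a]) := fun a => H2.le_normalizer_pCoreOf p _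
  by_cases h0 : pCoreOf p 𝐂[t] ⊓ 𝐂[s] = ⊥
  · exact .inr (L.inverts_of_fpf (h.sqA hs) (nH t (h.le_cent1 ht (h.le hs))) fun a ha hc =>
      mem_bot.1 (h0 ▸ mem_inf.2 ⟨ha, mem_cent1_iff_commute.2 hc⟩))
  left
  set Y := pCoreOf p 𝐂[t] ⊓ 𝐂[s]
  have pY : IsPGroup p Y := (H2.isPGroup_pCoreOf p _).to_le inf_le_left
  have hX : 𝐂(A) ≤ 𝐍(Y) := H1.le_normalizer_inf ((cent_le_cent1 ht).trans (nH t))
    ((cent_le_cent1 hs).trans le_normalizer)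
  have hS := h.cen.trans hX
  have X1 := h.norm_ne_top h0 (H1.isSolvable_of_isPGroup pY)
  have h1 : Od 𝐍(Y) ≤ 𝐂[t] := h.Od_le ht t1 hp p2 inf_le_left h0 le_normalizer (cent_le_norm Y)
    ((h.le.trans hS).trans le_normalizer) fun q hq q2 hi a ha a1 ta => by
      have pQ : IsPGroup q (pCoreOf q 𝐍(Y) ⊓ 𝐂[a] : Subgroup G) :=
        (H2.isPGroup_pCoreOf q _).to_le inf_le_left
      exact h.d1 (h.cent1_ne_top ha a1) (h.le_cent1 ha) ht hq q2 inf_le_right pQ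
        (P5.comm_eq_of_inv (P6.odd_of_isPGroup hq q2 pQ) (h.sqA ht) fun z hz => hi z hz.1)
        (H1.le_normalizer_inf (((h.cent_inf ha a1 ht t1 (Ne.symm ta)).trans hX).trans
          (H2.le_normalizer_pCoreOf q _)) (inf_le_left.trans le_normalizer))
  have pR := H2.isPGroup_pCoreOf p 𝐂[s]
  have oR := P6.odd_of_isPGroup hp p2 pR
  have h2 := H1.pxq_lemma (Q := zpowers t) pY pR (inf_le_right.trans (nH s))
    (zpowers_le.2 (nH s (h.le_cent1 hs (h.le ht))))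
    (by rw [cent_zpowers]; exact inf_le_left.trans (H2.pCoreOf_le p _))
    (P5.Mx.coprime_zpowers (h.sqA ht) oR)
    (by
      rw [cent_zpowers]
      exact (h.le_Od X1 hS (inf_le_right.trans (cent_le_norm Y)) (P6.odd_of_le inf_le_left oR)
        (H1.le_normalizer_inf ((h.le_cent1 hs).trans (nH s))
          (H1.le_normalizer_centralizer hS))).trans h1)
  have h3 := (le_inf (P5.Mx.zpowers_le_cent_iff.1 h2) (H2.pCoreOf_le p _)).trans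
    (h.cent_inf ht t1 hs s1 st)
  obtain ⟨g, hg, rfl⟩ := h.exists_conj hs s1 ht t1
  rw [cent1_conj, pCoreOf_conj _ _ hp]
  exact conj_le_of_mem_norm h3 (H1.normalizer_le_normalizer_centralizer A (h.norm_le hg))

theorem comm_le {s : G} (hs : s ∈ A) (s1 : s ≠ 1) (st : s ≠ t) :
    ⁅𝐂[t], zpowers s⁆ ≤ fittingOf 𝐂[t] := by
  have sH := h.le_cent1 ht (h.le hs)
  refine (le_inf (comm_le_left_iff.2 ((zpowers_le.2 sH).trans le_normalizer))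
    (P5.Mx.le_cent_fittingOf fun p hp => ?_)).trans (cent_fittingOf_le (h.solvH ht t1))
  have nH := H2.le_normalizer_pCoreOf p 𝐂[t]
  rcases h.b1 ht t1 hp hs s1 st with k | k
  · exact (commutator_mono le_rfl (P5.Mx.zpowers_le_cent_iff.2 (k.trans (cent_le_cent1 hs)))).trans
      (comm_le_right_iff.2 (H1.le_normalizer_centralizer nH))
  · exact P5.Mx.comm_le_cent_of_inverts (h.sqA hs) (nH sH) k nH

theorem kk {s : G} (hs : s ∈ A) (s1 : s ≠ 1) (st : s ≠ t) {q : ℕ} (hq : q.Prime) (q2 : q ≠ 2)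
    {Q : Subgroup G} (hQ : IsPGroup q Q) (QH : Q ≤ 𝐂[t]) (hi : ∀ z ∈ Q, s * z * s = z⁻¹) :
    Q ≤ pCoreOf q 𝐂[t] :=
  H2.le_pCoreOf_of_le_fittingOf hQ ((P5.comm_eq_of_inv (P6.odd_of_isPGroup hq q2 hQ) (h.sqA hs)
    hi).ge.trans ((commutator_mono QH le_rfl).trans (h.comm_le ht t1 hs s1 st)))

theorem b2 : ∃ p : ℕ, p.Prime ∧ ¬ pCoreOf p 𝐂[t] ≤ 𝐂(A) := by
  by_contra! k
  obtain ⟨s, hs, s1, st⟩ := h.f4.exists_ne t
  have hS := h.le_cent1 ht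
  have h1 : 𝐂[t] ≤ 𝐂(A) := (h.loc _ (h.cent1_ne_top ht t1) hS).trans (sup_le
    ((le_inf (P7.Od_le _) (le_cent1_of_fitting (P6.odd_Od _) (h.sqA hs)
      (P7.le_norm_Od _ (hS (h.le hs))) (((fittingOf_le_of_normal ⟨P7.Od_le _, P7.le_norm_Od _⟩).trans
      (P5.Mx.fittingOf_le_of k)).trans (cent_le_cent1 hs)))).trans (h.cent_inf ht t1 hs s1 st))
    ((inf_le_inf_left _ h.norm_le).trans (h.t0 ht t1 (h.cent1_ne_top ht t1) le_rfl)))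
  obtain ⟨ρ, h2, h3⟩ := h.tri
  exact h3 (h.t0 ht t1 (h.norm_ne_top (fun e => t1 (mem_bot.1 (e ▸ ht)))
    (H1.isSolvable_of_isPGroup h.f4.isPGroup)) (h1.trans (cent_le_norm A))
    ⟨h.norm_le h2, h.norm_le h2⟩)

variable {p : ℕ} (hp : p.Prime) (hV : ¬ pCoreOf p 𝐂[t] ≤ 𝐂(A))
include hp hV

theorem inverts {s : G} (hs : s ∈ A) (s1 : s ≠ 1) (st : s ≠ t) :
    ∀ z ∈ pCoreOf p 𝐂[t], s * z * s = z⁻¹ := (h.b1 ht t1 hp hs s1 st).resolve_left hV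

theorem p2 : p ≠ 2 := fun e =>
  hV (e ▸ ((h.sylX (h.le_cent1 ht)).pCoreOf_le Nat.prime_two).trans h.cen)

theorem eq_t {y : G} (hy : y ∈ pCoreOf p 𝐂[t]) (y1 : y ≠ 1) {j : G} (ij : Inv j) (hj : j ∈ 𝐂[t])
    (hc : Commute y j) : j = t := by
  obtain ⟨k, hk, e⟩ := h.exists_cj (h.le_cent1 ht) hj ij.sq
  by_cases e1 : k * j * k⁻¹ = t
  · rw [← mem_cent1_iff_conj.1 hk] at e1
    simpa using e1
  have h1 := P7.cjm (H2.le_normalizer_pCoreOf p _ hk) hy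
  have h2 := h.inverts ht t1 hp hV e (ij.conj k).ne e1 _ h1
  rw [← (P5.commute_cj k hc).eq, mul_assoc, (ij.conj k).sq, mul_one, eq_inv_iff_mul_eq_one] at h2
  exact absurd (by simpa using (P5.eq_one_of_odd (P6.odd_of_isPGroup hp (h.p2 ht t1 hp hV)
    (H2.isPGroup_pCoreOf p _)) h1 h2)) y1

theorem b3 {y : G} (hy : y ∈ pCoreOf p 𝐂[t]) (y1 : y ≠ 1) : 𝐂[y] ≤ 𝐂[t] := by
  have it : Inv t := ⟨t1, h.sqA ht⟩
  have tX : t ∈ 𝐂[y] := mem_cent1_comm.1 (H2.pCoreOf_le p _ hy)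
  have h1 : Od 𝐂[y] ≤ 𝐂[t] := h.Od_le ht t1 hp (h.p2 ht t1 hp hV) (zpowers_le.2 hy)
    (fun e => y1 (zpowers_eq_bot.1 e)) (zpowers_le.2 (self_mem_cent1 y)) (cent_zpowers y).le
    (fun s hs => by
      by_cases e : s = 1 ∨ s = t
      · exact e.elim (fun e => e ▸ one_mem _) fun e => e ▸ le_normalizer tX
      push Not at e
      rw [← cent_zpowers]
      refine H1.normalizer_le_normalizer_centralizer _ (mem_norm_of_conj_le ?_)
      rw [← zpowers_conj, h.f4.inv_eq hs, h.inverts ht t1 hp hV hs e.1 e.2 y hy, zpowers_inv])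
    fun q hq q2 hi s hs s1 st => h.kk hs s1 ht t1 (Ne.symm st) hq q2
      ((H2.isPGroup_pCoreOf q _).to_le inf_le_left) inf_le_right fun z hz => hi z hz.1
  have k : ∀ g ∈ 𝐂[y], g * t * g⁻¹ ∈ 𝐂[t] → g * t * g⁻¹ = t := fun g hg c =>
    h.eq_t ht t1 hp hV hy y1 (it.conj g) c
      (mem_cent1_iff_commute.1 (mul_mem (mul_mem hg tX) (inv_mem hg)))
  intro g hg
  have h2 : ⁅t, g⁆ ∈ Od 𝐂[y] := ⟨_, P1.zstar (G := 𝐂[y]) (t := ⟨t, tX⟩)
    (by rw [← orderOf_coe]; exact it.orderOf_eq) (fun a c => Subtype.ext (k a a.2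
      (mem_cent1_iff_commute.2 (congrArg Subtype.val c.eq)))) ⟨g, hg⟩, rfl⟩
  refine mem_cent1_iff_conj.2 (k g hg ?_)
  have := mul_mem (inv_mem (self_mem_cent1 t)) (h1 h2)
  rwa [commutatorElement_def, it.inv_eq, ← mul_assoc, ← mul_assoc, ← mul_assoc, it.sq,
    one_mul] at this

theorem hu {y : G} (hy : y ∈ pCoreOf p 𝐂[t]) (y1 : y ≠ 1) (g : G)
    (hc : Commute y (g * t * g⁻¹)) : g * t * g⁻¹ = t :=
  h.eq_t ht t1 hp hV hy y1 ((⟨t1, h.sqA ht⟩ : Inv t).conj g)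
    (h.b3 ht t1 hp hV hy y1 (mem_cent1_iff_commute.2 hc)) hc

end UH

end Cfsg.Agent.P18.U
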