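/-
Sylow 2-subgroups of type `U₃(4)`: the character argument.
-/
import Cfsg.Agent.P5.Char1
import Cfsg.Agent.P5.SMT
import Cfsg.Agent.P5.Max0

set_option autoImplicit false
set_option linter.unusedSectionVars false

namespace Cfsg.Agent.P18.U

open Subgroup Cfsg Cfsg.Agent Cfsg.Agent.FT Cfsg.Agent.P1
open scoped ComplexConjugate

universe u

variable {G : Type u} [Group G] [Finite G]

/-- `v` has order 2 or 4 and `N` is a normal subgroup of odd order of its centralizer. -/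
structure Sec (v : G) (N : Subgroup G) : Prop where
  ne : v ≠ 1
  four : v ^ 2 ^ 2 = 1
  normal : N ⊲ 𝐂[v]
  odd : (𝐨(N)).Coprime 2

noncomputable def ee (v : G) (N : Subgroup G) : G → ℂ :=
  {x | v⁻¹ * x ∈ N}.indicator fun _ => (N.relIndex 𝐂[v] : ℂ)

noncomputable def eta (v : G) (N : Subgroup G) : G → ℂ := ind ⊤ 𝐂[v] (ee v N)

namespace Sec

variable {v : G} {N : Subgroup G} (h : Sec v N)
include h

theorem pow_eq {y : G} (hy : y ∈ N) : (v * y) ^ 𝐨(N) ^ 2 = v := by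
  have hc : Commute v y := (mem_cent1_iff_commute.1 (h.normal.1 hy))
  have h1 : y ^ 𝐨(N) ^ 2 = 1 := by rw [pow_two, pow_mul, P5.pow_card_of_mem hy, one_pow]
  rw [hc.mul_pow, h1, mul_one]
  obtain ⟨m, hm⟩ := Nat.coprime_two_right.mp h.odd
  have : 𝐨(N) ^ 2 = 2 ^ 2 * (m ^ 2 + m) + 1 := by rw [hm]; ring
  rw [this, pow_succ, pow_mul, h.four, one_pow, one_mul]

theorem conj_mem_iff {g : G} (hg : g ∈ 𝐂[v]) (x : G) :
    v⁻¹ * (g * x * g⁻¹) ∈ N ↔ v⁻¹ * x ∈ N := by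
  have hc : Commute v g := mem_cent1_iff_commute.1 hg
  have : v⁻¹ * (g * x * g⁻¹) = g * (v⁻¹ * x) * g⁻¹ := by
    rw [← mul_assoc, ← mul_assoc, hc.inv_left.eq]; group
  rw [this]
  exact (mem_normalizer_iff.1 (h.normal.2 hg) _).symm

theorem ti : NormedTI {x | v⁻¹ * x ∈ N} ⊤ 𝐂[v] where
  nonempty := ⟨v, by simp⟩
  one_notMem e := by
    have := h.pow_eq e
    rw [mul_one, mul_inv_cancel, one_pow] at this
    exact h.ne this.symm
  subset x hx := by simpa using mul_mem (self_mem_cent1 v) (h.normal.1 hx)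
  le := le_top
  norm g hg a ha := (h.conj_mem_iff hg a).mpr ha
  ti g _ a ha hg := by
    have h1 := h.pow_eq ha
    have h2 := h.pow_eq hg
    rw [mul_inv_cancel_left] at h1 h2
    rw [conj_pow, h1] at h2
    exact mem_centralizer_singleton_iff.mpr (mul_inv_eq_iff_eq_mul.mp h2)

theorem ee_mem : ee v N ∈ CFon 𝐂[v] {x | v⁻¹ * x ∈ N} :=
  ⟨⟨fun _ hx => Set.indicator_of_notMem (fun e => hx (h.ti.subset e)) _, fun g hg x => by
    classical simp only [ee, Set.indicator_apply, Set.mem_ofPred_eq, h.conj_mem_iff hg]⟩,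
    fun _ hx => Set.indicator_of_notMem hx _⟩

theorem ip_ee (φ : G → ℂ) :
    ip 𝐂[v] φ (ee v N) = (𝐨(N) : ℂ)⁻¹ * ∑ y ∈ fs (N : Set G), φ (v * y) := by
  have h0 : (N.relIndex 𝐂[v] : ℂ) ≠ 0 := by
    exact_mod_cast (Subgroup.FiniteIndex.index_ne_zero (H := N.subgroupOf 𝐂[v]))
  rw [ip_def, ← sum_fs_mul_left (self_mem_cent1 v), ← sum_fs_subset (A := (N : Set G)) h.normal.1
    fun x _ hx => by rw [ee, Set.indicator_of_notMem (by simpa using hx), map_zero, mul_zero],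
    sum_fs_congr (g := fun y => φ (v * y) * (N.relIndex 𝐂[v] : ℂ)) fun x hx => by
      rw [ee, Set.indicator_of_mem (by simpa using hx), map_natCast],
    ← Finset.sum_mul, ← H1.card_mul_relIndex h.normal.1]
  push_cast
  field_simp [card_ne_zero_C N]

theorem ip_eta_self : ip ⊤ (eta v N) (eta v N) = N.relIndex 𝐂[v] := by
  rw [eta, h.ti.ip_ind h.ee_mem h.ee_mem, h.ip_ee, sum_fs_congr
    (g := fun _ => (N.relIndex 𝐂[v] : ℂ)) fun x hx => by
    rw [ee, Set.indicator_of_mem (by simpa using hx)], sum_fs_const, nsmul_eq_mul,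
    inv_mul_cancel_left₀ (card_ne_zero_C N)]

theorem apply_mul {χ : G → ℂ} (hχ : χ ∈ B0 2 ⊤) {y : G} (hy : y ∈ N) : χ (v * y) = χ v := by
  have := B0_apply_mul Nat.prime_two (mem_top v) h.four (one_mem_regSet _ _)
    (N := N) (by rw [top_inf_eq]; exact h.normal) h.odd hy hχ
  rwa [mul_one] at this

theorem ip_eta_B0 {χ : G → ℂ} (hχ : χ ∈ B0 2 ⊤) : ip ⊤ χ (eta v N) = χ v := by
  rw [eta, ip_ind_right le_top (irr_mem_CF (B0_subset _ _ hχ)), h.ip_ee,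
    sum_fs_congr (g := fun _ => χ v) fun y hy => h.apply_mul hχ hy, sum_fs_const, nsmul_eq_mul,
    inv_mul_cancel_left₀ (card_ne_zero_C N)]

theorem sum_le : ∑ χ ∈ B0 2 ⊤, ‖χ v‖ ^ 2 ≤ N.relIndex 𝐂[v] := by
  have h1 := nsq_eq_sum_irr (ind_mem_CF ⊤ 𝐂[v] (ee v N))
  rw [show nsq ⊤ (ind ⊤ 𝐂[v] (ee v N)) = (N.relIndex 𝐂[v] : ℝ) from
    nsq_eq_of_ip (by rw [← eta, h.ip_eta_self]; simp)] at h1
  rw [h1]
  refine le_trans (le_of_eq (Finset.sum_congr rfl fun χ hχ => ?_))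
    (Finset.sum_le_sum_of_subset_of_nonneg (B0_subset 2 ⊤) fun _ _ _ => sq_nonneg _)
  rw [← h.ip_eta_B0 hχ, ← conj_ip, Complex.norm_conj, eta]

theorem ip_eta_off {k : ℕ} (hk : N.relIndex 𝐂[v] = 2 ^ k) {χ : G → ℂ} (hχ : χ ∈ Irr ⊤)
    (h0 : χ ∉ B0 2 ⊤) : ip ⊤ χ (eta v N) = 0 := by
  classical
  have h1 := B0_second Nat.prime_two (mem_top v) h.four (one_mem_regSet _ _) hχ
  rw [top_inf_eq, B0_eq_irrKer Nat.prime_two h.normal h.odd hk, mul_one, irrKer,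
    Finset.sum_filter, if_neg h0] at h1
  rw [← h1, eta, ip_ind_right le_top (irr_mem_CF hχ), ← ip_res_left,
    ip_eq_sum_irr (res_mem_CF le_top (irr_mem_CF hχ))]
  refine Finset.sum_congr rfl fun φ hφ => ?_
  rw [conj_ip, h.ip_ee, ip_res_left,
    sum_fs_congr fun y _ => CF_mul_comm (irr_mem_CF hφ) (self_mem_cent1 v) y,
    sum_coset h.normal hφ]
  split_ifs
  · rw [inv_mul_cancel_left₀ (card_ne_zero_C N)]
  · simp

theorem class_eq {k : ℕ} (hk : N.relIndex 𝐂[v] = 2 ^ k) {t : G}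
    (hn : ∀ a b : G, v⁻¹ * (a * t * a⁻¹ * (b * t * b⁻¹)) ∉ N) :
    ∑ χ ∈ B0 2 ⊤, conj (χ v) * (χ t ^ 2 / χ 1) = 0 := by
  have h1 : ∀ a b : G, eta v N (a * t * a⁻¹ * (b * t * b⁻¹)) = 0 := fun a b =>
    ind_apply_eq_zero fun x _ _ => by
      rw [ee, Set.indicator_of_notMem]
      have := hn (x⁻¹ * a) (x⁻¹ * b)
      intro e
      refine this ?_
      have e2 : x⁻¹ * a * t * (x⁻¹ * a)⁻¹ * (x⁻¹ * b * t * (x⁻¹ * b)⁻¹) =
        x⁻¹ * (a * t * a⁻¹ * (b * t * b⁻¹)) * x := by group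
      rw [e2]; exact e
  have h2 : ∑ b ∈ fs ((⊤ : Subgroup G) : Set G), ∑ a ∈ fs ((⊤ : Subgroup G) : Set G),
      eta v N (a * t * a⁻¹ * (b * t * b⁻¹)) = 0 := by simp [h1]
  simp only [fun x => apply_eq_sum_irr (ind_mem_CF ⊤ 𝐂[v] (ee v N)) x, eta] at h2
  simp only [fun b => Finset.sum_comm (s := fs ((⊤ : Subgroup G) : Set G)) (t := Irr ⊤)
    (f := fun a χ => ip ⊤ (ind ⊤ 𝐂[v] (ee v N)) χ * χ (a * t * a⁻¹ * (b * t * b⁻¹)))] at h2
  rw [Finset.sum_comm, Finset.sum_congr rfl (g := fun χ => (𝐨((⊤ : Subgroup G)) : ℂ) ^ 2 *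
    (conj (ip ⊤ χ (eta v N)) * (χ t ^ 2 / χ 1))) fun χ hχ => by
      simp only [← Finset.mul_sum]
      rw [P5.Hyp.sum_sum_irr hχ (mem_top t), conj_ip, eta]; ring, ← Finset.mul_sum] at h2
  have h3 := (mul_eq_zero.1 h2).resolve_left (pow_ne_zero _ (card_ne_zero_C _))
  rw [← h3, ← Finset.sum_subset (B0_subset 2 ⊤) fun χ hχ h0 => by
    rw [h.ip_eta_off hk hχ h0]; simp]
  exact Finset.sum_congr rfl fun χ hχ => by rw [h.ip_eta_B0 hχ]

end Sec

theorem int_val {v g : G} (h4 : v ^ 2 ^ 2 = 1) (hg : g * v * g⁻¹ = v⁻¹) {χ : G → ℂ}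
    (hχ : χ ∈ Irr ⊤) : ∃ n : ℤ, χ v = n := by
  refine int_of_aut_fixed ((irr_isChar hχ).isIntegral v) fun σ => ?_
  obtain ⟨k, -, h1, h2⟩ := exists_pow_of_aut σ (n := 2 ^ 2) (by norm_num)
  rw [vchar_aut_apply (irr_mem_VChar hχ) (by norm_num) h2 (mem_top v) h4]
  obtain ⟨m, rfl⟩ := Nat.coprime_two_right.mp (h1.coprime_dvd_right (by norm_num))
  obtain ⟨n, rfl | rfl⟩ := Nat.even_or_odd' m
  · rw [show 2 * (2 * n) + 1 = 2 ^ 2 * n + 1 by ring, pow_succ, pow_mul, h4, one_pow, one_mul]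
  · have : v ^ 3 = v⁻¹ := eq_inv_of_mul_eq_one_left (by rw [← pow_succ]; exact h4)
    rw [show 2 * (2 * n + 1) + 1 = 2 ^ 2 * n + 3 by ring, pow_add, pow_mul, h4, one_pow, one_mul,
      this, ← hg, CF_conj (irr_mem_CF hχ) (mem_top g)]

/-- If `t` is the only conjugate of `t` in the centralizer of the `p`-element `y`, then `t` acts
on the section of `y` by a sign that depends on the character only. -/
theorem exists_sign {p : ℕ} (hp : p.Prime) (p2 : p ≠ 2) {t : G} (tt : t * t = 1) {χ : G → ℂ}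
    (hχ : χ ∈ Irr ⊤) : ∃ ε : ℤ, (ε = 1 ∨ ε = -1) ∧ ∀ (y : G) (k : ℕ), y ^ p ^ k = 1 →
      Commute y t → (∀ g : G, Commute y (g * t * g⁻¹) → g * t * g⁻¹ = t) →
      χ (t * y) = ε * χ y := by
  classical
  have := Fintype.ofFinite G
  obtain ⟨B, hv⟩ := exists_val hp
  let f : G → ℂ := (classSupp {t} ⊤).indicator fun _ => 1
  have hf : f ∈ CF ⊤ := mem_CF_of (fun x hx => absurd (mem_top x) hx) fun g _ x _ => by
    have : g * x * g⁻¹ ∈ classSupp {t} (⊤ : Subgroup G) ↔ x ∈ classSupp {t} ⊤ := by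
      constructor
      · rintro ⟨a, ha, k, -, e⟩
        exact ⟨a, ha, g⁻¹ * k, trivial, by rw [show x = g⁻¹ * (g * x * g⁻¹) * g by group, e]; group⟩
      · rintro ⟨a, ha, k, -, rfl⟩
        exact ⟨a, ha, g * k, trivial, by group⟩
    simp only [f, Set.indicator_apply, this]
  have f0 : ∀ g, (∀ x, g ≠ x * t * x⁻¹) → f g = 0 := fun g hg => by
    refine Set.indicator_of_notMem ?_ _
    rintro ⟨a, rfl, x, -, e⟩
    exact hg x e
  have f1 : f t = 1 := by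
    refine Set.indicator_of_mem ?_ _
    exact ⟨t, rfl, 1, trivial, by simp⟩
  have key : ∀ (y : G) (k : ℕ), y ^ p ^ k = 1 → Commute y t →
      (∀ g : G, Commute y (g * t * g⁻¹) → g * t * g⁻¹ = t) → ∀ α ∈ Irr (zpowers t),
      ip (zpowers t) (fun g => χ (g * y)) α ≠ 0 →
      B.valuation (om χ (toA f) - α t / α 1) < 1 := fun y k hy hc hu α hα hd => by
    have h1 := P5.smt hp hv (mem_top y) hy le_top
      (zpowers_le.2 (mem_cent1_iff_commute.2 hc))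
      (((Nat.coprime_primes Nat.prime_two hp).2 p2.symm).coprime_dvd_left
        (P5.Mx.card_zpowers_dvd_two tt)) hχ hα hd hf
      (fun g => by simp only [f, Set.indicator_apply]; split_ifs <;> simp)
      fun g hg hn => f0 g fun x e => hn (by
        rw [e, hu x (e ▸ P5.Mx.commute_of_conj_eq hg)]; exact mem_zpowers t)
    have h2 : om α (toA (res (zpowers t) f)) = α t / α 1 := by
      rw [om, tr_apply, Finset.sum_eq_single t]
      · rw [coeff_toA, res_of_mem _ (mem_zpowers t), f1, one_mul]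
      · intro g _ hg
        rw [coeff_toA]
        by_cases hm : g ∈ zpowers t
        · obtain ⟨n, hn⟩ := mem_zpowers_iff.1 hm
          rw [res_of_mem _ hm, f0 g fun x e => hg (by
            rw [e, hu x (e ▸ hn ▸ hc.zpow_right n)]), zero_mul]
        · rw [res_of_notMem _ hm, zero_mul]
      · simp
    rwa [h2] at h1
  have exp : ∀ (y : G) (ε : ℂ), (∀ α ∈ Irr (zpowers t),
      ip (zpowers t) (fun g => χ (g * y)) α ≠ 0 → α t = ε * α 1) → χ (t * y) = ε * χ y := by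
    intro y ε h
    have hF : res (zpowers t) (fun g => χ (g * y)) ∈ CF (zpowers t) :=
      mem_CF_of_comm inferInstance fun x hx => res_of_notMem _ hx
    have e1 := apply_eq_sum_irr hF t
    have e2 := apply_eq_sum_irr hF 1
    rw [res_of_mem _ (mem_zpowers t)] at e1
    rw [res_of_mem _ (one_mem _), one_mul] at e2
    rw [e1, e2, Finset.mul_sum]
    refine Finset.sum_congr rfl fun α hα => ?_
    rw [ip_res_left]
    by_cases h0 : ip (zpowers t) (fun g => χ (g * y)) α = 0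
    · simp [h0]
    · rw [h α hα h0]; ring
  have sg : ∀ α ∈ Irr (zpowers t), α t = α 1 ∨ α t = -α 1 := fun α hα =>
    (P5.irr_mul_central (mem_zpowers t) tt (zpowers_le.2 (self_mem_cent1 t)) hα).imp
      (fun e => by simpa using e 1) fun e => by simpa using e 1
  by_cases c : B.valuation (om χ (toA f) - 1) < 1
  · refine ⟨1, .inl rfl, fun y k hy hc hu => exp y _ fun α hα hd => ?_⟩
    rcases sg α hα with e | e
    · simpa using e
    exfalso
    have h1 := key y k hy hc hu α hα hd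
    rw [e, neg_div, div_self (irr_one_ne_zero hα)] at h1
    have h2 := B.valuation.map_sub_lt h1 c
    rw [show om χ (toA f) - -1 - (om χ (toA f) - 1) = ((2 : ℕ) : ℂ) by push_cast; ring,
      val_nat_eq_one hv ((Nat.coprime_primes Nat.prime_two hp).2 p2.symm)] at h2
    exact lt_irrefl _ h2
  · refine ⟨-1, .inr rfl, fun y k hy hc hu => exp y _ fun α hα hd => ?_⟩
    rcases sg α hα with e | e
    · have h1 := key y k hy hc hu α hα hd
      rw [e, div_self (irr_one_ne_zero hα)] at h1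
      exact absurd h1 c
    · simpa using e

theorem degree_ge [IsSimpleGroup G] {p : ℕ} (hp : p.Prime) (p2 : p ≠ 2) {t : G} (tt : t * t = 1)
    {U V : Subgroup G} (h : Sec t U) (hV : V ≤ U) (pV : IsPGroup p V) (V1 : V ≠ ⊥)
    (hu : ∀ y ∈ V, y ≠ 1 → ∀ g : G, Commute y (g * t * g⁻¹) → g * t * g⁻¹ = t) {χ : G → ℂ}
    (hχ : χ ∈ B0 2 ⊤) (h1 : χ ≠ cf1 ⊤) {τ : ℤ} (hτ : χ t = τ) :
    ∃ ε m : ℤ, (ε = 1 ∨ ε = -1) ∧ m ≠ 0 ∧ (dg χ : ℤ) = ε * τ + 2 * 𝐨(V) * m := by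
  have hi := B0_subset _ _ hχ
  obtain ⟨ε, hε, k⟩ := exists_sign hp p2 tt hi
  have εε : (ε : ℂ) * ε = 1 := by rcases hε with rfl | rfl <;> simp
  have hy : ∀ y ∈ V, y ≠ 1 → χ y = ε * τ := fun y hy y1 => by
    obtain ⟨n, hn⟩ := pV ⟨y, hy⟩
    have := k y n (by simpa using congrArg Subtype.val hn)
      (mem_cent1_iff_commute.1 (h.normal.1 (hV hy))).symm (hu y hy y1)
    rw [h.apply_mul hχ (hV hy), hτ] at this
    rw [this, ← mul_assoc, εε, one_mul]
  obtain ⟨a, ha⟩ := ((irr_isChar hi).res (le_top (a := V))).ip_nat (isChar_cf1 V)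
  rw [ip_res_left, ip_cf1_right, sum_fs_sharp, sum_fs_congr (g := fun _ => (ε : ℂ) * τ)
    fun y hy' => hy y hy'.1 hy'.2, irr_one_eq hi] at ha
  have h2 := sum_fs_sharp V fun _ => (ε : ℂ) * τ
  rw [sum_fs_const, nsmul_eq_mul] at h2
  have e1 : (dg χ : ℤ) - ε * τ = 𝐨(V) * (a - ε * τ) := by
    have := card_ne_zero_C V
    field_simp at ha
    have : (dg χ : ℂ) - ε * τ = 𝐨(V) * (a - ε * τ) := by linear_combination ha + h2
    exact_mod_cast this
  obtain ⟨b, hb⟩ := ((irr_isChar hi).res (le_top (a := zpowers t))).ip_nat (isChar_cf1 _)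
  have ho : orderOf t = 2 := orderOf_eq_prime (by rw [pow_two, tt]) h.ne
  rw [ip_res_left, ip_cf1_right, sum_fs_sharp, show sharp (zpowers t) = {t} from Set.ext fun x => by
    refine ⟨fun ⟨⟨n, hn⟩, x1⟩ => ?_, fun e => by
      rw [Set.mem_singleton_iff.1 e]; exact ⟨mem_zpowers t, h.ne⟩⟩
    have t2 : t ^ (2 : ℤ) = 1 := by rw [zpow_two, tt]
    obtain ⟨m, rfl | rfl⟩ := Int.even_or_odd' n
    · exact absurd (by rw [← hn]; simp [zpow_mul, t2]) x1
    · rw [← hn]; simp [zpow_add, zpow_mul, t2], sum_fs_singleton, Nat.card_zpowers, ho, irr_one_eq hi, hτ] at hb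
  have e2 : (dg χ : ℤ) + τ = 2 * b := by
    have : (dg χ : ℂ) + τ = 2 * b := by push_cast at hb; linear_combination 2 * hb
    exact_mod_cast this
  have ov : Odd (𝐨(V) : ℤ) := by exact_mod_cast P5.Mx.odd_of_isPGroup hp p2 pV
  have e3 : Even (a - ε * τ) := by
    have : Even (𝐨(V) * (a - ε * τ)) := by
      rw [← e1]; rcases hε with rfl | rfl
      · exact ⟨b - τ, by linarith⟩
      · exact ⟨b, by linarith⟩
    exact (Int.even_mul.1 this).resolve_left (Int.not_even_iff_odd.2 ov)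
  obtain ⟨m, hm⟩ := e3
  refine ⟨ε, m, hε, fun m0 => h1 ?_, by rw [hm] at e1; linarith⟩
  rw [hm, m0] at e1
  obtain ⟨y, yV, y1'⟩ : ∃ y ∈ V, y ≠ 1 := by
    by_contra! c
    exact V1 ((eq_bot_iff_forall V).2 c)
  have hk : y ∈ cfKer χ := (irr_isChar hi).mem_cfKer_iff.2 (by
    rw [hy y yV y1', irr_one_eq hi]
    have : (dg χ : ℤ) = ε * τ := by linarith
    exact_mod_cast this.symm)
  rw [irr_eq_cf1_iff hi]
  exact ((normal_iff_top_le.2 (le_norm_cfKer (irr_mem_CF hi))).eq_bot_or_eq_top.resolve_left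
    fun e => y1' (mem_bot.1 (e ▸ hk))).ge

theorem char_false [IsSimpleGroup G] {p : ℕ} (hp : p.Prime) (p2 : p ≠ 2) {t u g : G}
    (tt : t * t = 1) {U V L : Subgroup G} (h : Sec t U) (hU : U.relIndex 𝐂[t] ≤ 320) (hV : V ≤ U)
    (pV : IsPGroup p V) (big : 625 ≤ 𝐨(V))
    (hu : ∀ y ∈ V, y ≠ 1 → ∀ g : G, Commute y (g * t * g⁻¹) → g * t * g⁻¹ = t)
    (h' : Sec u L) (hL : L.relIndex 𝐂[u] = 2 ^ 4) (hg : g * u * g⁻¹ = u⁻¹)
    (hn : ∀ a b : G, u⁻¹ * (a * t * a⁻¹ * (b * t * b⁻¹)) ∉ L) : False := by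
  classical
  have V1 : V ≠ ⊥ := fun e => by rw [e, card_bot] at big; omega
  have it : ∀ χ ∈ B0 2 (⊤ : Subgroup G), ∃ n : ℤ, χ t = n := fun χ hχ =>
    int_val (g := 1) h.four (by simpa using (P5.inv_eq_of_sq tt).symm) (B0_subset _ _ hχ)
  have iu : ∀ χ ∈ B0 2 (⊤ : Subgroup G), ∃ n : ℤ, χ u = n := fun χ hχ =>
    int_val h'.four hg (B0_subset _ _ hχ)
  choose! τ hτ using it
  choose! ξ hξ using iu
  have m1 := cf1_mem_B0 2 (⊤ : Subgroup G)
  have s1 : ∑ χ ∈ B0 2 (⊤ : Subgroup G), (τ χ : ℝ) ^ 2 ≤ 320 := by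
    refine le_trans (le_of_eq (Finset.sum_congr rfl fun χ hχ => ?_))
      (h.sum_le.trans (by exact_mod_cast hU))
    rw [hτ χ hχ, Complex.norm_intCast, sq_abs]
  have s2 : ∑ χ ∈ B0 2 (⊤ : Subgroup G), (ξ χ : ℝ) ^ 2 ≤ 16 := by
    refine le_trans (le_of_eq (Finset.sum_congr rfl fun χ hχ => ?_))
      (h'.sum_le.trans (by rw [hL]; norm_num))
    rw [hξ χ hχ, Complex.norm_intCast, sq_abs]
  have s3 : ∑ χ ∈ B0 2 (⊤ : Subgroup G), (ξ χ : ℝ) * ((τ χ : ℝ) ^ 2 / dg χ) = 0 := by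
    have := h'.class_eq hL hn
    rw [Finset.sum_congr rfl (g := fun χ => (((ξ χ : ℝ) * ((τ χ : ℝ) ^ 2 / dg χ) : ℝ) : ℂ))
      fun χ hχ => by
        rw [hτ χ hχ, hξ χ hχ, irr_one_eq (B0_subset _ _ hχ), map_intCast]; push_cast; ring] at this
    exact_mod_cast this
  have t1 : τ (cf1 ⊤) = 1 := by
    have := hτ _ m1
    rw [cf1_of_mem (mem_top t)] at this
    exact_mod_cast this.symm
  have u1 : ξ (cf1 ⊤) = 1 := by
    have := hξ _ m1
    rw [cf1_of_mem (mem_top u)] at this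
    exact_mod_cast this.symm
  rw [← Finset.add_sum_erase _ _ m1] at s1 s2 s3
  rw [t1] at s1 s3
  rw [u1] at s2 s3
  rw [(isLin_cf1 ⊤).dg] at s3
  have key : ∀ χ ∈ (B0 2 (⊤ : Subgroup G)).erase (cf1 ⊤),
      -((τ χ : ℝ) ^ 2 / 400) ≤ (ξ χ : ℝ) * ((τ χ : ℝ) ^ 2 / dg χ) := fun χ hχ => by
    obtain ⟨c1, c2⟩ := Finset.mem_erase.1 hχ
    have a1 : (τ χ : ℝ) ^ 2 ≤ 319 := by
      have := Finset.single_le_sum (f := fun χ => (τ χ : ℝ) ^ 2) (fun _ _ => sq_nonneg _) hχ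
      push_cast at s1; linarith
    have a2 : (ξ χ : ℝ) ^ 2 ≤ 15 := by
      have := Finset.single_le_sum (f := fun χ => (ξ χ : ℝ) ^ 2) (fun _ _ => sq_nonneg _) hχ
      push_cast at s2; linarith
    have a1' : τ χ ^ 2 ≤ 319 := by exact_mod_cast a1
    have a2' : ξ χ ^ 2 ≤ 15 := by exact_mod_cast a2
    have b1 : -3 ≤ ξ χ := by nlinarith
    have b2 : -18 ≤ τ χ ∧ τ χ ≤ 18 := by constructor <;> nlinarith
    obtain ⟨ε, m, hε, m0, e⟩ := degree_ge hp p2 tt h hV pV V1 hu c2 c1 (hτ χ c2)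
    have d0 : (0 : ℤ) < dg χ := by exact_mod_cast irr_dg_pos (B0_subset _ _ c2)
    have big' : (625 : ℤ) ≤ 𝐨(V) := by exact_mod_cast big
    have d1 : (1200 : ℤ) ≤ dg χ := by
      rcases lt_or_gt_of_ne m0 with c | c <;> rcases hε with rfl | rfl <;> nlinarith
    have d2 : (1200 : ℝ) ≤ dg χ := by exact_mod_cast d1
    have b1' : (-3 : ℝ) ≤ ξ χ := by exact_mod_cast b1
    have q0 : 0 ≤ (τ χ : ℝ) ^ 2 / dg χ := by positivity
    have q1 : (τ χ : ℝ) ^ 2 / dg χ ≤ (τ χ : ℝ) ^ 2 / 1200 :=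
      div_le_div_of_nonneg_left (sq_nonneg _) (by norm_num) d2
    nlinarith
  have := Finset.sum_le_sum key
  rw [Finset.sum_neg_distrib, ← Finset.sum_div] at this
  push_cast at s1 s3
  linarith

end Cfsg.Agent.P18.U
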