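/-
Sylow 2-subgroups of type `U₃(4)`: the numbers and the final contradiction.
-/
import Cfsg.Agent.P18.U4
import Cfsg.Agent.P18.UC
import Cfsg.Agent.H6.ZAction

set_option autoImplicit false
set_option linter.unusedSectionVars false
set_option linter.style.haveILetI false

namespace Cfsg.Agent.P18.U

open Subgroup Cfsg Cfsg.Agent Cfsg.Agent.FT
open Cfsg.Agent.P6 (Inv Od)
open scoped commutatorElement

universe u

variable {G : Type u} [Group G] [Finite G]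

namespace US

variable {S A : Subgroup G} (h : US S A)
include h

theorem fix {a x : G} (ha : a ∈ A) (hx : x ∈ 𝐂(A)) : x * a * x⁻¹ = a :=
  mem_cent1_iff_conj.1 (cent_le_cent1 ha hx)

theorem cr {x y z : G} (hx : x ∈ S) (hy : y ∈ S) (hz : z ∈ S) : ⁅x, y * z⁆ = ⁅x, y⁆ * ⁅x, z⁆ := by
  rw [commutatorElement_mul_right_eq_mul_conj, mul_assoc, mul_assoc, ← mul_assoc y,
    h.fix (h.comm_mem hx hz) (h.cen hy)]

theorem cl {x y z : G} (hx : x ∈ S) (hy : y ∈ S) (hz : z ∈ S) : ⁅x * y, z⁆ = ⁅x, z⁆ * ⁅y, z⁆ := by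
  rw [commutatorElement_mul_left_eq_conj_mul, h.fix (h.comm_mem hy hz) (h.cen hx),
    (h.f4.comm (h.comm_mem hy hz) (h.comm_mem hx hz)).eq]

variable {u : G} (hu : u ∈ S) (nu : u ∉ A)
include hu nu

theorem exists_cj_eq {a : G} (ha : a ∈ A) : ∃ w ∈ S, w * u * w⁻¹ = a * u := by
  obtain ⟨w, hw, e⟩ := h.full u hu nu a ha
  refine ⟨w, hw, ?_⟩
  rw [← h.f4.inv_eq ha, ← e, commutatorElement_inv, commutatorElement_def, inv_mul_cancel_right]

theorem card_cent : 𝐨((𝐂[u] ⊓ S : Subgroup G)) = 16 := by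
  have h1 := H1.card_inf_mul_relIndex 𝐂[u] S
  have : {c | ∃ y ∈ S, y * u * y⁻¹ = c} = (· * u) '' (A : Set G) := by
    ext c
    refine ⟨fun ⟨y, hy, e⟩ => ⟨_, h.comm_mem hy hu, ?_⟩, fun ⟨a, ha, e⟩ => e ▸ h.exists_cj_eq hu nu ha⟩
    exact (inv_mul_cancel_right _ _).trans e
  rw [← P6.ncard_class, this, Set.ncard_image_of_injective _ (mul_left_injective u), h.card,
    show (A : Set G).ncard = 4 from h.cardA] at h1
  omega

theorem pa {W : Subgroup G} (ho : Odd 𝐨(W)) (hn : W ≤ 𝐍(S)) (hA : W ≤ 𝐂(A)) (hW : W ≤ 𝐂[u]) :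
    W ≤ 𝐂(S) := by
  have h1 : ⁅S, W⁆ ≤ 𝐂[u] ⊓ S := commutator_le.2 fun x hx e he => by
    refine ⟨mem_cent1_iff_commute.2 (commutatorElement_eq_one_iff_commute.1 ?_),
      P7.comm_mem_left (hn he) hx⟩
    have e1 : ⁅u, e * x⁻¹ * e⁻¹⁆ = ⁅u, x⁻¹⁆ := by
      rw [← h.fix (h.comm_mem hu (inv_mem hx)) (hA he), conjugate_commutatorElement,
        mem_cent1_iff_conj.1 (hW he)]
    rw [show ⁅x, e⁆ = x * (e * x⁻¹ * e⁻¹) by rw [commutatorElement_def]; group,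
      h.cr hu hx (P7.cjm (hn he) (inv_mem hx)), e1, ← h.cr hu hx (inv_mem hx), mul_inv_cancel,
      commutatorElement_one_right]
  have c16 := h.card_cent hu nu
  set D := 𝐂[u] ⊓ S
  have nD : W ≤ 𝐍(D) := H1.le_normalizer_inf (hW.trans le_normalizer) hn
  have lt : A < 𝐂(W) ⊓ D := lt_of_le_of_ne (le_inf (le_centralizer_iff.1 hA) (le_inf
    (fun a ha => mem_cent1_iff_commute.2 (h.commute ha hu).symm) h.le)) fun e =>
      nu (e.ge ⟨mem_cent_iff_cent1.2 hW, self_mem_cent1 u, hu⟩)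
  have h2 : ⁅D, W⁆ ≤ 𝐂(W) := commutator_le.2 fun x hx e he => by
    have k1 := H1.card_lt_of_lt lt
    have k2 := H1.card_inf_mul_relIndex 𝐂(W) D
    rw [h.cardA] at k1
    rw [c16] at k2
    have c : ∀ y ∈ 𝐂(W), ∀ e ∈ W, e * y * e⁻¹ = y := fun y hy e he => by
      rw [mem_centralizer_iff.1 hy e he, mul_inv_cancel_right]
    by_cases hc : x ∈ 𝐂(W)
    · rw [commutatorElement_def, mul_assoc, mul_assoc, ← mul_assoc e, c _ (inv_mem hc) e he,
        mul_inv_cancel]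
      exact one_mem _
    have i2 : ((𝐂(W)).subgroupOf D).index = 2 := by
      change (𝐂(W)).relIndex D = 2
      have : (𝐂(W)).relIndex D ≠ 1 := fun e => hc (relIndex_eq_one.1 e hx)
      have k3 : (𝐂(W)).relIndex D < 4 := by nlinarith
      interval_cases (𝐂(W)).relIndex D <;> omega
    have := (mul_mem_iff_of_index_two i2 (a := ⟨x, hx⟩) (b := ⟨_, P7.cjm (nD he) (inv_mem hx)⟩)).2
      (iff_of_false hc fun k => hc (by
        have := c (e * x⁻¹ * e⁻¹) k e⁻¹ (inv_mem he)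
        rw [← inv_mem_iff, show x⁻¹ = e * x⁻¹ * e⁻¹ from Eq.trans (by group) this]
        exact k))
    rw [commutatorElement_def, mul_assoc, mul_assoc, ← mul_assoc e]
    exact this
  have e := H1.commutator_commutator_eq hn (P7.cop_two_odd h.two ho).symm
  rw [le_centralizer_iff, ← comm_eq_bot_iff, ← e, comm_eq_bot_iff, ← e]
  exact (commutator_mono h1 le_rfl).trans h2

theorem exists_pair {t : G} (ht : t ∈ A) (t1 : t ≠ 1) :
    ∃ y ∈ S, ∃ c ∈ S, ⁅u, y⁆ ∈ zpowers t ∧ ⁅u, c⁆ ∈ zpowers t ∧ ⁅y, c⁆ ∉ zpowers t := by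
  obtain ⟨s, hs, s1, st⟩ := h.f4.exists_ne t
  have ns : s ∉ zpowers t := fun k => ((P7.mem_zpowers_invol (h.sqA ht)).1 k).elim s1 st
  have k2 : ∀ a ∈ A, a ∉ zpowers t → a * s ∈ zpowers t := fun a ha k => by
    rcases h.f4.mem_cases ht hs t1 s1 st.symm ha with rfl | rfl | rfl | rfl
    · exact absurd (one_mem _) k
    · exact absurd (mem_zpowers _) k
    · exact h.sqA hs ▸ one_mem _
    · rw [mul_assoc, h.sqA hs, mul_one]; exact mem_zpowers t
  obtain ⟨x, hx, nx⟩ : ∃ x ∈ 𝐂[u] ⊓ S, x ∉ A ∧ u * x ∉ A := by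
    by_contra! k
    have sub : ((𝐂[u] ⊓ S : Subgroup G) : Set G) ⊆ A ∪ (u⁻¹ * ·) '' (A : Set G) := fun x hx => by
      by_cases e : x ∈ A
      · exact .inl e
      · exact .inr ⟨_, k x hx e, by simp⟩
    have := (Set.ncard_le_ncard sub).trans (Set.ncard_union_le _ _)
    rw [Set.ncard_image_of_injective _ (mul_right_injective _), show (A : Set G).ncard = 4 from
      h.cardA, show ((𝐂[u] ⊓ S : Subgroup G) : Set G).ncard = 16 from h.card_cent hu nu] at this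
    omega
  obtain ⟨w, hw, e⟩ := h.full u hu nu s hs
  obtain ⟨y, hy, ny, k⟩ : ∃ y ∈ 𝐂[u] ⊓ S, y ∉ A ∧ ⁅y, w⁆ ∈ zpowers t := by
    by_cases c : ⁅x, w⁆ ∈ zpowers t
    · exact ⟨x, hx, nx.1, c⟩
    refine ⟨u * x, mul_mem ⟨self_mem_cent1 u, hu⟩ hx, nx.2, ?_⟩
    rw [h.cl hu hx.2 hw, e, (h.f4.comm hs (h.comm_mem hx.2 hw)).eq]
    exact k2 _ (h.comm_mem hx.2 hw) c
  have uy : ⁅u, y⁆ ∈ zpowers t := by
    rw [commutatorElement_eq_one_iff_commute.2 (mem_cent1_iff_commute.1 hy.1)]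
    exact one_mem _
  obtain ⟨v, hv, f⟩ := h.full y hy.2 ny s hs
  by_cases c : ⁅u, v⁆ ∈ zpowers t
  · exact ⟨y, hy.2, v, hv, uy, c, f ▸ ns⟩
  refine ⟨y, hy.2, v * w, mul_mem hv hw, uy, ?_, ?_⟩
  · rw [h.cr hu hv hw, e]
    exact k2 _ (h.comm_mem hu hv) c
  · rw [h.cr hy.2 hv hw, f]
    exact fun m => ns ((mul_mem_cancel_right k).1 m)

end US

namespace UH

variable [IsSimpleGroup G] {S A : Subgroup G} (h : UH S A) {t : G} (ht : t ∈ A) (t1 : t ≠ 1)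
include h ht t1

theorem count : {x | x ∈ S ∧ x * x = t}.ncard ≤ 20 := by
  obtain ⟨s, hs, s1, st⟩ := h.f4.exists_ne t
  have k : ∀ a ∈ A, a ≠ 1 → {x | x ∈ S ∧ x * x = a}.ncard = {x | x ∈ S ∧ x * x = t}.ncard := by
    intro a ha a1
    obtain ⟨g, hg, rfl⟩ := h.exists_conj ht t1 ha a1
    rw [← Set.ncard_image_of_injective {x | x ∈ S ∧ x * x = t} (MulAut.conj g).injective]
    congr 1
    ext x
    refine ⟨fun ⟨h1, h2⟩ => ⟨g⁻¹ * x * g⁻¹⁻¹, ⟨P7.cjm (inv_mem hg) h1, ?_⟩, by simp [mul_assoc]⟩, ?_⟩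
    · rw [conj_mul, h2]; group
    · rintro ⟨y, ⟨h1, rfl⟩, rfl⟩
      exact ⟨P7.cjm hg h1, conj_mul⟩
  have ts1 := h.f4.mul_ne_one hs st.symm
  have sub : {x | x ∈ S ∧ x * x = t} ∪ {x | x ∈ S ∧ x * x = s} ∪ {x | x ∈ S ∧ x * x = t * s} ∪ A ⊆
      S := by
    rintro x (((k | k) | k) | k)
    exacts [k.1, k.1, k.1, h.le k]
  have := Set.ncard_le_ncard sub
  rw [Set.ncard_union_eq, Set.ncard_union_eq, Set.ncard_union_eq, k s hs s1,
    k _ (mul_mem ht hs) ts1, show (A : Set G).ncard = 4 from h.cardA,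
    show (S : Set G).ncard = 64 from h.card] at this
  · omega
  · exact Set.disjoint_left.2 fun x a b => st (b.2.symm.trans a.2)
  · refine Set.disjoint_left.2 ?_
    rintro x (a | a) b
    · exact s1 (by simpa using a.2.symm.trans b.2)
    · exact t1 (by simpa using a.2.symm.trans b.2)
  · refine Set.disjoint_left.2 ?_
    rintro x ((a | a) | a) b
    exacts [t1 (a.2.symm.trans (h.sqA b)), s1 (a.2.symm.trans (h.sqA b)),
      ts1 (a.2.symm.trans (h.sqA b))]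

variable {u : G} (hu : u ∈ S) (e : u * u = t)
include hu e

theorem nu : u ∉ A := fun k => t1 (e.symm.trans (h.sqA k))

theorem cu_le : 𝐂[u] ≤ 𝐂[t] := fun _ hx => mem_cent1_iff_commute.2
  (e ▸ (mem_cent1_iff_commute.1 hx).mul_left (mem_cent1_iff_commute.1 hx))

theorem index16 : (Od 𝐂[t]).relIndex 𝐂[u] = 16 := by
  have X1 := h.cent1_ne_top ht t1
  have hS := h.le_cent1 ht
  have nu := h.nu ht t1 hu e
  have cu := h.cu_le ht t1 hu e
  have n0 : 𝐂[t] ⊓ 𝐍(S) ≤ 𝐂(A) := (inf_le_inf_left _ h.norm_le).trans (h.t0 ht t1 X1 le_rfl)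
  have h1 : 𝐂[u] ⊓ 𝐍(S) ≤ Od 𝐂[t] ⊔ 𝐂[u] ⊓ S := H1.le_of_forall_isPGroup_le fun p hp P hP pP _ => by
    by_cases p2 : p = 2
    · subst p2
      exact le_sup_of_le_right (le_inf (hP.trans inf_le_left)
        (h.syl.le_of_norm hp pP le_top (hP.trans inf_le_right)))
    have ho := P6.odd_of_isPGroup hp p2 pP
    exact le_sup_of_le_left (h.le_Od X1 hS (hP.trans (inf_le_left.trans cu)) ho
      ((le_centralizer_iff.1 (h.pa hu nu ho (hP.trans inf_le_right) ((hP.trans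
        (inf_le_inf_right _ cu)).trans n0) (hP.trans inf_le_left))).trans (cent_le_norm P)))
  have h2 : 𝐂[u] ≤ Od 𝐂[t] ⊔ 𝐂[u] ⊓ S := fun g hg => by
    obtain ⟨o, ho, n, hn, rfl⟩ := (mem_sup_of_norm (inf_le_left.trans (P7.le_norm_Od _))).1
      (h.loc _ X1 hS (cu hg))
    refine mul_mem (mem_sup_left ho) (h1 ⟨mem_cent1_iff_conj.2 (mul_inv_eq_one.1
      (h.eq_one (P6.odd_Od 𝐂[t]) (mul_mem (P7.cjm hn.2 hu) (inv_mem hu)) ?_)), hn.2⟩)
    have : n * u * n⁻¹ * u⁻¹ = ⁅o⁻¹, u⁆ := by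
      rw [commutatorElement_def]
      conv_rhs => enter [1, 1, 2]; rw [← mem_cent1_iff_conj.1 hg]
      group
    exact this ▸ P7.comm_mem_left (P7.le_norm_Od _ (hS hu)) (inv_mem ho)
  have nU := cu.trans (P7.le_norm_Od 𝐂[t])
  rw [← relIndex_sup_of_norm nU, le_antisymm (sup_le le_sup_left h2)
    (sup_le_sup_left inf_le_left _), relIndex_sup_of_norm (inf_le_left.trans nU),
    ← inf_relIndex_right, (eq_bot_iff (a := Od 𝐂[t] ⊓ (𝐂[u] ⊓ S))).2 fun x hx =>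
      mem_bot.2 (h.eq_one (P6.odd_Od _) hx.2.2 hx.1), relIndex_bot_left, h.card_cent hu nu]

theorem index320 : (Od 𝐂[t]).relIndex 𝐂[t] ≤ 320 := by
  have nU := P7.le_norm_Od 𝐂[t]
  have h1 : (𝐂[u]).relIndex (𝐂[t] ⊓ 𝐍(S)) ≤ 20 := by
    rw [← P6.ncard_class]
    refine (Set.ncard_le_ncard ?_).trans (h.count ht t1)
    rintro _ ⟨y, hy, rfl⟩
    exact ⟨P7.cjm hy.2 hu, by rw [conj_mul, e, mem_cent1_iff_conj.1 hy.1]⟩
  have h2 : (Od 𝐂[t]).relIndex (𝐂[u] ⊓ (𝐂[t] ⊓ 𝐍(S))) ≤ 16 := h.index16 ht t1 hu e ▸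
    relIndex_le_of_le_right inf_le_left (by rw [h.index16 ht t1 hu e]; omega)
  conv_lhs => arg 2; rw [le_antisymm (h.loc _ (h.cent1_ne_top ht t1) (h.le_cent1 ht))
    (sup_le (P7.Od_le _) inf_le_left)]
  rw [relIndex_sup_of_norm (inf_le_left.trans nU)]
  refine (Nat.le_of_dvd ?_ (relIndex_dvd_of_le_left _ (inf_le_left (b := 𝐂[u])))).trans ?_
  · exact Nat.pos_of_ne_zero index_ne_zero_of_finite
  rw [← relIndex_inf_mul_relIndex]
  exact (Nat.mul_le_mul h2 h1).trans (by norm_num)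

theorem big {p : ℕ} (hp : p.Prime) (hV : ¬ pCoreOf p 𝐂[t] ≤ 𝐂(A)) : 625 ≤ 𝐨(pCoreOf p 𝐂[t]) := by
  haveI := Fact.mk hp
  obtain ⟨s, hs, s1, st⟩ := h.f4.exists_ne t
  have nu := h.nu ht t1 hu e
  have inv := fun a ha a1 => h.inverts ht t1 hp hV (s := a) ha a1
  have nV := (h.le_cent1 ht).trans (H2.le_normalizer_pCoreOf p 𝐂[t])
  have pV := H2.isPGroup_pCoreOf p 𝐂[t]
  have oV := P6.odd_of_isPGroup hp (h.p2 ht t1 hp hV) pV
  have Vt := H2.pCoreOf_le p 𝐂[t]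
  generalize pCoreOf p 𝐂[t] = V at *
  have one : ∀ a ∈ A, a ≠ 1 → a ≠ t → ∀ z ∈ V, z ∈ 𝐂[a] → z = 1 := fun a ha a1 ta z hz c => by
    have := inv a ha a1 ta z hz
    rw [(mem_cent1_iff_commute.1 c).eq, mul_assoc, h.sqA ha, mul_one, eq_inv_iff_mul_eq_one] at this
    exact P5.eq_one_of_odd oV hz this
  have ab : V ≤ 𝐂(V) := fun x hx => mem_centralizer_iff.2 fun y hy => inv_injective (by
    rw [← inv s hs s1 st _ (mul_mem hy hx), mul_inv_rev, ← inv s hs s1 st x hx,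
      ← inv s hs s1 st y hy, mul_assoc, mul_assoc, mul_assoc, mul_assoc, mul_assoc, ← mul_assoc s s,
      h.sqA hs, one_mul])
  obtain ⟨w, hw, ew⟩ := h.exists_cj_eq hu nu hs
  have cw : (V ⊓ 𝐂[u]) ^ᵍ w = V ⊓ 𝐂[s * u] := by
    rw [conj_inf, conj_eq_self_iff.2 (nV hw), ← cent1_conj, ew]
  have nc : ¬ IsCyclic (V ⊓ 𝐂[u] : Subgroup G) := fun c => hV fun z hz => by
    obtain ⟨y, hy, x, hx, k1, k2, k3⟩ := h.exists_pair hu nu ht t1
    have n : ∀ y ∈ S, ⁅u, y⁆ ∈ zpowers t → y ∈ 𝐍((V ⊓ 𝐂[u] : Subgroup G)) := fun y hy k =>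
      inv_mem_iff.1 (mem_norm_of_conj_le fun a ha => by
        obtain ⟨b, hb, rfl⟩ := mem_conj'.1 ha
        refine ⟨P7.cjm (nV (inv_mem hy)) hb.1, ?_⟩
        have : b ∈ 𝐂[y * u * y⁻¹] := by
          rw [show y * u * y⁻¹ = ⁅u, y⁆⁻¹ * u by rw [commutatorElement_def]; group]
          exact mem_cent1_comm.1 (mul_mem (inv_mem (zpowers_le.2 (mem_cent1_comm.1 (Vt hb.1)) k))
            (mem_cent1_comm.1 hb.2))
        rw [cent1_conj] at this
        simpa using mem_conj.1 this)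
    have b0 : ∀ a ∈ V ⊓ 𝐂[u], a = 1 := fun a ha => one _ (h.comm_mem hy hx)
      (fun k => k3 (k ▸ one_mem _)) (fun k => k3 (k ▸ mem_zpowers _)) a ha.1
      (mem_cent_iff_cent1.1 (H6.commutatorElement_mem_centralizer_of_isCyclic (n y hy k1)
        (n x hx k2)) ha)
    have b1 : ∀ a ∈ V ⊓ 𝐂[s * u], a = 1 := fun a ha => by
      rw [← cw] at ha
      obtain ⟨b, hb, rfl⟩ := mem_conj'.1 ha
      simp [b0 b hb]
    have key : ∀ v ∈ S, v * v = t → ∀ z ∈ V, z * (v * z * v⁻¹) ∈ V ⊓ 𝐂[v] := fun v hv vv z hz => by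
      have m := P7.cjm (nV hv) hz
      refine ⟨mul_mem hz m, mem_cent1_comm.1 (mem_cent1_iff_conj.2 ?_)⟩
      rw [← conj_mul, ← mem_centralizer_iff.1 (ab hz) _ m]
      congr 1
      calc v * (v * z * v⁻¹) * v⁻¹ = v * v * z * (v * v)⁻¹ := by group
        _ = z := by rw [vv, (mem_cent1_iff_commute.1 (Vt hz)).eq, mul_inv_cancel_right]
    have c1 := b0 _ (key u hu e z hz)
    have c2 := b1 _ (key (s * u) (mul_mem (h.le hs) hu) (by
      rw [← ew, conj_mul, e, h.fix ht (h.cen hw)]) z hz)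
    rw [mul_inv_rev, h.f4.inv_eq hs, show s * u * z * (u⁻¹ * s) = s * (u * z * u⁻¹) * s by group,
      inv s hs s1 st _ (P7.cjm (nV hu) hz), mul_inv_eq_one] at c2
    rw [← c2] at c1
    exact P5.eq_one_of_odd oV hz c1 ▸ one_mem _
  have p5 : 5 ≤ p := by
    have := hp.two_le
    have p2 := h.p2 ht t1 hp
    have p3 : p ≠ 3 := by
      rintro rfl
      obtain ⟨x, hx⟩ := exists_prime_orderOf_dvd_card' 3 (prime_dvd_card_of_isPGroup hp pV
        fun e => hV (e ▸ bot_le))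
      have := h.i3 x s (by rw [← coe_pow, ← hx, pow_orderOf_eq_one, coe_one])
        (by rw [h.f4.inv_eq hs, inv s hs s1 st x x.2])
      rw [show x = 1 from Subtype.ext this, orderOf_one] at hx
      omega
    have p4 : p ≠ 4 := by rintro rfl; exact absurd hp (by decide)
    have : p ≠ 2 := by rintro rfl; exact hV fun z hz =>
      P7.eq_one_of_two_odd pV oV hz hz ▸ one_mem _
    omega
  have c25 : 25 ≤ 𝐨((V ⊓ 𝐂[u] : Subgroup G)) := by
    obtain ⟨k, hk⟩ := IsPGroup.iff_card.1 (pV.to_le (inf_le_left (b := 𝐂[u])))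
    by_cases c : k ≤ 1
    · exact absurd (isCyclic_of_card_dvd_prime (p := p) (hk ▸ (pow_dvd_pow p c).trans
        (pow_one p).dvd)) nc
    rw [hk]
    exact (Nat.pow_le_pow_left p5 2).trans (Nat.pow_le_pow_right hp.pos (not_le.1 c))
  have := card_le_of_le (sup_le inf_le_left inf_le_left : V ⊓ 𝐂[u] ⊔ V ⊓ 𝐂[s * u] ≤ V)
  rw [H1.card_sup_of_inf_eq_bot ((inf_le_left.trans (ab.trans (cent_anti inf_le_left))).trans
    (cent_le_norm _)) (eq_bot_iff.2 fun z hz => one s hs s1 st z hz.1.1 (mem_cent1_comm.1 (by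
      simpa using mul_mem (mem_cent1_comm.1 hz.2.2) (inv_mem (mem_cent1_comm.1 hz.1.2))))),
    ← cw, card_conj] at this
  nlinarith

end UH

theorem simpleStmt : SimpleStmt.{u} := by
  intro G _ _ _ S A h
  obtain ⟨u, hu, nu⟩ := SetLike.not_le_iff_exists.1 fun k : S ≤ A => by
    have := card_le_of_le k
    rw [h.card, h.cardA] at this
    omega
  have ht := h.sq u hu
  have t1 : u * u ≠ 1 := fun k => nu ((h.inv u hu).1 k)
  obtain ⟨p, hp, hV⟩ := h.b2 ht t1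
  have p2 := h.p2 ht t1 hp hV
  have pV := H2.isPGroup_pCoreOf p 𝐂[u * u]
  have cu := h.cu_le ht t1 hu rfl
  obtain ⟨w, hw, e⟩ := h.exists_cj_eq hu nu ht
  have u4 : u ^ 2 ^ 2 = 1 := by rw [← h.sqA ht]; norm_num [pow_succ, mul_assoc]
  have sec : Sec u (Od 𝐂[u * u] ⊓ 𝐂[u]) := ⟨fun k => nu (k ▸ one_mem A), u4,
    ⟨inf_le_right, H1.le_normalizer_inf (cu.trans (P7.le_norm_Od _)) le_normalizer⟩,
    Nat.coprime_two_right.2 (P6.odd_of_le inf_le_left (P6.odd_Od _))⟩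
  refine char_false hp p2 (h.sqA ht) (g := w) ⟨t1, by rw [pow_two, pow_mul, pow_two (u * u),
    h.sqA ht, one_pow], ⟨P7.Od_le _, P7.le_norm_Od _⟩, Nat.coprime_two_right.2 (P6.odd_Od _)⟩
    (h.index320 ht t1 hu rfl) (h.le_Od (h.cent1_ne_top ht t1) (h.le_cent1 ht) (H2.pCoreOf_le p _)
      (P6.odd_of_isPGroup hp p2 pV) ((h.le_cent1 ht).trans (H2.le_normalizer_pCoreOf p _))) pV
    (h.big ht t1 hu rfl hp hV) (fun y hy y1 => h.hu ht t1 hp hV hy y1) sec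
    (by rw [inf_relIndex_right, h.index16 ht t1 hu rfl]; rfl)
    (by rw [e, eq_inv_iff_mul_eq_one, mul_assoc, h.sqA ht]) fun a b k => t1 ?_
  have k1 := sec.pow_eq k
  rw [mul_inv_cancel_left] at k1
  have xx := P7.sq_cj (h.sqA ht) a
  have yy := P7.sq_cj (h.sqA ht) b
  generalize a * (u * u) * a⁻¹ = x at *
  generalize b * (u * u) * b⁻¹ = y at *
  have k2 : x * u * x = u⁻¹ := by
    rw [← k1]
    refine P6.inverts_pow xx ?_ _
    rw [← mul_assoc, xx, one_mul, mul_inv_rev, P5.inv_eq_of_sq xx, P5.inv_eq_of_sq yy]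
  have n : zpowers x ≤ 𝐍(zpowers u) := zpowers_le.2 (mem_norm_of_conj_le (by
    rw [← zpowers_conj, P5.inv_eq_of_sq xx, k2, zpowers_inv]))
  have := h.commute_two ((P7.two_zpowers xx).to_sup_of_normal_right' (h.two.to_le (zpowers_le.2 hu))
    n) (mem_sup_left (mem_zpowers x)) xx (mem_sup_right (mem_zpowers u))
  rwa [this.eq, mul_assoc, xx, mul_one, eq_inv_iff_mul_eq_one] at k2

end Cfsg.Agent.P18.U
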