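/-
A simple group without real elements of order three has no Sylow 2-subgroup of type `U₃(4)`.
-/
import Cfsg.Agent.P18.U5
import Cfsg.Agent.P10.Q3

set_option autoImplicit false
set_option linter.unusedSectionVars false
set_option linter.style.haveILetI false

namespace Cfsg.Agent.P18.U

open Subgroup Cfsg Cfsg.Agent Cfsg.Agent.FT
open Cfsg.Agent.P6 (Inv Od)
open Cfsg.Agent.P14.St (I3)
open scoped commutatorElement

universe u

variable {G : Type u} [Group G] [Finite G]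

theorem norm_eq_one {S : Subgroup G} {d : G} (hd : d ∈ 𝐍(S)) (h3 : d ^ 3 ∈ 𝐂(S))
    (hf : ∀ x ∈ S, d * x * d⁻¹ = x → x = 1) {x : G} (hx : x ∈ S) :
    x * (d * x * d⁻¹) * (d * (d * x * d⁻¹) * d⁻¹) = 1 := by
  let f : S → S := fun y => ⟨(y : G)⁻¹ * (d * y * d⁻¹), mul_mem (inv_mem y.2) (P7.cjm hd y.2)⟩
  have hi : Function.Injective f := fun y z e => Subtype.ext (mul_inv_eq_one.1
    (hf _ (mul_mem y.2 (inv_mem z.2)) (by
      have e' : (y : G)⁻¹ * (d * y * d⁻¹) = (z : G)⁻¹ * (d * z * d⁻¹) := congrArg Subtype.val e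
      calc d * (y * (z : G)⁻¹) * d⁻¹ = y * ((y : G)⁻¹ * (d * y * d⁻¹)) * (d * z * d⁻¹)⁻¹ := by group
        _ = _ := by rw [e']; group)))
  obtain ⟨y, hy⟩ := Finite.injective_iff_surjective.1 hi ⟨x, hx⟩
  obtain rfl : (y : G)⁻¹ * (d * y * d⁻¹) = x := congrArg Subtype.val hy
  calc _ = (y : G)⁻¹ * (d ^ 3 * y) * (d ^ 3)⁻¹ := by rw [pow_succ, pow_two]; group
    _ = 1 := by rw [← mem_centralizer_iff.1 h3 y y.2]; group

theorem four_le {T A : Subgroup G} {x : G} (h4 : 𝐨(A) = 4) (h : ∀ a ∈ A, ∃ w ∈ T, ⁅w, x⁆ = a) :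
    𝐨((𝐂[x] ⊓ T : Subgroup G)) * 4 ≤ 𝐨(T) := by
  rw [← H1.card_inf_mul_relIndex 𝐂[x] T, ← P6.ncard_class, ← show (A : Set G).ncard = 4 from h4,
    ← Set.ncard_image_of_injective _ (mul_left_injective x)]
  refine Nat.mul_le_mul_left _ (Set.ncard_le_ncard ?_)
  rintro _ ⟨a, ha, rfl⟩
  obtain ⟨w, hw, rfl⟩ := h a ha
  exact ⟨w, hw, (inv_mul_cancel_right _ _).symm⟩

theorem us_of {S A : Subgroup G} (hS : IsSyl 2 S ⊤) (hA : ∀ x, x ∈ A ↔ x ∈ S ∧ x * x = 1)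
    (hc : S ≤ 𝐂(A)) (h4 : 𝐨(A) = 4) (na : ¬ IsMulCommutative S) (tri : ¬ 𝐍(S) ≤ 𝐂(A)) : US S A := by
  have le : A ≤ S := fun x hx => ((hA x).1 hx).1
  have f4 : F4 A := ⟨h4, fun x hx => ((hA x).1 hx).2, fun k => (hS.of_le (hc.trans (cent_le_norm A))
    le_top).ndvd (k.trans (relIndex_dvd_of_le_left _ hc))⟩
  have nA : 𝐍(S) ≤ 𝐍(A) := fun g hg => mem_norm_of_conj_le fun a ha => by
    obtain ⟨b, hb, rfl⟩ := mem_conj'.1 ha
    exact (hA _).2 ⟨P7.cjm hg (le hb), P7.sq_cj (f4.sq b hb) g⟩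
  obtain ⟨d, hd, nd, m, om⟩ : ∃ d ∈ 𝐍(S), d ∉ 𝐂(A) ∧ ∃ m, orderOf d = 3 ^ m := by
    by_contra! k
    refine tri (H1.le_of_forall_isPGroup_le fun p hp P hP pP _ d hd => of_not_not fun nd => ?_)
    haveI := Fact.mk hp
    obtain ⟨m, hm⟩ := H8.exists_orderOf_eq_pow_of_mem pP hd
    by_cases e : p = 3
    · exact k d (hP hd) nd m (e ▸ hm)
    · exact nd (H8.mem_of_pow_mem_of_coprime (hm ▸ ((Nat.coprime_primes hp Nat.prime_three).2
        e).pow_left m) (f4.cube (nA (hP hd))))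
  have H : P10.Q.Hig S A d 3 := ⟨Nat.prime_three, by decide, hS.pgrp, hd, hA, hc, h4,
    fun a ha a1 b hb b1 => f4.exists_conj (nA hd) nd ha a1 hb b1⟩
  have sq := H.sq_mem om (f4.cube (nA hd)) na
  have N := fun x => norm_eq_one (x := x) hd (H.pow_cent om (f4.cube (nA hd))) fun x hx e =>
    of_not_not fun x1 => by
      obtain ⟨t, ht, t1, tt⟩ := P10.Q.exists_invol_pow (hS.pgrp.to_le (zpowers_le.2 hx)) x1
      exact t1 (H.fix ((hA t).2 ⟨zpowers_le.2 hx ht, tt⟩) (mem_cent1_comm.1 (zpowers_le.2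
        (mem_cent1_comm.1 (mem_cent1_iff_conj.2 e)) ht)))
  have cj : ∀ {x}, x ∈ S → d * x * d⁻¹ ∈ S := P7.cjm hd
  have cm : ∀ {x y}, x ∈ S → y ∈ S → ⁅x, y⁆ ∈ A := P2.comm_mem_of_sq_mem sq
  have fix : ∀ {a x}, a ∈ A → x ∈ S → x * a * x⁻¹ = a := fun ha hx =>
    mem_cent1_iff_conj.1 (cent_le_cent1 ha (hc hx))
  have cr : ∀ {x y z}, x ∈ S → y ∈ S → z ∈ S → ⁅x, y * z⁆ = ⁅x, y⁆ * ⁅x, z⁆ := fun hx hy hz => by
    rw [P2.comm_mul_right, fix (cm hx hz) hy]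
  have sy : ∀ {x y}, x ∈ S → y ∈ S → ⁅x, y⁆ = ⁅y, x⁆ := fun hx hy => by
    rw [← commutatorElement_inv, f4.inv_eq (cm hy hx)]
  have c0 : ∀ {x}, x ∈ S → ⁅x, d * x * d⁻¹⁆ = 1 := fun {x} hx => by
    have h1 := N x hx
    have h2 := N x⁻¹ (inv_mem hx)
    rw [← conj_inv, ← conj_inv, ← mul_inv_rev, ← mul_inv_rev, inv_eq_one, mul_eq_one_comm] at h2
    exact commutatorElement_eq_one_iff_mul_comm.2 (mul_right_cancel (h1.trans h2.symm))
  have c1 : ∀ {x y}, x ∈ S → y ∈ S → ⁅x, d * y * d⁻¹⁆ = ⁅d * x * d⁻¹, y⁆ := fun {x y} hx hy => by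
    have := c0 (mul_mem hx hy)
    rw [← conj_mul, cr (mul_mem hx hy) (cj hx) (cj hy), sy (mul_mem hx hy), sy (mul_mem hx hy),
      cr (cj hx) hx hy, cr (cj hy) hx hy, sy (cj hx) hx, sy (cj hy) hy, c0 hx, c0 hy, one_mul,
      mul_one, mul_eq_one_iff_eq_inv, f4.inv_eq (cm (cj hy) hx)] at this
    rw [this]
    exact sy hx (cj hy)
    exacts [cj hy, cj hx]
  have c2 : ∀ {x y}, x ∈ S → y ∈ S → ⁅x, d * (d * y * d⁻¹) * d⁻¹⁆ = d * ⁅x, y⁆ * d⁻¹ :=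
    fun hx hy => by rw [c1 hx (cj hy), conjugate_commutatorElement]
  have onto : ∀ {x y}, x ∈ S → y ∈ S → ⁅x, y⁆ ≠ 1 → ∀ a ∈ A, ∃ w ∈ 𝐂[y] ⊓ S, ⁅x, w⁆ = a :=
    fun {x y} hx hy n a ha => by
    have t := f4.tri (nA hd) nd (cm hx hy) n
    have m1 : d * (d * y * d⁻¹) * d⁻¹ ∈ 𝐂[y] ⊓ S := ⟨mem_cent1_iff_commute.2
      (commutatorElement_eq_one_iff_commute.1 (by rw [c2 hy hy]; simp)), cj (cj hy)⟩
    have m0 : y ∈ 𝐂[y] ⊓ S := ⟨self_mem_cent1 y, hy⟩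
    rcases f4.mem_cases (cm hx hy) (F4.conj_mem (nA hd) (cm hx hy)) n
      (fun e => n (by simpa using e)) t.1.symm ha with e | e | e | e
    · exact ⟨1, one_mem _, by simp [e]⟩
    · exact ⟨y, m0, e.symm⟩
    · exact ⟨_, m1, e ▸ c2 hx hy⟩
    · exact ⟨_, mul_mem m0 m1, by rw [cr hx hy m1.2, c2 hx hy, e]⟩
  obtain ⟨x, hx, y, hy, n⟩ : ∃ x ∈ S, ∃ y ∈ S, ⁅x, y⁆ ≠ 1 := by
    by_contra! k
    exact na ⟨⟨fun a b => Subtype.ext (commutatorElement_eq_one_iff_mul_comm.1 (k a a.2 b b.2))⟩⟩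
  have b1 := H7.card_le_of_sq_mem (A.subgroupOf S) (A.subgroupOf S)
    (fun a ha => mem_center_iff.2 fun g => Subtype.ext (hc g.2 a ha).symm)
    (fun a ha => Subtype.ext (by simpa [pow_two] using ((hA _).1 ha).2))
    (fun x => by simpa [mem_subgroupOf, pow_two] using sq x x.2) fun x hx => (hA _).2
      ⟨x.2, by simpa [pow_two] using congrArg Subtype.val hx⟩
  rw [H2.card_subgroupOf_of_le le, h4] at b1
  have b2 := four_le (T := S) (x := y) h4 fun a ha => by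
    obtain ⟨w, hw, e⟩ := onto hy hx (sy hx hy ▸ n) a ha
    exact ⟨w, hw.2, sy hy hw.2 ▸ e⟩
  have b3 := four_le (T := 𝐂[y] ⊓ S) (x := x) h4 fun a ha => by
    obtain ⟨w, hw, e⟩ := onto hx hy n a ha
    exact ⟨w, hw, sy hx hw.2 ▸ e⟩
  have b4 : A ≤ 𝐂[x] ⊓ (𝐂[y] ⊓ S) := fun a ha => ⟨mem_cent1_comm.1 (cent_le_cent1 ha (hc hx)),
    mem_cent1_comm.1 (cent_le_cent1 ha (hc hy)), le ha⟩
  have b5 := card_le_of_le b4
  have b6 := H1.eq_of_le_of_card_le b4 (by omega)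
  refine ⟨hS, by omega, h4, le, hc, fun x hx => ⟨fun e => (hA x).2 ⟨hx, e⟩, f4.sq x⟩, sq,
    fun u hu nu a ha => ?_, fun x hx y hy nx _ e1 e2 => nx ?_⟩
  · obtain ⟨v, hv, k⟩ : ∃ v ∈ S, ⁅u, v⁆ ≠ 1 := by
      by_contra! k
      exact nu (b6.ge ⟨mem_cent1_iff_commute.2 (commutatorElement_eq_one_iff_commute.1
        (k x hx)).symm, mem_cent1_iff_commute.2 (commutatorElement_eq_one_iff_commute.1
        (k y hy)).symm, hu⟩)
    exact (onto hu hv k a ha).imp fun w hw => ⟨hw.1.2, hw.2⟩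
  have q : ∀ {x y}, x ∈ S → y ∈ S → x * y * (x * y) = x * x * (y * y) * ⁅x, y⁆ :=
    fun {x y} hx hy => by
    calc x * y * (x * y) = x * y * ⁅x, y⁆ * (x * y)⁻¹ * (x * y * (y * x)) := by
          rw [commutatorElement_def]; group
      _ = ⁅x, y⁆ * (x * (y * y) * x⁻¹ * (x * x)) := by rw [fix (cm hx hy) (mul_mem hx hy)]; group
      _ = _ := by
        rw [fix (sq y hy) hx, (f4.comm (sq y hy) (sq x hx)).eq,
          (f4.comm (cm hx hy) (mul_mem (sq x hx) (sq y hy))).eq]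
  have e3 : ⁅x, y⁆ = x * x := by rwa [q hx hy, ← e1, f4.sq _ (sq x hx), one_mul] at e2
  have e4 : ⁅x, d * y * d⁻¹⁆ = d * (d * (x * x) * d⁻¹) * d⁻¹ := by
    have := N y hy
    rw [← e3, ← c2 hx hy, ← c2 hx (cj (cj hy))]
    congr 1
    have h2 := N _ (cj (cj hy))
    have h1 := N _ (cj hy)
    rw [mul_assoc, mul_eq_one_comm] at h1
    exact mul_left_cancel (h1.trans h2.symm)
  have e5 : x * (d * y * d⁻¹) ∈ A := (hA _).2 ⟨mul_mem hx (cj hy), by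
    rw [q hx (cj hy), e4, conj_mul, ← e1]; exact N _ (mul_mem hx hx)⟩
  refine (hA x).2 ⟨hx, ?_⟩
  have := cr hy hx (cj hy)
  rwa [c0 hy, mul_one, sy hy hx, e3, commutatorElement_def, fix e5 hy, mul_inv_cancel,
    eq_comm] at this

/-- Chapter U: the Sylow 2-subgroup is not of type `U₃(4)`. -/
theorem uStmt [IsSimpleGroup G] (h3 : I3 G) {S A : Subgroup G} (hS : IsSyl 2 S ⊤)
    (hA : ∀ x, x ∈ A ↔ x ∈ S ∧ x * x = 1) (hc : S ≤ 𝐂(A)) (h4 : 𝐨(A) = 4) :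
    IsMulCommutative S := by
  by_contra na
  refine (us_of hS hA hc h4 na fun k => na ?_).false simpleStmt h3
  obtain ⟨c, hc', c1⟩ := (A.bot_or_exists_ne_one).resolve_left fun e => by
    rw [e, card_bot] at h4; omega
  have ic : Inv c := ⟨c1, ((hA c).1 hc').2⟩
  obtain ⟨P, rfl⟩ := hS.exists_sylow_top Nat.prime_two
  have z := P1.zstar_sylow P ic.orderOf_eq ((hA c).1 hc').1 fun g hg => by
    obtain ⟨n, hn, e⟩ := cent_fusion hS (hc.trans (cent_le_cent1 hc')) (mem_top g)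
      (hc.trans (cent_le_cent1 ((hA _).2 ⟨hg, (ic.conj g).sq⟩)))
    exact e.symm.trans (mem_cent1_iff_conj.1 (cent_le_cent1 hc' (k hn.2)))
  have o : pPrimeCore 2 G = ⊥ := (IsSimpleGroup.eq_bot_or_eq_top_of_normal _
    inferInstance).resolve_right fun e => c1 (P5.eq_one_of_odd
      (Nat.coprime_two_right.1 (L.coprime_card_pPrimeCore 2)) (e ▸ mem_top c) ic.sq)
  have hz : center G = ⊤ := (IsSimpleGroup.eq_bot_or_eq_top_of_normal _
    inferInstance).resolve_left fun e => c1 (mem_bot.1 (e ▸ mem_center_iff.2 fun g =>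
      (commutatorElement_eq_one_iff_mul_comm.1 (mem_bot.1 (o ▸ z g))).symm))
  exact ⟨⟨fun a b => Subtype.ext (mem_center_iff.1 (hz.ge (mem_top (b : G))) a)⟩⟩

end Cfsg.Agent.P18.U
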