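/-
P18, chapter B4 (b): existence of the configuration.
-/
import Cfsg.Agent.P18.B4D
import Cfsg.Agent.P18.U

set_option autoImplicit false
set_option linter.unusedSectionVars false

namespace Cfsg.Agent.P18.B4

open Subgroup Cfsg Cfsg.Agent Cfsg.Agent.FT
open Cfsg.Agent.P14 (SC norm_cent cjm cmr cml pow_two_pow two_zp exists_odd_pow)
open Cfsg.Agent.H2.ZC (oc)
open Cfsg.Agent.H7.SC (od od_le od_cop le_norm_od)
open scoped commutatorElement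

universe u

variable {G : Type u} [Group G] [Finite G]

theorem exists_sq {Z : Subgroup G} (k : ℕ) : ∀ y : G, y ^ 2 ^ k ∈ Z → y ∉ Z →
    ∃ x ∈ zpowers y, x ∉ Z ∧ x * x ∈ Z := by
  induction k with
  | zero => exact fun y h h' => absurd (by simpa using h) h'
  | succ k ih =>
    intro y h h'
    by_cases e : y * y ∈ Z
    · exact ⟨y, mem_zpowers y, h', e⟩
    obtain ⟨x, hx, h2⟩ := ih (y * y) (by rwa [← pow_two, ← pow_mul, ← pow_succ']) e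
    exact ⟨x, zpowers_le.2 (mul_mem (mem_zpowers y) (mem_zpowers y)) hx, h2⟩

theorem cent_ne {A S : Subgroup G} (h : Gl A S) {a : G} (h1 : a ≠ 1) : 𝐂[a] ≠ ⊤ := fun e => by
  rcases h.sim.eq_bot_or_eq_top_of_normal (zpowers a) (normal_iff_top_le.2
    (e.ge.trans ((cent_zpowers a).ge.trans (cent_le_norm _)))) with k | k
  · exact h1 (zpowers_eq_bot.1 k)
  · exact h.nc ⟨⟨fun x y => by
      obtain ⟨m, rfl⟩ := k.ge (mem_top x)
      exact Commute.zpow_left (mem_cent1.1 (e.ge (mem_top y))) m⟩⟩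

theorem two_le_cent {A P : Subgroup G} (f4 : U.F4 A) (sc : SC ⊤ A) (hP : IsPGroup 2 P) (hA : A ≤ P) :
    P ≤ 𝐂(A) := fun x hx => by
  obtain ⟨k, hk⟩ := pow_two_pow hP hx
  by_contra e
  obtain ⟨y, hy, h1, h2⟩ := exists_sq k x (hk ▸ one_mem 𝐂(A)) e
  exact h1 (f4.mem_cent_of_sq (sc.le_norm le_top hP hA (zpowers_le.2 hx hy)) h2)

theorem LF.sqs_le {A X T W : Subgroup G} {d : G} (h : LF A X T W d) (f4 : U.F4 A) (hc : T ≤ 𝐂(A)) :
    sqs T ≤ W := (closure_le _).2 (by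
  rintro _ ⟨x, hx, rfl⟩
  obtain ⟨a, ha, w, hw, rfl⟩ := (mem_sup_of_norm (h.le.trans (hc.trans (cent_le_norm A)))).1
    (h.sup.ge hx)
  rw [(show Commute w a from (hc (h.le hw) a ha).symm).mul_mul_mul_comm, f4.sq a ha, one_mul]
  exact W.mul_mem hw hw)

/-- `e` is an active involution. -/
structure Ai (A : Subgroup G) (e : G) : Prop where
  sq : e * e = 1
  nm : e ∉ A
  cen : e ∈ 𝐂(A)
  act : Act A 𝐂[e]

theorem exists_ac {A S0 : Subgroup G} (h : Gl A S0) (f4 : U.F4 A)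
    (b2 : ∀ X : Subgroup G, X ≠ ⊤ → A ≤ X → ¬ Act A X → X ≤ od X ⊔ X ⊓ 𝐍(A))
    (hsq : ∀ S, IsSyl 2 S ⊤ → A ≤ S → A ≤ sqs S) {e0 : G} (h0 : Ai A e0) :
    ∃ S Z W Q d, Ac A S Z W Q d ∧ 𝐨(W) ≤ 4 ∧
      ∀ f, Ai A f → ∀ P ≤ 𝐂[f], IsPGroup 2 P → 𝐨(P) ≤ 𝐨(Z) := by
  have ex : ∀ f, Ai A f → ∃ T, IsSyl 2 T 𝐂[f] ∧ A ≤ T := fun f hf =>
    exists_isSyl_ge Nat.prime_two f4.isPGroup (mem_cent_iff_cent1.1 hf.cen)
  obtain ⟨Z, ⟨e, he, hZ, AZ⟩, max⟩ := Set.Finite.exists_maximalFor (fun Z : Subgroup G => 𝐨(Z))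
    {Z | ∃ e, Ai A e ∧ IsSyl 2 Z 𝐂[e] ∧ A ≤ Z} (Set.toFinite _)
    ((ex e0 h0).imp fun _ a => ⟨e0, h0, a⟩)
  replace max : ∀ f, Ai A f → ∀ P ≤ 𝐂[f], IsPGroup 2 P → 𝐨(P) ≤ 𝐨(Z) := fun f hf P hP pP => by
    obtain ⟨T, hT, AT⟩ := ex f hf
    obtain ⟨g, -, k⟩ := hT.exists_le_conj Nat.prime_two pP hP
    refine (card_le_of_le k).trans ((card_conj T g).le.trans ?_)
    exact (le_total _ _).elim id (max ⟨f, hf, hT, AT⟩)
  have n1 : ∀ f, f ∉ A → f ≠ 1 := fun f hf k => hf (k ▸ one_mem A)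
  have c4 := f4.card.le
  obtain ⟨W, D, l⟩ := lf h c4 (cent_ne h (n1 e he.nm)) hZ AZ he.act
  have Zc := two_le_cent f4 h.sc hZ.pgrp AZ
  have WA : ∀ w ∈ W, w ≠ 1 → w ∉ A := fun w hw w1 k => w1 (l.disj.le ⟨k, hw⟩)
  have ai : ∀ w ∈ W, w ≠ 1 → w * w = 1 → w ∈ 𝐂(Z) → Ai A w := fun w hw w1 ww hc => by
    refine ⟨ww, WA w hw w1, Zc (l.le hw), by_contra fun k => ?_⟩
    have a1 : A ≤ 𝐂[w] := mem_cent_iff_cent1.1 (Zc (l.le hw))
    refine l.ns w hw (A ⊔ od 𝐂[w]) (H2.isSolvable_sup_of_le_normalizer (a1.trans (le_norm_od _))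
      (H1.isSolvable_of_isPGroup f4.isPGroup) (P7.solv_Od _)) le_sup_left
      (inf_le_right.trans ((b2 _ (cent_ne h w1) a1 k).trans (sup_le
        (le_sup_right.trans (le_norm_self _))
        (H1.le_normalizer_sup inf_le_right (inf_le_left.trans (le_norm_od _))))))
  have dec : ∀ {V : Subgroup G}, A ⊔ V = Z → ∀ z ∈ Z, ∃ a ∈ A, ∃ w ∈ V, a * w = z := fun e z hz =>
    (mem_sup_of_norm ((le_sup_right.trans e.le).trans (Zc.trans (cent_le_norm A)))).1 (e.ge hz)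
  have nW : ∀ {V : Subgroup G}, A ⊔ V = Z → Z ≤ 𝐍(V) := fun e => e.ge.trans (sup_le
    ((cent_comm.1 ((le_sup_right.trans e.le).trans Zc)).trans (cent_le_norm _)) (le_norm_self _))
  have nA : 𝐍(Z) ≤ 𝐍(A) := (le_inf le_top le_rfl).trans (h.sc.norm_le le_top hZ.pgrp AZ)
  obtain ⟨S, hS, ZS⟩ := exists_isSyl_ge Nat.prime_two hZ.pgrp le_top
  have lt : Z < S := lt_of_le_of_ne ZS fun k => h.ne (eq_bot_iff.2 (le_trans (le_inf le_rfl
    ((hsq Z (k ▸ hS) AZ).trans (l.sqs_le f4 Zc))) l.disj.le))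
  obtain ⟨y, hy, hy'⟩ := SetLike.exists_of_lt
    (lt_inf_norm_of_isNilpotent (isNilpotent_of_isPGroup Nat.prime_two hS.pgrp) lt)
  obtain ⟨x, hx, x1, x2⟩ := (pow_two_pow hS.pgrp hy.1).elim fun k hk =>
    exists_sq k y (hk ▸ one_mem Z) hy'
  replace hx := zpowers_le.2 hy hx
  have pP : IsPGroup 2 (Z ⊔ zpowers x : Subgroup G) := hS.pgrp.to_le (sup_le ZS (zpowers_le.2 hx.1))
  have s2 : A ⊔ W ^ᵍ x = Z := by
    rw [← conj_eq_of_mem_norm (nA hx.2), ← conj_sup, l.sup, conj_eq_of_mem_norm hx.2]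
  have d0 : W ⊓ W ^ᵍ x = ⊥ := by
    by_contra k
    obtain ⟨w, hw, iw⟩ := P7.exists_inv_of_two (hZ.pgrp.to_le (inf_le_left.trans
      (inf_le_left.trans l.le))) (inf_center_ne_bot (isNilpotent_of_isPGroup Nat.prime_two pP)
      ⟨(inf_le_left.trans l.le).trans le_sup_left, sup_le (H1.le_normalizer_inf (nW l.sup) (nW s2))
        (zpowers_le.2 (conj_eq_self_iff.1 (by
          rw [conj_inf, conj_conj, conj_eq_of_mem_norm (nW l.sup x2), inf_comm])))⟩ k)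
    exact x1 ((eq_of_le_of_card_ge le_sup_left (max w (ai w hw.1.1 iw.ne iw.sq
      (cent_anti le_sup_left hw.2)) _ (mem_cent_iff_cent1.1 hw.2) pP)).ge
      (mem_sup_right (mem_zpowers x)))
  have sqW : ∀ w ∈ W, w * w = 1 := fun w hw => d0.le ⟨W.mul_mem hw hw, by
    obtain ⟨a, ha, v, hv, rfl⟩ := dec s2 w (l.le hw)
    rw [(show Commute v a from (Zc (s2.le (mem_sup_right hv)) a ha).symm).mul_mul_mul_comm,
      f4.sq a ha, one_mul]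
    exact mul_mem hv hv⟩
  have sqZ : ∀ z ∈ Z, z * z = 1 := fun z hz => by
    obtain ⟨a, ha, v, hv, rfl⟩ := dec l.sup z hz
    rw [(show Commute v a from (Zc (l.le hv) a ha).symm).mul_mul_mul_comm, f4.sq a ha, sqW v hv,
      one_mul]
  have cZ : Z ≤ 𝐂(Z) := fun a ha b hb => by
    have := inv_eq_of_mul_eq_one_right (sqZ _ (mul_mem ha hb))
    rwa [mul_inv_rev, inv_eq_of_mul_eq_one_right (sqZ a ha),
      inv_eq_of_mul_eq_one_right (sqZ b hb)] at this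
  have W0 : W ≠ ⊥ := fun k => he.nm (by
    have := hZ.le_of_norm Nat.prime_two (two_zp (k := 1) ((pow_two e).trans he.sq))
      (zpowers_le.2 (self_mem_cent1 e))
      (zpowers_le.2 (cent_le_norm _ (mem_cent_iff_cent1.2 hZ.le))) (mem_zpowers e)
    rwa [← l.sup, k, sup_bot_eq] at this)
  have sW : ∀ f ∈ W, f ≠ 1 → IsSyl 2 Z 𝐂[f] := fun f hf f1 => by
    obtain ⟨T, hT, k⟩ := exists_isSyl_ge Nat.prime_two hZ.pgrp (cZ.trans (cent_le_cent1 (l.le hf)))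
    rwa [eq_of_le_of_card_ge k (max f (ai f hf f1 (sqW f hf) (cZ (l.le hf))) T hT.le hT.pgrp)]
  have tr : ∀ g ∈ 𝐍(Z), g ∈ 𝐂(W) → ∀ z ∈ Z, ⁅z, g⁆ ∈ A := fun g h1 h2 z hz => by
    obtain ⟨a, ha, v, hv, rfl⟩ := dec l.sup z hz
    have := cml (nA h1) ha
    rwa [commutatorElement_def, show a * g = a * v * g * v⁻¹ by rw [mul_assoc a v, h2 v hv]; group,
      show a * v * g * v⁻¹ * a⁻¹ = a * v * g * (a * v)⁻¹ by group] at this
  have fixW : ∀ g ∈ 𝐍(Z), g ∈ 𝐂(W) → g ∉ 𝐂(A) → ∀ z ∈ Z, Commute g z → z ∈ W :=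
    fun g h1 h2 h3 z hz c => by
    obtain ⟨a, ha, v, hv, rfl⟩ := dec l.sup z hz
    by_cases a1 : a = 1
    · rwa [a1, one_mul]
    refine absurd (f4.mem_cent_of_commute (nA h1) ha a1 ?_) h3
    simpa using c.mul_right (show Commute g v from (h2 v hv).symm).inv_right
  obtain ⟨Q, hQ, PQ⟩ := exists_isSyl_ge Nat.prime_two pP (sup_le (le_norm_self Z) (zpowers_le.2 hx.2))
  have ZQ : Z ≤ Q := le_sup_left.trans PQ
  have Qc := two_le_cent f4 h.sc hQ.pgrp (AZ.trans ZQ)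
  obtain ⟨K, hK⟩ : ∃ K, K = 𝐍(Z) ⊓ 𝐂(A) ⊓ centMod Z A := ⟨_, rfl⟩
  have mK : ∀ k, k ∈ K ↔ k ∈ 𝐍(Z) ∧ k ∈ 𝐂(A) ∧ ∀ z ∈ Z, ⁅z, k⁆ ∈ A := fun k => by
    rw [hK, mem_inf, mem_inf, mem_centMod]
    exact ⟨fun a => ⟨a.1.1, a.1.2, a.2.2⟩, fun a => ⟨⟨a.1, a.2.1⟩, nA a.1, a.2.2⟩⟩
  have nK : K ⊲ 𝐍(Z) := ⟨fun k hk => ((mK k).1 hk).1, hK ▸ H1.le_normalizer_inf
    (H1.le_normalizer_inf (le_norm_self _) (nA.trans norm_cent)) (norm_le_norm_centMod le_rfl nA)⟩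
  have s0 := hQ.inf_normal Nat.prime_two nK
  have K1 : K ≤ Q ⊓ K ⊔ 𝐂(Z) := H7.SC.le_sup_syl (nK.1.trans norm_cent) s0 fun k hk => ⟨1, by
    obtain ⟨-, k2, k3⟩ := (mK k).1 hk
    intro z hz
    have e1 : k * z * k⁻¹ = ⁅k, z⁆ * z := by rw [commutatorElement_def]; group
    have e2 : ⁅k, z⁆ ∈ A := by simpa using inv_mem (k3 z hz)
    generalize ⁅k, z⁆ = a at e1 e2
    rw [pow_one, pow_two, eq_comm, ← mul_inv_eq_iff_eq_mul]
    calc _ = k * (k * z * k⁻¹) * k⁻¹ := by group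
      _ = k * a * k⁻¹ * (k * z * k⁻¹) := by nth_rewrite 1 [e1]; group
      _ = z := by rw [← k2 a e2, mul_inv_cancel_right, e1, ← mul_assoc, f4.sq a e2, one_mul]⟩
  have xQ : x ∈ Q := PQ (mem_sup_right (mem_zpowers x))
  have Q1 : ¬ Q ⊓ K ≤ Z := fun k => by
    have D2 : x * D * x⁻¹ ∈ 𝐍(Z) := mul_mem (mul_mem hx.2 l.dT) (inv_mem hx.2)
    have := (K1.trans (sup_le (k.trans cZ) le_rfl)) ((mK (D⁻¹ * (x * D * x⁻¹))).2
      ⟨mul_mem (inv_mem l.dT) D2, ?_, fun z hz => ?_⟩)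
    · refine W0 (eq_bot_iff.2 (le_trans (le_inf le_rfl fun w hw => ?_) d0.le))
      have c : x * D * x⁻¹ ∈ 𝐂(W) := by
        simpa using mul_mem l.dW (cent_anti l.le this)
      rw [mem_conj]
      refine fixW D l.dT l.dW l.dn _ (by simpa using cjm (inv_mem hx.2) (l.le hw)) ?_
      have := c w hw
      calc D * (x⁻¹ * w * x) = x⁻¹ * (x * D * x⁻¹ * w) * x := by group
        _ = _ := by rw [← this]; group
    · have := cjm (norm_cent (inv_mem (nA l.dT))) (Qc xQ)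
      simpa [mul_assoc] using mul_mem this (inv_mem (Qc xQ))
    · have e1 := tr D⁻¹ (inv_mem l.dT) (inv_mem l.dW) z hz
      have e2 := cjm (nA hx.2) (tr D l.dT l.dW _ (cjm (inv_mem hx.2) hz))
      have := mul_mem e1 (cjm (inv_mem (nA l.dT)) e2)
      convert this using 1
      simp only [commutatorElement_def]; group
  obtain ⟨k, hk, n, hn, e1⟩ := (mem_sup_of_norm (inf_le_left.trans nK.2)).1
    ((s0.frattini Nat.prime_two nK).ge l.dT)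
  obtain ⟨c, hc, q, hq, rfl⟩ := (mem_sup_of_norm ((inf_le_right.trans nK.1).trans norm_cent)).1
    (sup_comm (Q ⊓ K) _ ▸ K1 hk)
  obtain ⟨j, hj⟩ := exists_odd_pow (q * n)
  have m0 : q * n = c⁻¹ * D := by rw [← e1]; group
  have m1 : q * n ∈ 𝐍(Z) := mul_mem (nK.1 hq.2) hn.1
  have d1 : (q * n) ^ 2 ^ j ∈ 𝐍(Q ⊓ K) := pow_mem (mul_mem (le_norm_self _ hq) hn.2) _
  have d2 : (q * n) ^ 2 ^ j ∈ 𝐂(W) :=
    pow_mem (m0 ▸ mul_mem (inv_mem (cent_anti l.le hc)) l.dW) _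
  have d3 : (q * n) ^ 2 ^ j ∉ 𝐂(A) := fun k => by
    obtain ⟨y, hy, h1, h2⟩ := exists_sq j _ k fun k => l.dn (by
      simpa [m0] using mul_mem (cent_anti AZ hc) k)
    exact h1 (f4.mem_cent_of_sq (zpowers_le.2 (nA m1) hy) h2)
  have d4 := pow_mem m1 (2 ^ j)
  generalize (q * n) ^ 2 ^ j = d at hj d1 d2 d3 d4
  have cQ : ∀ f, IsSyl 2 Z 𝐂[f] → Q ⊓ 𝐂[f] = Z := fun f hf =>
    (hf.eq_of_le Nat.prime_two (le_inf ZQ hf.le) inf_le_right (hQ.pgrp.to_le inf_le_left))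
  have fu : ∀ f ∈ W, f ≠ 1 → ∀ a ∈ A, ∃ x ∈ Q ⊓ K, ⁅x, f⁆ = a := fun f hf f1 a ha => by
    by_cases a1 : a = 1
    · exact ⟨1, one_mem _, by simp [a1]⟩
    obtain ⟨u, hu, hu'⟩ := SetLike.not_le_iff_exists.1 Q1
    obtain ⟨g, hg, rfl⟩ := f4.exists_conj (nA d4) d3 (t := ⁅u, f⁆)
      (by simpa using inv_mem (((mK u).1 hu.2).2.2 f (l.le hf)))
      (fun k => hu' ((cQ f (sW f hf f1)).le ⟨hu.1, mem_cent1.2
        (commutatorElement_eq_one_iff_mul_comm.1 k).symm⟩)) ha a1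
    refine ⟨_, cjm (zpowers_le.2 d1 hg) hu, ?_⟩
    rw [conjugate_commutatorElement, ← zpowers_le.2 d2 hg f hf, mul_inv_cancel_right]
  have sZ : ∀ f ∈ Z, f ∉ A → IsSyl 2 Z 𝐂[f] := fun f hf fA => by
    obtain ⟨a, ha, w, hw, rfl⟩ := dec l.sup f hf
    have w1 : w ≠ 1 := fun k => fA (by rwa [k, mul_one])
    obtain ⟨u, hu, rfl⟩ := fu w hw w1 a ha
    have := (sW w hw w1).conj u
    rwa [conj_eq_of_mem_norm (nK.1 hu.2), ← cent1_conj,
      show u * w * u⁻¹ = ⁅u, w⁆ * w by rw [commutatorElement_def]; group] at this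
  have fu' : ∀ f ∈ Z, f ∉ A → ∀ a ∈ A, ∃ x ∈ Q ⊓ K, ⁅x, f⁆ = a := fun f hf fA b hb => by
    obtain ⟨a, ha, w, hw, rfl⟩ := dec l.sup f hf
    obtain ⟨u, hu, rfl⟩ := fu w hw (fun k => fA (by rwa [k, mul_one])) b hb
    refine ⟨u, hu, ?_⟩
    have e1 := Qc hu.1 a ha
    have e2 := Zc (l.le hw) a ha
    simp only [commutatorElement_def]
    calc u * (a * w) * u⁻¹ * (a * w)⁻¹ = (u * a) * (w * u⁻¹ * w⁻¹) * a⁻¹ := by group
      _ = a * (u * w * u⁻¹ * w⁻¹) * a⁻¹ := by rw [← e1]; group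
      _ = _ := by
        rw [Qc (mul_mem (cjm (le_norm_self Q hu.1) (ZQ (l.le hw))) (inv_mem (ZQ (l.le hw)))) a ha,
          mul_inv_cancel_right]
  obtain ⟨z, hz, zA, hz'⟩ := BG01.exists_mem_centMod (isNilpotent_of_isPGroup Nat.prime_two hQ.pgrp)
    (hQ.le.trans nA) ⟨ZQ, hQ.le⟩ fun k => W0 (eq_bot_iff.2
      ((le_inf (l.le.trans k) le_rfl).trans l.disj.le))
  have i1 : Z.relIndex Q ≤ 4 := by
    rw [← cQ z (sZ z hz zA), inf_relIndex_left, ← f4.card]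
    exact H2.relIndex_centralizer_le_card (mem_centMod.1 hz').2
  have i2 : 𝐨(Z) * 4 ≤ 𝐨((Q ⊓ K : Subgroup G)) := by
    refine le_trans (Nat.mul_le_mul_right _ (card_le_of_le (le_inf (sZ z hz zA).le
      (le_inf ZQ fun u hu => (mK u).2 ⟨le_norm_self Z hu, Zc hu, fun v hv => ?_⟩))))
      (U.four_le f4.card (fu' z hz zA))
    rw [commutatorElement_eq_one_iff_mul_comm.2 (cZ hu v hv)]
    exact one_mem _
  have i3 := H1.card_mul_relIndex ZQ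
  have i4 := card_le_of_le (inf_le_left : Q ⊓ K ≤ Q)
  have i5 : 0 < 𝐨(Z) := Nat.card_pos
  have QK : Q ⊓ K = Q := eq_of_le_of_card_ge inf_le_left (by nlinarith)
  have tq : ∀ x ∈ Q, ∀ z ∈ Z, ⁅x, z⁆ ∈ A := fun x hx z hz => by
    simpa using inv_mem (((mK x).1 (QK.ge hx).2).2.2 z hz)
  rw [QK] at fu' d1 i2
  have sq : ∀ x ∈ Q, x * x ∈ A := fun x hx => by
    have e1 : x * z * x⁻¹ = ⁅x, z⁆ * z := by rw [commutatorElement_def]; group
    have e2 := tq x hx z hz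
    generalize ⁅x, z⁆ = a at e1 e2
    have e3 : x * x ∈ Z := (cQ z (sZ z hz zA)).le ⟨mul_mem hx hx, mem_cent1_iff_conj.2 (by
      calc _ = x * (x * z * x⁻¹) * x⁻¹ := by group
        _ = x * a * x⁻¹ * (x * z * x⁻¹) := by nth_rewrite 1 [e1]; group
        _ = z := by rw [← Qc hx a e2, mul_inv_cancel_right, e1, ← mul_assoc, f4.sq a e2, one_mul])⟩
    by_contra k
    exact k (sqZ x ((cQ _ (sZ _ e3 k)).le ⟨hx, mem_cent1.2 (by group)⟩) ▸ one_mem A)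
  obtain ⟨S', hS', QS⟩ := exists_isSyl_ge Nat.prime_two hQ.pgrp le_top
  have AS := (AZ.trans ZQ).trans QS
  refine ⟨S', Z, W, Q, d, ⟨{ h with syl := hS', le := AS }, f4, two_le_cent f4 h.sc hS'.pgrp AS,
    l.sup, l.disj, W0, ⟨isMulComm_iff_le_cent.2 cZ, fun z hz => (pow_two z).trans (sqZ z hz)⟩, ZQ, QS,
    hQ, sZ, by nlinarith, sq, fun x hx y hy => ?_, fu', d1, d2, nA d4, d3, hj,
    fun f hf f1 y hy ho b hb g hg => ?_⟩, ?_, max⟩
  · have := mul_mem (mul_mem (sq x hx) (sq _ (mul_mem (inv_mem hx) hy))) (inv_mem (sq y hy))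
    convert this using 1
    rw [commutatorElement_def]; group
  · obtain ⟨V, D', l'⟩ := lf h c4 (cent_ne h f1) (sW f hf f1) AZ
      (ai f hf f1 (sqW f hf) (cZ (l.le hf))).act
    refine l'.key y hy ho b hb g ?_
    obtain ⟨a, ha, v, hv, rfl⟩ := dec l'.sup g (l.le hg)
    have c : Commute d v := (commutatorElement_eq_one_iff_commute.1 (l'.disj.le
      ⟨tr d d4 d2 v (l'.le hv), cml (l'.nW ⟨cent_le_cent1 hf d2, d4⟩) hv⟩)).symm
    have := l.disj.le ⟨ha, (mul_mem_cancel_right (fixW d d4 d2 d3 v (l'.le hv) c)).1 hg⟩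
    rwa [mem_bot.1 this, one_mul]
  · have e1 := H1.card_sup_of_inf_eq_bot (l.le.trans (nW s2)) d0
    have e2 := H1.card_sup_of_inf_eq_bot (AZ.trans (nW l.sup)) l.disj
    have e3 := card_le_of_le (sup_le l.le (le_sup_right.trans s2.le))
    rw [e1, card_conj, ← l.sup, e2, f4.card] at e3
    exact Nat.le_of_mul_le_mul_right e3 Nat.card_pos

end Cfsg.Agent.P18.B4
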