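/-
P18, chapter B4 (d): the case `|W| = 4`.
-/
import Cfsg.Agent.P18.B4D

set_option autoImplicit false
set_option linter.unusedSectionVars false
set_option linter.style.haveILetI false

namespace Cfsg.Agent.P18.B4

open Subgroup Cfsg Cfsg.Agent Cfsg.Agent.FT
open scoped commutatorElement

universe u

variable {G : Type u} [Group G] [Finite G]

theorem d_not_three (h : P14.St.I3 G) {x g : G} (e : g * x * g⁻¹ = x⁻¹) : ¬ 3 ∣ orderOf x :=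
  fun ⟨m, hm⟩ => by
  have := h (x ^ m) g (by rw [← pow_mul, mul_comm, ← hm, pow_orderOf_eq_one])
    (by rw [← conj_pow, e, inv_pow])
  have h1 := orderOf_pos x
  have h2 := Nat.le_of_dvd (by omega) (orderOf_dvd_of_pow_eq_one this)
  omega

theorem d_pow_mem {K : Subgroup G} {d e : G} (hd : d ∈ K) (he : e ∈ 𝐍(K)) (m : ℕ) :
    (d * e) ^ m * (e ^ m)⁻¹ ∈ K := by
  induction m with
  | zero => simp
  | succ m ih =>
    rw [show (d * e) ^ (m + 1) * (e ^ (m + 1))⁻¹ = d * (e * ((d * e) ^ m * (e ^ m)⁻¹) * e⁻¹) by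
      rw [pow_succ', pow_succ']; group]
    exact mul_mem hd (P14.cjm he ih)

theorem d_exists_sq {S Q : Subgroup G} (hS : IsPGroup 2 S) (h : Q < S) :
    ∃ s ∈ S, s ∈ 𝐍(Q) ∧ s ∉ Q ∧ s * s ∈ Q := by
  obtain ⟨x, h1, h2, h3⟩ := H1.exists_mem_normalizer_of_lt
    (isNilpotent_of_isPGroup Nat.prime_two hS) h
  obtain ⟨k, hk⟩ := P14.pow_two_pow hS h1
  have hk' : x ^ 2 ^ k ∈ Q := hk ▸ one_mem Q
  clear hk
  induction k with
  | zero => exact absurd (by simpa using hk') h3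
  | succ k ih =>
    by_cases c : x ^ 2 ^ k ∈ Q
    · exact ih c
    · exact ⟨_, pow_mem h1 _, pow_mem h2 _, c, by rwa [← pow_two, ← pow_mul, ← pow_succ]⟩

namespace Ac

variable {A S Z W Q : Subgroup G} {d : G} (h : Ac A S Z W Q d)
include h

theorem d_two : IsPGroup 2 Q := h.gl.syl.pgrp.to_le h.QS

theorem d_AZ : A ≤ Z := h.sup ▸ le_sup_left

theorem d_WZ : W ≤ Z := h.sup ▸ le_sup_right

theorem d_cZ : Z ≤ 𝐂(Z) := isMulComm_iff_le_cent.1 h.el.1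

theorem d_cent {f : G} (hf : f ∈ Z) (nf : f ∉ A) : Q ⊓ 𝐂[f] ≤ Z :=
  (H1.sylow_maximal (h.sylZ f hf nf).ndvd (le_inf h.ZQ (h.sylZ f hf nf).le) inf_le_right
    (h.d_two.to_le inf_le_left)).le

theorem d_fix {a x : G} (ha : a ∈ A) (hx : x ∈ Q) : x * a * x⁻¹ = a :=
  mem_cent1_iff_conj.1 (cent_le_cent1 ha (h.cen (h.QS hx)))

theorem d_cl {x y z : G} (hx : x ∈ Q) (hy : y ∈ Q) (hz : z ∈ Q) :
    ⁅x * y, z⁆ = ⁅x, z⁆ * ⁅y, z⁆ := by
  rw [commutatorElement_mul_left_eq_conj_mul, h.d_fix (h.com _ hy _ hz) hx,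
    (h.f4.comm (h.com _ hy _ hz) (h.com _ hx _ hz)).eq]

theorem d_nA {f : G} (hf : f ∈ W) (f1 : f ≠ 1) : f ∉ A := fun k =>
  f1 (mem_bot.1 (h.disj ▸ mem_inf.2 ⟨k, hf⟩))

theorem d_full (cW : 𝐨(W) = 4) {u : G} (hu : u ∈ Q) (nu : u ∉ A) {a : G} (ha : a ∈ A) :
    ∃ x ∈ Q, ⁅x, u⁆ = a := by
  by_cases hz : u ∈ Z
  · exact h.full u hz nu a ha
  have WQ := h.d_WZ.trans h.ZQ
  let f : W → A := fun x => ⟨⁅(x : G), u⁆, h.com _ (WQ x.2) u hu⟩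
  have hi : Function.Injective f := fun x y e => Subtype.ext (inv_mul_eq_one.1 (of_not_not
    fun n => by
      have m := mul_mem (inv_mem x.2) y.2
      have e' : ⁅(x : G), u⁆ = ⁅(y : G), u⁆ := congrArg Subtype.val e
      have := h.d_cl (WQ x.2) (WQ m) hu
      rw [mul_inv_cancel_left, ← e', left_eq_mul, commutatorElement_eq_one_iff_commute] at this
      exact hz (h.d_cent (h.d_WZ m) (h.d_nA m n) ⟨hu, mem_cent1_iff_commute.2 this⟩)))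
  obtain ⟨x, hx⟩ := (hi.bijective_of_nat_card_le (by rw [cW, h.f4.card])).2 ⟨a, ha⟩
  exact ⟨x, WQ x.2, congrArg Subtype.val hx⟩

theorem d_eq (cW : 𝐨(W) = 4) : Q = S := by
  by_contra hne
  obtain ⟨s, sS, sQ, ns, ss⟩ := d_exists_sq h.gl.syl.pgrp (lt_of_le_of_ne h.QS hne)
  have AZ := h.d_AZ
  have nA : 𝐍(Q) ≤ 𝐍(A) := (le_inf le_top le_rfl).trans
    (h.gl.sc.norm_le le_top h.d_two (AZ.trans h.ZQ))
  have cZ : 𝐨(Z) = 16 := by
    rw [← h.sup, H1.card_sup_of_inf_eq_bot ((AZ.trans (h.d_cZ.trans (cent_anti h.d_WZ))).trans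
      (cent_le_norm W)) h.disj, cW, h.f4.card]
  have cQ := H1.card_mul_relIndex h.ZQ
  rw [cZ, h.idx] at cQ
  set Y := Z ^ᵍ s⁻¹ with hY
  have YQ : Y ≤ Q := conj_le_of_mem_norm h.ZQ (inv_mem sQ)
  have cY : 𝐨(Y) = 16 := (card_conj _ _).trans cZ
  have mY : ∀ {x}, x ∈ Y ↔ s * x * s⁻¹ ∈ Z := by intro x; rw [hY, mem_conj, inv_inv]
  have AY : A ≤ Y := fun a ha => mY.2 (AZ (P14.cjm (nA sQ) ha))
  have cen : ∀ y ∈ Y, y ∉ A → ∀ x ∈ Q, Commute y x → x ∈ Y := fun y hy ny x hx c =>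
    mY.2 (h.d_cent (mY.1 hy) (fun k => ny ((mem_normalizer_iff.1 (nA sQ) y).2 k))
      ⟨P14.cjm sQ hx, mem_cent1_iff_commute.2 (P5.commute_cj s c)⟩)
  have cYY : ∀ x ∈ Y, ∀ y ∈ Y, Commute x y := fun x hx y hy => by
    have := P5.commute_cj s⁻¹ (mem_centralizer_iff.1 (h.d_cZ (mY.1 hy)) _ (mY.1 hx))
    simpa [mul_assoc] using this
  have inf : Z ⊓ Y = A := le_antisymm (fun x hx => of_not_not fun n => ns (by
    have e : Y = Z := H1.eq_of_le_of_card_le (fun y hy => h.d_cent hx.1 n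
      ⟨YQ hy, mem_cent1_iff_commute.2 (cYY x hx.2 y hy)⟩) (by rw [cY, cZ])
    exact (H1.sylow_maximal h.sylQ.ndvd (le_inf h.QS h.sylQ.le) inf_le_right
      (h.gl.syl.pgrp.to_le inf_le_left)).le (mem_inf.2 ⟨sS, inv_mem_iff.1 (conj_eq_self_iff.1 e)⟩)))
    (le_inf AZ AY)
  have nZ : Y ≤ 𝐍(Z) := YQ.trans h.sylQ.le
  have sup : Z ⊔ Y = Q := H1.eq_of_le_of_card_le (sup_le h.ZQ YQ) (by
    have := card_sup_mul_card_inf nZ
    rw [inf, cZ, cY, h.f4.card] at this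
    omega)
  have dZ : d ∈ 𝐍(Z) := h.sup ▸ zpowers_le.1 (H1.le_normalizer_sup (zpowers_le.2 h.dA)
    (zpowers_le.2 (cent_le_norm W h.dW)))
  have dY : d ∈ 𝐍(Y) := mem_norm_of_conj_le fun _ hx => by
    obtain ⟨y, hy, rfl⟩ := mem_conj'.1 hx
    by_cases c : y ∈ A
    · exact AY (P14.cjm h.dA c)
    obtain ⟨z, hz, v, hv, e⟩ := (mem_sup_of_norm nZ).1 (sup.ge (P14.cjm h.dQ (YQ hy)))
    have nv : v ∉ A := fun k => c (inf.le ⟨(mem_normalizer_iff.1 dZ y).2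
      (e ▸ mul_mem hz (AZ k)), hy⟩)
    have sq : ∀ x ∈ Y, x * x = 1 := fun x hx => by
      have := h.el.2 _ (mY.1 hx)
      rw [pow_two, conj_mul] at this
      simpa using this
    have h1 : z * v * (z * v) = 1 := e ▸ P7.sq_cj (sq y hy) d
    have h2 : z * z = 1 := by rw [← pow_two]; exact h.el.2 z hz
    refine e ▸ mul_mem (cen v hv nv z (h.ZQ hz) ?_) hv
    rw [mul_eq_one_iff_eq_inv, mul_inv_rev, P5.inv_eq_of_sq h2, P5.inv_eq_of_sq (sq v hv)] at h1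
    exact h1.symm
  have nK : 𝐍(Q) ≤ 𝐍(centMod Q A) := norm_le_norm_centMod le_rfl nA
  haveI := H1.normal_subgroupOf_of_le nK
  have QK : Q ≤ centMod Q A := le_centMod_iff.2 ⟨le_normalizer.trans nA, commutator_le.2 h.com⟩
  let π := H1.qmk 𝐍(Q) (centMod Q A)
  have h3 := d_not_three (P18.A.i3_bar h.gl.i3 𝐍(Q) (centMod Q A))
    (x := π (⟨d, h.dQ⟩ * (⟨s, sQ⟩ * ⟨d, h.dQ⟩ * ⟨s, sQ⟩⁻¹)⁻¹)) (g := π ⟨s, sQ⟩) (by
      have : π ⟨s, sQ⟩ * π ⟨s, sQ⟩ = 1 := by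
        rw [← map_mul]; exact H1.qmk_eq_one_iff.2 (QK ss)
      simp only [map_mul, map_inv]
      generalize π ⟨s, sQ⟩ = a at this ⊢
      generalize π ⟨d, h.dQ⟩ = b
      calc _ = a * b * a⁻¹ * (a * a) * b⁻¹ * (a * a)⁻¹ := by group
        _ = _ := by rw [this]; group)
  have h4 := pow_orderOf_eq_one (π (⟨d, h.dQ⟩ * (⟨s, sQ⟩ * ⟨d, h.dQ⟩ * ⟨s, sQ⟩⁻¹)⁻¹))
  generalize orderOf (π (⟨d, h.dQ⟩ * (⟨s, sQ⟩ * ⟨d, h.dQ⟩ * ⟨s, sQ⟩⁻¹)⁻¹)) = m at h3 h4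
  rw [← map_pow] at h4
  have h5 : (d * (s * d * s⁻¹)⁻¹) ^ m ∈ centMod Z A := by
    have := mem_centMod.1 (H1.qmk_eq_one_iff.1 h4)
    exact mem_centMod.2 ⟨this.1, fun u hu => this.2 u (h.ZQ hu)⟩
  have dK : d ∈ centMod Z A := mem_centMod.2 ⟨h.dA, fun u hu => by
    obtain ⟨a, ha, w, hw, rfl⟩ := (mem_sup_of_norm ((h.d_WZ.trans (h.d_cZ.trans
      (cent_anti AZ))).trans (cent_le_norm A))).1 (h.sup.ge hu)
    rw [commutatorElement_mul_left_eq_conj_mul, commutatorElement_eq_one_iff_mul_comm.2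
      (mem_centralizer_iff.1 h.dW w hw), mul_one, mul_inv_cancel, one_mul]
    exact P14.cml h.dA ha⟩
  have eZ : s * d * s⁻¹ ∈ 𝐍(Z) := by
    have := conj_mem_conj dY s
    rwa [← norm_conj, hY, conj_inv_conj] at this
  have h6 := (mul_mem_cancel_left h5).1 (d_pow_mem dK (zpowers_le.1 (norm_le_norm_centMod
    (zpowers_le.2 (inv_mem eZ)) (zpowers_le.2 (inv_mem (nA (mul_mem (mul_mem sQ h.dQ)
      (inv_mem sQ))))))) m)
  rw [inv_pow, inv_inv, conj_pow] at h6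
  have h7 : d ^ m ∈ 𝐂(A) := mem_centralizer_iff.2 fun a ha => by
    obtain ⟨f, hf, f1⟩ := W.bot_or_exists_ne_one.resolve_left h.ne
    have fQ := h.ZQ (h.d_WZ hf)
    obtain ⟨x, hx, rfl⟩ := h.full f (h.d_WZ hf) (h.d_nA hf f1) a ha
    obtain ⟨z, hz, y, hy, rfl⟩ := (mem_sup_of_norm nZ).1 (sup.ge hx)
    have k : ∀ z ∈ Z, ⁅z * y, f⁆ = ⁅y, f⁆ := fun z hz => by
      rw [h.d_cl (h.ZQ hz) (YQ hy) fQ, commutatorElement_eq_one_iff_mul_comm.2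
        (mem_centralizer_iff.1 (h.d_cZ (h.d_WZ hf)) z hz), one_mul]
    have m1 := (mem_centMod.1 h6).2 _ (mY.1 hy)
    rw [← conjugate_commutatorElement, ← mem_normalizer_iff.1 (nA sQ)] at m1
    rw [k z hz, eq_comm, ← mul_inv_eq_iff_eq_mul, conjugate_commutatorElement,
      mem_cent1_iff_conj.1 (cent_le_cent1 hf (pow_mem h.dW m)), ← k _ (AZ (inv_mem m1))]
    congr 1
    rw [commutatorElement_def]; group
  obtain ⟨j, hj⟩ := Nat.exists_mul_mod_eq_one_of_coprime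
    ((Nat.prime_three.coprime_iff_not_dvd.2 h3).symm) (by norm_num)
  have := pow_mem h7 j
  rw [← pow_mul, ← Nat.div_add_mod (m * j) 3, hj.2, pow_succ, pow_mul] at this
  exact h.dn ((mul_mem_cancel_left (pow_mem (h.f4.cube h.dA) _)).1 this)

end Ac

theorem b4d : B4dStmt.{u} := fun _ _ _ _ _ _ _ _ _ h cW =>
  ⟨h.d_eq cW, fun _ hu nu _ ha => h.d_eq cW ▸ h.d_full cW (h.d_eq cW ▸ hu) nu ha⟩

end Cfsg.Agent.P18.B4
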