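/-
Bender's method for a strongly closed central four-group: the configuration and the local facts.
-/
import Cfsg.Agent.P18.U4
import Cfsg.Agent.P14.A1

set_option autoImplicit false
set_option linter.unusedSectionVars false
set_option linter.style.haveILetI false

namespace Cfsg.Agent.P18.U

open Subgroup Cfsg Cfsg.Agent Cfsg.Agent.FT
open Cfsg.Agent.P6 (Inv Od Qt pr)
open Cfsg.Agent.P7 (br)
open Cfsg.Agent.H2 (layerOf)
open scoped commutatorElement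

universe u

variable {G : Type u} [Group G] [Finite G]

/-- A strongly closed four-group `A` in the centre of the Sylow 2-subgroup `S`; all proper
overgroups of `S` are 2-closed modulo their odd core. -/
structure BH (S A : Subgroup G) : Prop where
  syl : IsSyl 2 S ⊤
  cardA : 𝐨(A) = 4
  el : ∀ a ∈ A, a * a = 1
  le : A ≤ S
  cen : S ≤ 𝐂(A)
  sc : P14.SC ⊤ A
  loc : ∀ X : Subgroup G, X ≠ ⊤ → S ≤ X → X ≤ Od X ⊔ X ⊓ 𝐍(S)
  tri : ∃ ρ ∈ 𝐍(S), ρ ∉ 𝐂(A)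
  ne0 : ∀ t ∈ A, t ≠ 1 → ∀ M : Subgroup G, M ≠ ⊤ → 𝐂[t] ≤ M → M ⊓ 𝐍(A) ≤ 𝐂(A)

namespace BH

variable [IsSimpleGroup G] {S A : Subgroup G} (h : BH S A)
include h

theorem two : IsPGroup 2 S := h.syl.pgrp

theorem sqA {a : G} (ha : a ∈ A) : a * a = 1 := h.el a ha

theorem le_cent1 {a : G} (ha : a ∈ A) : S ≤ 𝐂[a] := h.cen.trans (cent_le_cent1 ha)

theorem f4 : F4 A := ⟨h.cardA, h.el, fun k => (h.syl.of_le (h.cen.trans (cent_le_norm A))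
  le_top).ndvd (k.trans (relIndex_dvd_of_le_left _ h.cen))⟩

theorem norm_le : 𝐍(S) ≤ 𝐍(A) := (le_inf le_top le_rfl).trans (h.sc.norm_le le_top h.two h.le)

theorem sylX {X : Subgroup G} (hX : S ≤ X) : IsSyl 2 S X := h.syl.of_le hX le_top

theorem exists_cj {X : Subgroup G} (hX : S ≤ X) {a : G} (ha : a ∈ A) {g : G}
    (hx : g * a * g⁻¹ ∈ X) : ∃ k ∈ X, k * (g * a * g⁻¹) * k⁻¹ ∈ A := by
  obtain ⟨k, h1, hk⟩ := (h.sylX hX).exists_conj_le Nat.prime_two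
    (P7.two_zpowers (P7.sq_cj (h.sqA ha) g)) (zpowers_le.2 hx)
  have e : k * (g * a * g⁻¹) * k⁻¹ = k * g * a * (k * g)⁻¹ := by group
  exact ⟨k, h1, e ▸ h.sc S le_top h.two h.le a ha _ trivial
    (e ▸ hk (conj_mem_conj (mem_zpowers _) k))⟩

theorem t0 {t : G} (ht : t ∈ A) (t1 : t ≠ 1) {M : Subgroup G} (hM : M ≠ ⊤) (hC : 𝐂[t] ≤ M) :
    M ⊓ 𝐍(A) ≤ 𝐂(A) := h.ne0 t ht t1 M hM hC

theorem solv {X : Subgroup G} (h1 : X ≠ ⊤) (hX : S ≤ X) : Group.IsSolvable X := by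
  have as := (h.sylX (le_inf hX le_normalizer))
  refine H1.isSolvable_of_le ((h.loc X h1 hX).trans (sup_comm _ _).le)
    (H2.isSolvable_sup_of_le_normalizer (inf_le_left.trans (P7.le_norm_Od X)) ?_ (P7.solv_Od X))
  haveI := H1.normal_subgroupOf_of_le (inf_le_right : X ⊓ 𝐍(S) ≤ _)
  refine P7.solv_of_bar (N := S) le_rfl (H1.isSolvable_of_isPGroup h.two)
    (P5.Mx.isSolvable_of_odd ?_)
  rw [H1.card_bar le_rfl]
  exact Nat.not_even_iff_odd.1 fun k => as.ndvd (even_iff_two_dvd.1 k)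

theorem lay {X : Subgroup G} (h1 : X ≠ ⊤) (hX : S ≤ X) : layerOf X = ⊥ :=
  H2.layerOf_eq_bot_of_isSolvable (h.solv h1 hX)

theorem le_Od {X W : Subgroup G} (h1 : X ≠ ⊤) (hX : S ≤ X) (hW : W ≤ X) (ho : Odd 𝐨(W))
    (hn : S ≤ 𝐍(W)) : W ≤ Od X := by
  have u : IsSyl 2 (br X S) ⊤ :=
    H1.bar_top (Y := X) (N := Od X) ▸ (h.sylX hX).bar Nat.prime_two le_rfl
  have n : ⊤ ≤ 𝐍(br X S) := by
    rw [P7.br_norm hX h.two, ← H1.bar_top, H1.bar_le_bar_iff (P7.Od_le X) le_rfl inf_le_left,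
      sup_comm]
    exact h.loc X h1 hX
  have o : Odd 𝐨(br X W) := ho.of_dvd_nat (H1.card_bar_dvd W)
  have c := P5.Mx.le_cent_of_coprime (le_top.trans n) (H1.bar_le_normalizer hn)
    (P7.cop_two_odd u.pgrp o).symm
  have f : fittingOf ⊤ ≤ br X S := P5.Mx.fittingOf_le_of fun r hr => by
    by_cases e : r = 2
    · exact e ▸ u.pCoreOf_le Nat.prime_two
    · exact (P6.le_Od (pCoreOf_normal r ⊤) (P6.odd_of_isPGroup hr e
        (H2.isPGroup_pCoreOf r ⊤))).trans ((P7.KO.Od_bar X).le.trans bot_le)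
  have := (le_inf le_top (c.trans (cent_anti f))).trans ((cent_fittingOf_le
    (H1.bar_top (Y := X) (N := Od X) ▸ H1.isSolvable_bar (h.solv h1 hX))).trans f)
  exact (H1.bar_eq_bot_iff hW).1 (eq_bot_iff.2 fun x hx =>
    P7.eq_one_of_two_odd u.pgrp o (this hx) hx)

theorem d1 {X Q : Subgroup G} (h1 : X ≠ ⊤) (hX : S ≤ X) {t : G} (ht : t ∈ A) {p : ℕ}
    (hp : p.Prime) (p2 : p ≠ 2) (hQX : Q ≤ X) (hQ : IsPGroup p Q) (hQt : ⁅Q, zpowers t⁆ = Q)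
    (hn : X ⊓ 𝐂[t] ≤ 𝐍(Q)) : Q ≤ pCoreOf p X :=
  (P5.Mx.le_pCoreOf_of_odd hp (h.sqA ht) (P6.odd_Od X) (P7.le_norm_Od X (hX (h.le ht)))
    (h.le_Od h1 hX hQX (P6.odd_of_isPGroup hp p2 hQ) ((le_inf hX (h.le_cent1 ht)).trans hn)) hQ hQt
    ((inf_le_inf_right _ (P7.Od_le X)).trans hn)).trans
    (((H2.snIn_pCoreOf p _).trans (H2.snIn_pPrimeCoreOf 2 X)).le_pCoreOf (H2.isPGroup_pCoreOf p _))

theorem exists_conj {t s : G} (ht : t ∈ A) (t1 : t ≠ 1) (hs : s ∈ A) (s1 : s ≠ 1) :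
    ∃ g ∈ 𝐍(S), g * t * g⁻¹ = s := by
  obtain ⟨ρ, h1, h2⟩ := h.tri
  obtain ⟨g, hg, e⟩ := h.f4.exists_conj (h.norm_le h1) h2 ht t1 hs s1
  exact ⟨g, zpowers_le.2 h1 hg, e⟩

theorem norm_ne_top {X : Subgroup G} (h1 : X ≠ ⊥) (hX : Group.IsSolvable X) : 𝐍(X) ≠ ⊤ :=
  P5.Mx.norm_ne_top h1 fun e => by
    subst e
    have := H1.isSolvable_of_le (le_top (a := S)) hX
    haveI : Group.IsSolvable G := Group.isSolvable_of_surjective (f := (⊤ : Subgroup G).subtype)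
      fun x => ⟨⟨x, trivial⟩, rfl⟩
    obtain ⟨ρ, h1, h2⟩ := h.tri
    exact h2 (mem_centralizer_iff.2 fun a _ => IsSimpleGroup.comm_iff_isSolvable.2 this a ρ)

theorem cent1_ne_top {t : G} (ht : t ∈ A) (t1 : t ≠ 1) : 𝐂[t] ≠ ⊤ := fun e =>
  h.norm_ne_top (X := zpowers t) (fun k => t1 (zpowers_eq_bot.1 k))
    (H1.isSolvable_of_isPGroup (P7.two_zpowers (h.sqA ht)))
    (top_le_iff.1 (e ▸ P5.Mx.cent1_le_norm_zpowers t))

end BH

end Cfsg.Agent.P18.U
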