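/-
P18, chapter B6: Sylow 2-subgroups of type `L₃(4)`.
-/
import Cfsg.Agent.P18.Defs
import Cfsg.Agent.P18.UB
import Cfsg.Agent.P18.U

set_option autoImplicit false
set_option linter.unusedSectionVars false
set_option linter.style.haveILetI false

namespace Cfsg.Agent.P18

open Subgroup Cfsg Cfsg.Agent Cfsg.Agent.FT
open Cfsg.Agent.P14.St (I3)
open Cfsg.Agent.P6 (Od Qt pr)
open Cfsg.Agent.H7.SC (od)
open scoped commutatorElement

universe u

variable {G : Type u} [Group G] [Finite G]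

theorem b6_norm (hZ : ZStmt.{u}) (h3 : I3 G) (k3 : K3.{u} (Nat.card G + 1))
    (h0 : Od (⊤ : Subgroup G) = ⊥) {S A : Subgroup G} (hS : IsSyl 2 S ⊤) (h4 : 𝐨(A) = 4)
    (le : A ≤ S) (cen : S ≤ 𝐂(A)) (nA : ⊤ ≤ 𝐍(A)) (der : ⁅S, S⁆ ≤ A)
    (full : ∀ u ∈ S, u ∉ A → ∀ a ∈ A, ∃ x ∈ S, ⁅x, u⁆ = a) : ⊤ ≤ 𝐍(S) := by
  have hF := fittingOf_eq_pCoreOf Nat.prime_two h0
  have hE : H2.layerOf (⊤ : Subgroup G) = ⊥ := by
    by_contra hE
    obtain ⟨K, hK⟩ := H2.exists_compIn_of_layerOf_ne_bot hE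
    have cA : A ≤ 𝐂(K) := le_centralizer_iff.1 (hK.le_centralizer_of_isSolvable
      (H2.SnIn.of_normal le_top nA) (H1.isSolvable_of_isPGroup (hS.pgrp.to_le le)))
    have hT := P14.syl_comp hS hK
    have z2 := (H2.isPGroup_pCoreOf 2 ⊤).to_le (hK.inf_centralizer_le_fittingOf.trans hF.le)
    rcases hZ G K _ h3 hK.2 z2 (k3.mono (Nat.succ_le_succ ((Nat.le_of_dvd Nat.card_pos
      (relIndex_dvd_card _ _)).trans (card_le_card_group K)))) hT with ⟨-, _, _, _, z⟩ | ⟨-, l⟩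
    · obtain ⟨x, hx, nx⟩ := z.ex_der
      exact nx (cA (der (commutator_mono inf_le_left inf_le_left hx)))
    obtain ⟨x, hx, nx⟩ := SetLike.not_le_iff_exists.1 fun e : S ⊓ K ≤ 𝐂(K) => by
      have := l.card
      rw [relIndex_eq_one.2 e] at this
      omega
    have h1 := U.four_le (T := S ⊓ K) (x := x) h4 fun a ha => by
      obtain ⟨s, hs, rfl⟩ := full x hx.1 (fun k => nx (cA k)) a ha
      have ns : s ∈ 𝐍(K) := P14.comp_norm hK trivial hx.2 fun k =>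
        nx (inv_mem_iff.1 ((mul_mem_cancel_left k).1 (cA ha)))
      obtain ⟨m, hm⟩ := P14.pow_two_pow hS.pgrp hs
      obtain ⟨k, hk, c, hc, rfl⟩ := (mem_sup_of_norm (cent_le_norm K)).1
        (l.inner s ns ⟨m, hm ▸ one_mem _⟩)
      have kc : Commute k c := mem_centralizer_iff.1 hc k hk
      rw [kc.mul_pow, mul_eq_one_iff_eq_inv] at hm
      obtain ⟨j, hj⟩ := P14.pow_two_pow z2 (x := k ^ 2 ^ m)
        ⟨pow_mem hk _, hm ▸ inv_mem (pow_mem hc _)⟩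
      rw [← pow_mul, ← pow_add] at hj
      refine ⟨k, hT.le_of_norm Nat.prime_two (P14.two_zp hj) (zpowers_le.2 hk) (zpowers_le.2 ?_)
        (mem_zpowers k), ?_⟩
      · exact (mul_mem_cancel_right (cent_le_norm _ (cent_anti inf_le_right hc))).1
          (zpowers_le.1 (H1.le_normalizer_inf (zpowers_le.2 (le_normalizer hs)) (zpowers_le.2 ns)))
      · rw [commutatorElement_def, commutatorElement_def, mul_assoc k c,
          ← mem_centralizer_iff.1 hc x hx.2]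
        group
    have h2 := H1.card_lt_of_lt (lt_of_le_of_ne (inf_le_inf_right (S ⊓ K) (cent_le_cent1 hx.2))
      fun e => nx (e.ge ⟨self_mem_cent1 x, hx⟩).1)
    have h5 := H1.card_inf_mul_relIndex 𝐂(K) (S ⊓ K)
    rw [l.card] at h5
    omega
  have hc := H2.inf_centralizer_fittingOf_le_of_layerOf_eq_bot hE
  rw [hF] at hc
  have nQ := (pCoreOf_normal 2 (⊤ : Subgroup G)).2
  have QS := hS.pCoreOf_le Nat.prime_two
  have pQ := H2.isPGroup_pCoreOf 2 (⊤ : Subgroup G)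
  generalize pCoreOf 2 (⊤ : Subgroup G) = Q at hc nQ QS pQ
  have hC : IsPGroup 2 (centMod Q A ⊓ 𝐂(A) : Subgroup G) :=
    H2.isPGroup_of_forall_prime fun p hp hd => of_not_not fun p2 => by
      obtain ⟨P, hP, cP⟩ := exists_le_card_eq_prime hp hd
      have ho := P6.odd_of_isPGroup hp p2 (isPGroup_of_card_prime cP)
      have e := H1.commutator_commutator_eq (le_top.trans nQ) (P7.cop_two_odd pQ ho).symm
      have : P ≤ Q := (le_inf le_top (cent_comm.1 (comm_eq_bot_iff.1 (eq_bot_iff.2 (e.ge.trans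
        ((commutator_mono (le_centMod_iff.1 (hP.trans inf_le_left)).2 le_rfl).trans
        (comm_eq_bot_iff.2 (cent_comm.1 (hP.trans inf_le_right))).le)))))).trans hc
      exact ne_bot_of_card_prime (cP ▸ hp) (eq_bot_iff.2 fun x hx =>
        P7.eq_one_of_two_odd pQ ho (this hx) hx)
  rw [← H1.sylow_maximal hS.ndvd (le_inf (le_centMod_iff.2
    ⟨le_top.trans nA, (commutator_mono QS le_rfl).trans der⟩) cen) le_top hC]
  exact H1.le_normalizer_inf (norm_le_norm_centMod nQ nA) (H1.le_normalizer_centralizer nA)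

theorem U.BH.cent_of_inv [IsSimpleGroup G] {S A : Subgroup G} (h : U.BH S A) {t s y : G}
    (ht : t ∈ A) (t1 : t ≠ 1) (hs : s ∈ A) (s1 : s ≠ 1) (st : s ≠ t) (hy : y ∈ 𝐂[t]) (y1 : y ≠ 1)
    (ho : Odd (orderOf y)) (hi : s * y * s = y⁻¹) : 𝐂[y] ≤ 𝐂[t] := by
  rw [← Nat.card_zpowers] at ho
  obtain ⟨p, hp, hd⟩ := Nat.exists_prime_and_dvd (n := 𝐨(zpowers y)) fun e =>
    y1 (zpowers_eq_bot.1 (card_eq_one.1 e))
  obtain ⟨P, hP, cP⟩ := exists_le_card_eq_prime hp hd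
  have i : ∀ z ∈ zpowers y, s * z * s = z⁻¹ := fun z hz => by
    obtain ⟨n, rfl⟩ := (mem_powers_iff_mem_zpowers.2 hz : z ∈ Submonoid.powers y)
    exact P6.inverts_pow (h.sqA hs) hi n
  have zp := h.kk ht t1 hs s1 st hp (fun e => ho.not_two_dvd_nat (e ▸ hd))
    (isPGroup_of_card_prime cP) (hP.trans (zpowers_le.2 hy)) fun z hz => i z (hP hz)
  obtain ⟨z, hz, z1⟩ := P.bot_or_exists_ne_one.resolve_left (ne_bot_of_card_prime (cP ▸ hp))
  refine le_trans (fun g hg => mem_cent1_comm.1 (zpowers_le.2 (mem_cent1_comm.1 hg) (hP hz)))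
    (h.b3 ht t1 hp (fun k => z1 ?_) (zp hz) z1)
  have := i z (hP hz)
  rw [mem_centralizer_iff.1 (k (zp hz)) s hs, mul_assoc, h.sqA hs, mul_one,
    eq_inv_iff_mul_eq_one] at this
  exact P5.eq_one_of_odd ho (hP hz) this

/-- An odd order subgroup normalized by `A` and a triality element is centralized by `A`. -/
theorem U.BH.one_weight [IsSimpleGroup G] {S A : Subgroup G} (h : U.BH S A) {d : G}
    (dA : d ∈ 𝐍(A)) (dn : d ∉ 𝐂(A)) {O : Subgroup G} (ho : Odd 𝐨(O)) (hA : A ≤ 𝐍(O))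
    (hd : d ∈ 𝐍(O)) : O ≤ 𝐂(A) := by
  by_contra hn
  obtain ⟨R, RO, nR, nt, mn⟩ := H1.exists_minimal_nontrivial (B := A ⊔ zpowers d) (A := A)
    (sup_le hA (zpowers_le.2 hd)) fun e => hn (comm_eq_bot_iff.1 e)
  have oR := P6.odd_of_le RO ho
  have cR : ⁅R, R⁆ ≤ 𝐂(A) := comm_eq_bot_iff.1 (mn _ (H1.commutator_lt_of_isSolvable
    (P5.Mx.isSolvable_of_odd oR) fun e => nt (by rw [e, commutator_bot_left]))
    (H1.le_normalizer_commutator nR nR))
  have AR := le_sup_left.trans nR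
  obtain ⟨v, hv, v1, k⟩ : ∃ v ∈ A, v ≠ 1 ∧ ¬ R ⊓ 𝐂[v] ≤ 𝐂(A) := by
    by_contra! k
    exact nt (comm_eq_bot_iff.2 (H1.le_of_forall_centralizer_le h.f4.isMulCommutative
      h.f4.not_isCyclic AR (h.f4.coprime oR) k))
  obtain ⟨e1, e2⟩ := h.f4.tri dA dn hv v1
  have hv' := U.F4.conj_mem dA hv
  have v1' : d * v * d⁻¹ ≠ 1 := fun e => v1 (by simpa using e)
  obtain ⟨x, hx, nx⟩ := SetLike.not_le_iff_exists.1 k
  obtain ⟨b, hb, w, hw, c1, c2, rfl⟩ := P5.Mx.exists_cent_mul_inv (P6.odd_of_le inf_le_left oR)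
    (h.sqA hv') (H1.le_normalizer_inf AR ((h.le.trans (h.le_cent1 hv)).trans le_normalizer) hv') hx
  have w1 : w ≠ 1 := fun e => nx (by
    rw [e, mul_one]
    exact h.cent_inf hv v1 hv' v1' e1 ⟨hb.2, mem_cent1_iff_commute.2 c1.symm⟩)
  have m := P7.cjm (nR (mem_sup_right (mem_zpowers d))) hw.1
  have c3 : d * w * d⁻¹ ∈ 𝐂[d * v * d⁻¹] := cent1_conj v d ▸ conj_mem_conj hw.2 d
  have h1 := h.cent_of_inv hv' v1' (U.F4.conj_mem dA hv') (fun e => v1 (by simpa using e))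
    (fun e => e1 (by simpa using e)) c3 (fun e => w1 (by simpa using e))
    (oR.of_dvd_nat (orderOf_dvd_card_of_mem m)) (by rw [conj_mul, conj_mul, c2, conj_inv])
  generalize d * w * d⁻¹ = y at m c3 h1
  generalize d * v * d⁻¹ = v' at *
  have c := commutator_mem_commutator hw.1 m
  have i := h.f4.inv_eq hv'
  have h2 : ⁅w⁻¹, y⁆ = ⁅w, y⁆ := by
    rw [← c2, ← mem_cent1_iff_conj.1 (mem_cent1_comm.1 c3)]
    conv_lhs => enter [1, 2]; rw [← i]
    rw [← conjugate_commutatorElement, mem_centralizer_iff.1 (cR c) v' hv', mul_inv_cancel_right,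
      mem_cent1_iff_conj.1 (mem_cent1_comm.1 c3)]
  have h3 : ⁅w, y⁆ = 1 := by
    have k1 : w * ⁅w, y⁆ * w⁻¹ = ⁅w, y⁆⁻¹ := by
      conv_lhs => rw [← h2]
      simp only [commutatorElement_def]; group
    obtain ⟨n, hn⟩ := oR.of_dvd_nat (orderOf_dvd_card_of_mem hw.1)
    have k2 : Commute (w ^ 2) ⁅w, y⁆ := P5.Mx.commute_of_conj_eq (by
      calc _ = w * (w * ⁅w, y⁆ * w⁻¹) * w⁻¹ := by rw [pow_two]; group
        _ = _ := by rw [k1, ← conj_inv, k1, inv_inv])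
    have k3 : Commute w ⁅w, y⁆ := by
      have := (k2.pow_left n).inv_left
      rwa [← pow_mul, inv_eq_of_mul_eq_one_right ((pow_succ w _).symm.trans
        (hn ▸ pow_orderOf_eq_one w))] at this
    rw [k3.eq, mul_inv_cancel_right, eq_inv_iff_mul_eq_one] at k1
    exact P5.eq_one_of_odd oR (der_le R c) k1
  have h4 := mem_cent1_iff_commute.1 (h1 (mem_cent1_iff_commute.2
    (commutatorElement_eq_one_iff_commute.1 h3).symm))
  rw [h4.eq, mul_assoc, h.sqA hv', mul_one, eq_inv_iff_mul_eq_one] at c2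
  exact w1 (P5.eq_one_of_odd oR hw.1 c2)

theorem b6 {A S : Subgroup G} (gl : Gl A S) (f4 : U.F4 A) (cen : S ≤ 𝐂(A))
    (loc : ∀ X : Subgroup G, X ≠ ⊤ → S ≤ X → X ≤ od X ⊔ X ⊓ 𝐍(A))
    (t0 : ∀ M : Subgroup G, M ≠ ⊤ → ∀ t ∈ A, t ≠ 1 → 𝐂[t] ≤ M → M ⊓ 𝐍(A) ≤ 𝐂(A))
    {Z W : Subgroup G} {d : G} (ZS : Z ≤ S) (sup : A ⊔ W = Z) (disj : A ⊓ W = ⊥)
    (el : IsElementaryAbelian 2 Z) (cW : 𝐨(W) = 4) (der : ⁅S, S⁆ ≤ A)
    (full : ∀ u ∈ S, u ∉ A → ∀ a ∈ A, ∃ x ∈ S, ⁅x, u⁆ = a) (dW : d ∈ 𝐂(W)) (dA : d ∈ 𝐍(A))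
    (dn : d ∉ 𝐂(A))
    (key : ∀ f ∈ W, f ≠ 1 → ∀ y ∈ 𝐂[f], Odd (orderOf y) → ∀ b ∈ A, ∀ g ∈ W, b * y * b⁻¹ = y⁻¹ →
      g * y * g⁻¹ = y⁻¹ → y ∈ H2.ZC.oc f) : False := by
  haveI := gl.sim
  have two := gl.syl.pgrp
  have h : U.BH S A := by
    refine ⟨gl.syl, f4.card, f4.sq, gl.le, cen, gl.sc, fun X X1 hX => ?_, ?_,
      fun t ht t1 M h1 h2 => t0 M h1 t ht t1 h2⟩
    · have hA := gl.le.trans hX
      have := b6_norm (G := Qt X) (S := P7.br X S) (A := P7.br X A) gl.z (P18.A.i3_bar gl.i3 X _)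
        (gl.k3.mono ((Nat.le_of_dvd Nat.card_pos (P7.KO.card_bar_dvd X)).trans_lt
          ((H1.card_lt_of_lt (Ne.lt_top X1)).trans_eq card_top))) (P7.KO.Od_bar X)
        (H1.bar_top (Y := X) (N := Od X) ▸ (gl.syl.of_le hX le_top).bar Nat.prime_two le_rfl)
        (by rw [H1.card_bar hA, ← inf_relIndex_right, H7.SC.od_inf (two.to_le gl.le),
          relIndex_bot_left, f4.card]) (H1.bar_mono gl.le)
        ((H1.bar_le_centralizer_iff hX hA).2 (comm_eq_bot_iff.2 cen ▸ bot_le))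
        (by
          rw [P7.br_norm hA (two.to_le gl.le), ← H1.bar_top,
            H1.bar_le_bar_iff (P7.Od_le X) le_rfl inf_le_left, sup_comm]
          exact loc X X1 hX)
        (by rw [← H1.bar_commutator hX hX]; exact H1.bar_mono der) fun z hz hn b hb => by
          obtain ⟨x, hx, rfl⟩ := H1.mem_bar.1 hz
          obtain ⟨a, ha, rfl⟩ := H1.mem_bar.1 hb
          obtain ⟨w, hw, e⟩ := full x hx (fun k => hn (H1.qmk_mem_bar k)) a ha
          exact ⟨pr X ⟨w, hX hw⟩, H1.qmk_mem_bar hw, by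
            rw [← map_commutatorElement]; exact congrArg _ (Subtype.ext e)⟩
      rwa [P7.br_norm hX two, ← H1.bar_top, H1.bar_le_bar_iff (P7.Od_le X) le_rfl inf_le_left,
        sup_comm] at this
    · by_contra! k
      exact dn ((((gl.syl.of_le cen le_top).frattini Nat.prime_two ⟨cent_le_norm A,
        H1.normalizer_le_normalizer_centralizer A⟩).ge.trans (sup_le le_rfl fun x hx => k x hx.2)) dA)
  have WZ : W ≤ Z := sup ▸ le_sup_right
  have AZ : A ≤ Z := sup ▸ le_sup_left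
  have WS := WZ.trans ZS
  have sq : ∀ g ∈ W, g * g = 1 := fun g hg => by rw [← pow_two]; exact el.2 g (WZ hg)
  have cZ : Z ≤ 𝐂(Z) := isMulComm_iff_le_cent.1 el.1
  obtain ⟨a, ha, a1, -⟩ := f4.exists_ne 1
  obtain ⟨b, hb, b1, ba⟩ := f4.exists_ne a
  obtain ⟨p, hp, hV⟩ := h.b2 ha a1
  have inv := h.inverts ha a1 hp hV hb b1 ba
  have nP := (h.le_cent1 ha).trans (H2.le_normalizer_pCoreOf p 𝐂[a])
  have oP := P6.odd_of_isPGroup hp (h.p2 ha a1 hp hV) (H2.isPGroup_pCoreOf p 𝐂[a])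
  have P1 : pCoreOf p 𝐂[a] ≠ ⊥ := fun e => hV (e ▸ bot_le)
  generalize pCoreOf p 𝐂[a] = P at inv nP oP P1
  have fx : ∀ z ∈ P, z ∈ 𝐂[b] → z = 1 := fun z hz c => by
    have := inv z hz
    rw [(mem_cent1_iff_commute.1 c).eq, mul_assoc, f4.sq b hb, mul_one, eq_inv_iff_mul_eq_one] at this
    exact P5.eq_one_of_odd oP hz this
  obtain ⟨f, hf, f1, k⟩ : ∃ f ∈ W, f ≠ 1 ∧ ¬ P ⊓ 𝐂[f] ≤ 𝐂(W) := by
    by_contra! k
    have c := H1.le_of_forall_centralizer_le (elemAb_of_le WZ el).1 (fun hc => by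
      obtain ⟨g, hg⟩ := IsCyclic.exists_ofOrder_eq_natCard (α := W)
      have : orderOf g ∣ 2 := orderOf_dvd_of_pow_eq_one (Subtype.ext (el.2 g (WZ g.2)))
      rw [hg, cW] at this
      omega) (WS.trans nP) (cW ▸ (Nat.coprime_two_left.2 oP).pow_left 2) k
    obtain ⟨u, hu, u1⟩ := W.bot_or_exists_ne_one.resolve_left fun e => by
      rw [e, card_bot] at cW; omega
    obtain ⟨x, hx, e⟩ := full u (WS hu) (fun k => u1 (mem_bot.1 (disj ▸ mem_inf.2 ⟨k, hu⟩))) b hb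
    have c1 := c.trans (cent_le_cent1 hu)
    refine P1 (eq_bot_iff.2 fun z hz => fx z hz (mem_cent1_comm.1 ?_))
    rw [← e, commutatorElement_def]
    refine mul_mem (mem_cent1_comm.1 ?_) (inv_mem (mem_cent1_comm.1 (c1 hz)))
    rw [cent1_conj]
    exact mem_conj.2 (by simpa using c1 (P7.cjm (nP (inv_mem hx)) hz))
  obtain ⟨x, hx, nx⟩ := SetLike.not_le_iff_exists.1 k
  obtain ⟨g, hg, ng⟩ : ∃ g ∈ W, ¬ g * x = x * g := by
    by_contra! k
    exact nx (mem_centralizer_iff.2 k)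
  have Zf : Z ≤ 𝐂[f] := cZ.trans (cent_le_cent1 (WZ hf))
  obtain ⟨c, hc, y, hy, c1, c2, rfl⟩ := P5.Mx.exists_cent_mul_inv (P6.odd_of_le inf_le_left oP)
    (sq g hg) (H1.le_normalizer_inf (ZS.trans nP) (Zf.trans le_normalizer) (WZ hg)) hx
  have hO := key f hf f1 y hy.2 (oP.of_dvd_nat (orderOf_dvd_card_of_mem hy.1)) b hb g hg
    (by rw [f4.inv_eq hb, inv y hy.1]) (by rw [P5.inv_eq_of_sq (sq g hg), c2])
  have := h.one_weight dA dn (P6.odd_Od 𝐂[f]) ((AZ.trans Zf).trans (P7.le_norm_Od _))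
    (P7.le_norm_Od _ (cent_le_cent1 hf dW)) hO
  exact ng (by rw [fx y hy.1 (cent_le_cent1 hb this), mul_one, c1.eq])

end Cfsg.Agent.P18
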