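/-
P18, chapter N: no offenders (port of P14/N2).
-/
import Cfsg.Agent.P18.N1
import Cfsg.Agent.P18.A0
import Cfsg.Agent.P14.C

set_option autoImplicit false
set_option linter.unusedSectionVars false

namespace Cfsg.Agent.P18.N

open Subgroup Cfsg Cfsg.Agent Cfsg.Agent.FT Cfsg.Agent.P14 Cfsg.Agent.P14.N
open Cfsg.Agent.P14.St (I3)
open Cfsg.Agent.H2 (CompIn)
open scoped commutatorElement

universe u

/-- The theorem holds below order `n`. -/
def K3 (n : ℕ) : Prop := ∀ (L : Type u) [Group L] [Finite L], Nat.card L < n → I3 L →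
  IsSimpleGroup L → ¬ IsMulCommutative L →
  ¬ 3 ∣ Nat.card L ∨ ∃ f, P7.IsL2 (⊤ : Subgroup L) (3 ^ (2 * f + 1))

variable {G : Type u} [Group G] [Finite G]

/-- Involutions normalize the components of order divisible by three. -/
theorem norm_comp (h3 : I3 G) {X L : Subgroup G} (hL : CompIn X L) (hc : L ⊓ 𝐂(L) = ⊥)
    (hd : 3 ∣ 𝐨(L)) {t : G} (ht : t ∈ X) (tt : t * t = 1) : t ∈ 𝐍(L) := by
  by_contra hn
  haveI := Fact.mk Nat.prime_three
  obtain ⟨⟨y, hy⟩, ho⟩ := exists_prime_orderOf_dvd_card' 3 hd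
  replace ho : orderOf y = 3 := (Subgroup.orderOf_coe _).trans ho
  have y3 : y ^ 3 = 1 := ho ▸ pow_orderOf_eq_one y
  have h1 : t * y * t⁻¹ ∈ 𝐂(L) := (hL.conj_of_mem_normalizer (le_norm_self X ht)).le_centralizer_of_ne
    hL (fun e => hn (conj_eq_self_iff.1 e)) (conj_mem_conj hy t)
  have h2 := h3 _ t (by
    rw [(show Commute y _ from mem_cent.1 (inv_mem h1) y hy).mul_pow, inv_pow, conj_pow, y3]
    group) (inv_two tt y)
  rw [mul_inv_eq_one] at h2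
  rw [← h2] at h1
  rw [mem_bot.1 (hc ▸ mem_inf.2 ⟨hy, h1⟩ : y ∈ (⊥ : Subgroup G)), orderOf_one] at ho
  omega

theorem ex_l2 (h3 : I3 G) {X A L : Subgroup G} (hA : IsElementaryAbelian 2 A) (hAX : A ≤ X)
    (hL : CompIn X L) (hc : L ⊓ 𝐂(L) = ⊥) {n : ℕ} (h : P7.IsL2 L (3 ^ n)) (hn : ¬ A ≤ 𝐂(L)) :
    ∃ y ∈ L, ∃ t r, Ex A y t r ∧ y ^ r = 1 := by
  obtain ⟨F, _, π, hπ, hq⟩ := h.cov
  have one : ∀ x ∈ L, x ∈ 𝐂(L) → x = 1 := fun x h1 h2 => mem_bot.1 (hc ▸ mem_inf.2 ⟨h1, h2⟩)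
  have hd : 3 ∣ 𝐨(L) := (dvd_pow_self 3 (show n ≠ 0 by have := h.five; rintro rfl; omega)).trans
    ((hπ.card_PU.trans hq) ▸ Subgroup.card_dvd_of_le hπ.PU_le)
  have dec : ∀ a ∈ A, ∃ s ∈ L, s⁻¹ * a ∈ 𝐂(L) := fun a ha => by
    obtain ⟨s, hs, c, hc', rfl⟩ := (mem_sup_of_norm (cent_le_norm L)).1 (inner h3 hπ hq h.mod
      h.five (norm_comp h3 hL hc hd (hAX ha) (sq hA ha)) (k := 1) (by
        rw [pow_one, hA.2 a ha]; exact one_mem _))
    exact ⟨s, hs, by rwa [inv_mul_cancel_left]⟩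
  have act : ∀ s a, s⁻¹ * a ∈ 𝐂(L) → ∀ y ∈ L, a * y * a⁻¹ = s * y * s⁻¹ := fun s a e y hy => by
    calc _ = s * (s⁻¹ * a * y) * a⁻¹ := by group
      _ = _ := by rw [← mem_cent.1 e y hy]; group
  obtain ⟨t, ht, h2⟩ := not_forall₂.1 hn
  obtain ⟨s, hs, h4⟩ := dec t ht
  obtain ⟨r, y, hr, r2, hy, y1, yr, h5, h6⟩ := l2_inv hπ hq h.mod h.five
    (D := {s | s ∈ L ∧ ∃ a ∈ A, s⁻¹ * a ∈ 𝐂(L)}) (fun _ h => h.1) (by
      rintro u ⟨hu, a, ha, e⟩ v ⟨hv, b, hb, e'⟩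
      rw [← commutatorElement_eq_one_iff_commute]
      refine one _ (mul_mem (mul_mem (mul_mem hu hv) (inv_mem hu)) (inv_mem hv))
        (mem_cent.2 fun y hy => ?_)
      have k : ∀ {c z}, c ∈ L → z ∈ L → c * z * c⁻¹ ∈ L := fun h1 h2 =>
        mul_mem (mul_mem h1 h2) (inv_mem h1)
      obtain ⟨z, hz, rfl⟩ : ∃ z ∈ L, y = v * (u * z * u⁻¹) * v⁻¹ :=
        ⟨_, k (inv_mem hu) (k (inv_mem hv) hy), by group⟩
      have k1 : u * (v * z * v⁻¹) * u⁻¹ = v * (u * z * u⁻¹) * v⁻¹ := by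
        rw [← act u a e _ (k hv hz), ← act v b e' _ (k hu hz), ← act u a e z hz,
          ← act v b e' z hz]
        calc _ = a * b * z * (a * b)⁻¹ := by group
          _ = _ := by rw [(comm hA ha hb).eq]; group
      nth_rw 1 [← k1]
      simp only [commutatorElement_def]
      group) (by
      rintro u ⟨hu, a, ha, e⟩
      refine one _ (mul_mem hu hu) (mem_cent.2 fun y hy => ?_)
      have k1 : u * (u * y * u⁻¹) * u⁻¹ = y := by
        rw [← act u a e _ (mul_mem (mul_mem hu hy) (inv_mem hu)), ← act u a e y hy]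
        calc _ = a * a * y * (a * a)⁻¹ := by group
          _ = _ := by rw [sq hA ha]; group
      nth_rw 1 [← k1]
      group) ⟨hs, t, ht, h4⟩ (fun e => h2 (by simpa [e] using h4))
  rw [← act s t h4 y hy] at h5
  refine ⟨y, hy, t, r, ⟨hr, r2, ht, y1, ⟨1, by rw [pow_one, yr]⟩, h5, fun d hd e => ?_⟩, yr⟩
  have h11 : (𝐂[y] : Subgroup G).relIndex A ≤ 2 := Nat.le_of_dvd two_pos
    (relIndex_dvd_two_iff.2 ⟨t, ht, fun b hb => by
      obtain ⟨v, hv, e⟩ := dec b hb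
      rcases h6 v ⟨hv, b, hb, e⟩ with h7 | h7 <;> rw [← act v b e y hy] at h7
      · exact Or.inr (mem_cent1_iff_conj.2 h7)
      · refine Or.inl (mem_cent1_iff_conj.2 ?_)
        calc _ = b * (t * y * t⁻¹) * b⁻¹ := by group
          _ = (b * y * b⁻¹)⁻¹ := by rw [h5]; group
          _ = y := by rw [h7, inv_inv]⟩)
  have h12 : 3 ≤ d := by
    by_contra h
    interval_cases d
    · exact hr.one_lt.ne' (Nat.dvd_one.1 e)
    · obtain rfl := (Nat.prime_dvd_prime_iff_eq hr Nat.prime_three).1 e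
      exact y1 (h3 y t yr h5)
  have := Nat.pow_le_pow_left h11 4
  have := Nat.pow_le_pow_right two_pos h12
  omega

/-- Components with trivial centre. -/
theorem comp_cases (h3 : I3 G) {X L : Subgroup G} (hL : CompIn X L) (hc : L ⊓ 𝐂(L) = ⊥)
    (hK : K3.{u} (𝐨(L) + 1)) : ¬ 3 ∣ 𝐨(L) ∨ ∃ f, P7.IsL2 L (3 ^ (2 * f + 1)) := by
  have h1 : center L = ⊥ := eq_bot_iff.2 fun x hx => Subtype.ext (mem_bot.1 (hc ▸ mem_inf.2
    ⟨x.2, mem_cent.2 fun y hy => congrArg Subtype.val (mem_center_iff.1 hx ⟨y, hy⟩)⟩))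
  haveI := hL.2.2
  refine (hK L (Nat.lt_succ_self _) (h3.subgroup L)
    ((QuotientGroup.quotientMulEquivOfEq h1).trans QuotientGroup.quotientBot).symm.isSimpleGroup
    fun e => H2.QS.not_isSolvable hL.2 (H1.isSolvable_of_isMulCommutative e)).imp_right ?_
  rintro ⟨f, ⟨F, _, _, hF, ⟨e⟩⟩, h8, h5⟩
  exact ⟨f, ⟨F, _, _, hF, ⟨topEquiv.symm.trans e⟩⟩, h8, h5⟩

/-- The case of a normalized subgroup of odd order. -/
theorem ex_odd {A N : Subgroup G} (hA : IsElementaryAbelian 2 A) (hAN : A ≤ 𝐍(N))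
    (hN : 𝐨(N).Coprime 2) (h3 : I3 G) (hn : ¬ N ≤ 𝐂(A)) : ∃ y ∈ N, ∃ t r, Ex A y t r := by
  obtain ⟨B, hB, h1, h2⟩ : ∃ B ≤ A, B.relIndex A = 2 ∧ ¬ N ⊓ 𝐂(B) ≤ 𝐂(A) := by
    by_contra! h
    exact hn (H1.le_of_forall_hyperplane Nat.prime_two hA (fun e => hn (cent_comm.1 (e.trans_le bot_le))) hAN
      (H1.coprime_card_of_isPGroup (H2.isPGroup_of_elemAb hA) hN).symm h)
  obtain ⟨c, hc, h4⟩ := not_forall₂.1 h2
  obtain ⟨t, ht, h5⟩ := not_forall₂.1 (mt mem_cent.2 h4)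
  have h6 : c * (t * c * t⁻¹)⁻¹ ∈ N ⊓ 𝐂(B) := mul_mem hc (inv_mem ((mem_normalizer_iff.1
    (H1.le_normalizer_inf_centralizer_of_comm hA.1 hB hAN ht) c).1 hc))
  have h7 := inv_two (sq hA ht) c
  have h8 : orderOf (c * (t * c * t⁻¹)⁻¹) ≠ 1 := fun e => h5 (by
    rw [orderOf_eq_one_iff, mul_inv_eq_one, eq_mul_inv_iff_mul_eq] at e
    exact e.symm)
  generalize c * (t * c * t⁻¹)⁻¹ = g at h6 h7 h8
  obtain ⟨r, hr, h9⟩ := Nat.exists_prime_and_dvd h8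
  have ho := orderOf_pow_orderOf_div (orderOf_pos g).ne' h9
  have h10 := h9.trans (orderOf_dvd_card_of_mem h6.1)
  have r2 : r ≠ 2 := fun e => Nat.prime_two.coprime_iff_not_dvd.1 hN.symm (e ▸ h10)
  refine ⟨_, pow_mem h6.1 _, t, r, hr, r2, ht, fun e => hr.one_lt.ne' (by rw [← ho, e, orderOf_one]),
    ⟨1, by rw [pow_one]; exact orderOf_dvd_iff_pow_eq_one.1 ho.dvd⟩,
    inv_zp h7 (npow_mem_zpowers _ _), fun d hd e => ?_⟩
  have h11 := h1 ▸ relIndex_le_of_le_left (L := A) (mem_cent_iff_cent1.1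
    (pow_mem h6.2 (orderOf g / r))) FiniteIndex.index_ne_zero
  have h12 : 3 ≤ d := by
    by_contra h
    interval_cases d
    · exact hr.one_lt.ne' (Nat.dvd_one.1 e)
    · obtain rfl := (Nat.prime_dvd_prime_iff_eq hr Nat.prime_three).1 e
      have h13 := h3 _ t (orderOf_dvd_iff_pow_eq_one.1 ho.dvd) (inv_zp h7 (npow_mem_zpowers _ _))
      rw [h13, orderOf_one] at ho
      omega
  have := Nat.pow_le_pow_left h11 4
  have := Nat.pow_le_pow_right two_pos h12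
  omega

/-- The general case. -/
theorem ex_gen (h3 : I3 G) (hK : K3.{u} (Nat.card G + 1))
    (hO : pCore 2 G = ⊥) {A : Subgroup G} (hA : IsElementaryAbelian 2 A) (h0 : A ≠ ⊥) :
    ∃ y t r, Ex A y t r := by
  have nO := pPrimeCoreOf_normal 2 (⊤ : Subgroup G)
  have hN : 𝐨(H2.pPrimeCoreOf 2 (⊤ : Subgroup G)).Coprime 2 :=
    (Nat.prime_two.coprime_iff_not_dvd.2 (not_dvd_card_pPrimeCoreOf Nat.prime_two _)).symm
  have hF := H2.fittingOf_le_sup Nat.prime_two (⊤ : Subgroup G)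
  rw [H2.pCoreOf_top, hO, bot_sup_eq] at hF
  have hmax : ∀ K, H2.SnIn ⊤ K → 𝐨(K).Coprime 2 → K ≤ H2.pPrimeCoreOf 2 (⊤ : Subgroup G) :=
    fun K => H2.SnIn.le_pPrimeCoreOf
  generalize H2.pPrimeCoreOf 2 (⊤ : Subgroup G) = N at nO hN hF hmax
  by_cases h1 : N ≤ 𝐂(A)
  swap
  · obtain ⟨y, -, h⟩ := ex_odd hA (le_top.trans nO.2) hN h3 h1
    exact ⟨y, h⟩
  have hAp := H2.isPGroup_of_elemAb hA
  obtain ⟨L, hL, h2⟩ : ∃ L, CompIn ⊤ L ∧ ¬ A ≤ 𝐂(L) := by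
    by_contra! h
    refine h0 (eq_bot_iff.2 ((le_inf le_rfl (le_trans ?_ hF)).trans
      (H1.inf_eq_bot_of_coprime' (H1.coprime_card_of_isPGroup hAp hN).symm).le))
    refine le_trans (le_inf le_top ?_) (H2.inf_centralizer_fstarOf_le_fittingOf ⊤)
    rw [H2.fstarOf_eq, cent_sup, H2.layerOf_eq_sSup]
    exact le_inf (cent_comm.1 (sSup_le fun K hK => cent_comm.1 (h K hK)))
      (cent_comm.1 (hF.trans h1))
  haveI : N.Normal := normal_iff_top_le.2 nO.2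
  have LN : L ≤ 𝐂(N) := (hL.le_or_le_centralizer (H2.SnIn.of_normal nO.1 nO.2)).resolve_left
    fun e => h2 (cent_comm.1 (e.trans h1))
  have key : ∀ B : Subgroup G, B.map (QuotientGroup.mk' N) ≤ 𝐂(L.map (QuotientGroup.mk' N)) →
      B ≤ 𝐂(L) := fun B hB => by
    have h4 : ⁅L, B⁆ ≤ 𝐂(L) := by
      refine le_trans ?_ (cent_comm.1 LN)
      rw [← QuotientGroup.ker_mk' N, ← Subgroup.map_eq_bot_iff, map_commutator,
        commutator_eq_bot_iff_le_centralizer]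
      exact cent_comm.1 hB
    have h5 := commutator_eq_bot_iff_le_centralizer.2 h4
    exact H1.commutator_eq_bot_iff_le_centralizer'.1 (H2.QS.commutator_eq hL.2 ▸
      commutator_commutator_eq_bot_of_rotate h5 (by rwa [commutator_comm B]))
  have hL' : CompIn ⊤ (L.map (QuotientGroup.mk' N)) := ⟨by
    simpa only [Subgroup.map_top_of_surjective _ (QuotientGroup.mk'_surjective N)] using
      hL.1.map (QuotientGroup.mk' N), H2.QS.map _ hL.2 fun e =>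
      H2.QS.not_le_centralizer hL.2 (key L (e.trans_le bot_le))⟩
  obtain ⟨T, hT, hAT⟩ := exists_isSyl_ge Nat.prime_two (hAp.map (QuotientGroup.mk' N)) le_top
  have hd : 𝐨(L.map (QuotientGroup.mk' N)) ∣ Nat.card G :=
    (card_map_dvd L _).trans (card_subgroup_dvd_card L)
  have hc : L.map (QuotientGroup.mk' N) ⊓ 𝐂(L.map (QuotientGroup.mk' N)) = ⊥ := by
    refine eq_bot_iff.2 ?_
    rintro _ ⟨⟨x, hx, rfl⟩, h4⟩
    exact mem_bot.2 ((QuotientGroup.eq_one_iff x).2 (hF (hL.inf_centralizer_le_fittingOf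
      ⟨hx, key (zpowers x) (by
        rw [MonoidHom.map_zpowers]; exact zpowers_le_of_mem h4) (mem_zpowers x)⟩)))
  have h3' := h3.of_surjective _ (QuotientGroup.mk'_surjective N)
  obtain ⟨y, s, r, h⟩ : ∃ y s r, Ex (A.map (QuotientGroup.mk' N)) y s r := by
    rcases comp_cases h3' hL' hc (fun M _ _ a => hK M (a.trans_le
      (Nat.succ_le_succ (Nat.le_of_dvd Nat.card_pos hd)))) with h | ⟨f, h⟩
    · obtain ⟨y, -, s, r, h, -⟩ := ex_ss zStmt hT (H5.elemAb_map _ hA) hAT hL' hc h (kh_thm _)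
        (mt (key A) h2)
      exact ⟨y, s, r, h⟩
    · obtain ⟨y, -, s, r, h, -⟩ := ex_l2 h3' (H5.elemAb_map _ hA) le_top hL' hc h (mt (key A) h2)
      exact ⟨y, s, r, h⟩
  obtain ⟨x, t, h4, -⟩ := h.lift_odd (QuotientGroup.mk'_surjective N)
    (by rwa [QuotientGroup.ker_mk']) hA
  exact ⟨x, t, r, h4⟩

theorem ns {K : ℕ → Prop} (hK3 : ∀ n, K n → K3.{u} n) : A.NS.{u} K := by
  intro G _ _ L V B h3 hK hR hV hn hB hBp A hA h1 h2
  haveI hN := H1.normal_subgroupOf_of_le (H1.le_normalizer_centralizer hn)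
  have hO : pCore 2 (L ⧸ (𝐂(V)).subgroupOf L) = ⊥ := by
    have h3 := hR (H1.unbar L 𝐂(V) (pCore 2 _)) ⟨H1.unbar_le _, H1.le_normalizer_unbar_of_normal _⟩
      fun k hk => by
        obtain ⟨hk1, hk2⟩ := H1.mem_unbar.1 hk
        obtain ⟨n, hn'⟩ := Agent.L.isPGroup_pCore 2 ⟨_, hk2⟩
        refine ⟨n, (H1.qmk_eq_one_iff (y := (⟨k, hk1⟩ : L) ^ 2 ^ n)).1 ?_⟩
        rw [map_pow]
        exact congrArg Subtype.val hn'
    rw [← H1.bar_unbar (pCore 2 _), H1.bar_eq_bot_iff (H1.unbar_le _)]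
    exact h3
  replace hBp := hBp.to_le hA
  replace hA := hA.trans hB
  clear hB B
  induction A using WellFoundedLT.induction with
  | ind A ih =>
  by_cases hAC : A ≤ 𝐂(V)
  · rw [relIndex_eq_one.2 hAC, one_pow]
    exact Nat.one_le_iff_ne_zero.2 FiniteIndex.index_ne_zero
  obtain ⟨y, s, r, h⟩ := ex_gen (P18.A.i3_bar h3 L 𝐂(V)) (hK3 _ hK) hO
    (A := (A.subgroupOf L).map (H1.qmk L 𝐂(V))) ⟨by
      rw [isMulComm_iff_le_cent, ← commutator_eq_bot_iff_le_centralizer, ← map_commutator,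
        Subgroup.map_eq_bot_iff]
      exact commutator_le.2 fun a ha b hb => H1.qmk_eq_one_iff.2
        (h1 (commutator_mem_commutator ha hb)), by
      rintro _ ⟨a, ha, rfl⟩
      rw [← map_pow]
      exact H1.qmk_eq_one_iff.2 (h2 a ha)⟩ fun e => hAC fun a ha => H1.qmk_eq_one_iff.1
        (mem_bot.1 (e ▸ mem_map_of_mem (H1.qmk L 𝐂(V)) (x := ⟨a, hA ha⟩) ha))
  obtain ⟨t, ht, rfl⟩ := h.tA
  obtain ⟨w, rfl⟩ := H1.qmk_surjective y
  obtain ⟨k, hk⟩ := h.yo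
  obtain ⟨x, -, ⟨j, hj⟩, h4, -⟩ := exists_lift _ h.rp h.r2 hk h.inv
  replace h := h.of_zp h4
  clear h4 hk w
  obtain ⟨B, hB⟩ : ∃ B, B = A ⊓ ((𝐂[H1.qmk L 𝐂(V) x]).comap (H1.qmk L 𝐂(V))).map L.subtype :=
    ⟨_, rfl⟩
  have hBA : B ≤ A := hB ▸ inf_le_left
  have mB : ∀ a (ha : a ∈ A), a ∈ B ↔ ⁅(x : G), a⁆ ∈ 𝐂(V) := fun a ha => by
    rw [hB, mem_inf, and_iff_right ha, ← show L.subtype ⟨a, hA ha⟩ = a from rfl,
      mem_map_iff_mem L.subtype_injective, mem_comap, mem_cent1_iff_commute,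
      ← commutatorElement_eq_one_iff_commute, ← map_commutatorElement, H1.qmk_eq_one_iff]
    rfl
  have k3 : B.relIndex A = (𝐂[H1.qmk L 𝐂(V) x] : Subgroup _).relIndex
      ((A.subgroupOf L).map (H1.qmk L 𝐂(V))) := by
    rw [hB, inf_relIndex_left, ← relIndex_comap]
    nth_rw 1 [← map_subgroupOf_eq_of_le hA]
    exact relIndex_map_map_of_injective _ _ L.subtype_injective
  have k4 : A ⊓ 𝐂(V) ≤ B := fun a ha => (mB a ha.1).2 (mul_mem ((mem_normalizer_iff.1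
    (H1.le_normalizer_centralizer hn x.2) a).1 ha.2) (inv_mem ha.2))
  have k5 : ⁅zpowers (x : G), B⁆ ≤ 𝐂(V) := by
    rw [commutator_comm]
    refine (H1.le_commStab_iff.1 (zpowers_le_of_mem (H1.mem_commStab.2
      ⟨H1.le_normalizer_centralizer hn x.2, fun b hb => ?_⟩))).2
    simpa using inv_mem ((mB b (hBA hb)).1 hb)
  have hlt : B < A := lt_of_le_of_ne hBA fun e => h.notMem (by
    have h5 := e.ge ht
    rw [hB] at h5
    exact (mem_map_iff_mem L.subtype_injective).1 h5.2)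
  have ih' := ih B hlt ((commutator_mono hBA hBA).trans h1) (fun a ha => h2 a (hBA ha))
    (hBp.to_le hBA) (hBA.trans hA)
  have e1 : 𝐂(V).relIndex A = 𝐂(V).relIndex B * B.relIndex A := by
    rw [← inf_relIndex_left A, ← relIndex_mul_relIndex _ _ _ k4 hBA, inf_comm,
      ← inf_relIndex_right, inf_assoc, inf_eq_right.2 hBA, inf_relIndex_right]
  have e2 : 𝐂(A).relIndex V = 𝐂(A).relIndex (V ⊓ 𝐂(B)) * 𝐂(B).relIndex V := by
    rw [← inf_relIndex_left V 𝐂(B), ← inf_relIndex_left (V ⊓ 𝐂(B)), relIndex_mul_relIndex _ _ _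
      inf_le_left inf_le_left, inf_assoc, inf_eq_right.2 (cent_anti hBA), inf_relIndex_left]
  have hVp := H2.isPGroup_of_elemAb hV
  have hx : (x : G) ^ r ^ j = 1 := congrArg Subtype.val hj
  have key : B.relIndex A ^ 2 ≤ 𝐂(A).relIndex (V ⊓ 𝐂(B)) := by
    by_contra hcon
    have e : V ⊓ 𝐂(B) = V ⊓ 𝐂(B ⊔ 𝐂(V)) := by
      rw [cent_sup, inf_comm 𝐂(B), ← inf_assoc, inf_eq_left.2 (cent_comm.1 le_rfl)]
    obtain ⟨i, hi⟩ := fp_relIndex_pow hBp B
    have h7 : (x : G) ∈ 𝐍(V ⊓ 𝐂(B)) := by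
      rw [e]
      refine H1.le_normalizer_inf (zpowers_le_of_mem (hn x.2))
        (H1.le_normalizer_centralizer (H2.le_normalizer_sup_of_commutator_le
          (zpowers_le_of_mem (H1.le_normalizer_centralizer hn x.2)) ?_)) (mem_zpowers _)
      rw [commutator_comm]
      exact k5.trans le_sup_right
    have h8 := h.bd
    rw [← k3] at h8
    have h9 : ∀ g : G, g ∈ 𝐍((⊥ : Subgroup G)) := fun g => normal_iff_top_le.1 inferInstance (mem_top g)
    have h5 := fp' h.rp h.r2 (t := (t : G)) hx (Y := V ⊓ 𝐂(B)) (Y0 := ⊥) (C := 𝐂(A))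
      hVp.to_inf_left h7 (h9 _) (fun g _ => h9 g) (h9 _) (fun y hy => ?_) (fun c hc => ?_) hi h8
      (not_le.1 hcon)
    · refine h.y1 (H1.qmk_eq_one_iff.2 (H2.mem_centralizer_of_commutator_le_centralizer hV.1 hVp
        (hBp.to_le hBA) (hBA.trans (hA.trans hn)) (hn x.2) (fp_cop h.rp h.r2 hx) k5 fun y hy => ?_))
      rw [cent_zpowers, mem_cent1_comm, mem_cent1_iff_commute]
      exact commutatorElement_eq_one_iff_commute.1 (mem_bot.1 (h5 y hy))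
    · have h6 : ((t * x * t⁻¹ * x : L) : G) ∈ 𝐂(V) := H1.qmk_eq_one_iff.1 (by
        simp only [map_mul, map_inv, h.inv, inv_mul_cancel])
      exact mem_bot.2 (commutatorElement_eq_one_iff_mul_comm.2 (mem_cent.1 h6 y hy.1))
    · exact mem_bot.2 (commutatorElement_eq_one_iff_mul_comm.2 (mem_cent.1 hc t ht).symm)
  rw [e1, e2, mul_pow, mul_comm]
  exact Nat.mul_le_mul key ih'

end Cfsg.Agent.P18.N
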