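/-
P18, chapter C: interface.  Port of `P14/C0` to groups without real elements of order three.
-/
import Cfsg.Agent.P14.C
import Cfsg.Agent.P7.L2Main
import Cfsg.Agent.H8.Frobenius

set_option autoImplicit false
set_option linter.unusedSectionVars false

namespace Cfsg.Agent.P14.C

open Subgroup Cfsg Cfsg.Agent Cfsg.Agent.FT MulAction Cfsg.Agent.P6
open Cfsg.Agent.P14.St (I3)
open scoped commutatorElement

universe u v

/-- `L ≅ PSL₂(3 ^ f)` with `f` odd. -/
def L3 (L : Type u) [Group L] : Prop := ∃ f : ℕ, P7.IsL2 (⊤ : Subgroup L) (3 ^ (2 * f + 1))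

/-- The theorem holds below order `n`. -/
def KC (n : ℕ) : Prop := ∀ (L : Type u) [Group L] [Finite L], Nat.card L < n → I3 L →
  IsSimpleGroup L → ¬ IsMulCommutative L → ¬ 3 ∣ Nat.card L ∨ L3 L

theorem KC.mono {m n : ℕ} (h : KC.{u} n) (hm : m ≤ n) : KC.{u} m :=
  fun L _ _ a => h L (a.trans_le hm)

/-- The simple group of chapter C. -/
structure Nin0 (G : Type u) (Ω : Type v) [Group G] [Finite G] [ICl G] [MulAction G Ω] : Prop
    extends SE G Ω where
  simple : IsSimpleGroup G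
  i3 : I3 G
  kh : KC.{u} (Nat.card G)
  two : Nontrivial Ω
  pt : ∀ α : Ω, ∃ A, Pt (stabilizer G α) A

/-- The same, with the structure of the proper subgroups. -/
structure Nin (G : Type u) (Ω : Type v) [Group G] [Finite G] [ICl G] [MulAction G Ω] : Prop
    extends Nin0 G Ω where
  ih : ∀ N : Subgroup G, N ≠ ⊤ → Rk2 N → (Fx Ω N).Nontrivial → BT Ω N

/-- The hypothesis of the endgame. -/
structure Nc (G : Type u) (Ω : Type v) [Group G] [Finite G] [ICl G] [MulAction G Ω] : Prop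
    extends Nin G Ω where
  comm : IComm G Ω
  tr2 : ∀ α β γ : Ω, α ≠ β → α ≠ γ → ∃ g ∈ stabilizer G α, g • β = γ
  l1 : ∀ r : ℕ, r.Prime → r ≠ 2 → ∀ X : Subgroup G, IsPGroup r X → (Fx Ω 𝐂(X)).Nonempty →
    ∀ δ : Ω, X ≤ stabilizer G δ → δ ∈ Fx Ω 𝐂(X)
  l2 : (∀ t : G, Inv t → In t) → ∀ r : ℕ, r.Prime → r ≠ 2 → ∀ X : Subgroup G, IsPGroup r X →
    Fx Ω 𝐂(X) = ∅ → ∀ δ ε ζ : Ω, X ≤ stabilizer G δ → X ≤ stabilizer G ε →
    X ≤ stabilizer G ζ → δ ≠ ε → δ ≠ ζ → ε = ζ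

/-- Piece B: a Sylow subgroup of a point stabilizer fixes no second point. -/
def CaseB3 : Prop := ∀ (G : Type u) [Group G] [Finite G] [ICl G] (Ω : Type u) [MulAction G Ω],
  Nin G Ω → (∀ (α : Ω) (M : Subgroup G) (g : G), stabilizer G α ≤ M → g ∈ M → g • α ≠ α → M = ⊤) →
  ∀ p : ℕ, p.Prime → p ≠ 2 → ¬ NW G Ω p → (∀ j : ℕ, ¬ p ∣ (2 ^ j) ^ 2 + 1) →
  ∀ (R : Subgroup G) (α β : Ω), α ≠ β → R ≤ stabilizer G β → IsSyl p R (stabilizer G α) → False

section I3

variable {G : Type u} [Group G] [Finite G]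

/-- An involution does not invert an element of order three. -/
theorem i3_inv (h : I3 G) {x a : G} (ha : Inv a) (hx : orderOf x = 3) : a * x * a ≠ x⁻¹ := fun e => by
  have := h x a (hx ▸ pow_orderOf_eq_one x) (by rwa [ha.inv_eq])
  rw [this, orderOf_one] at hx
  exact absurd hx (by decide)

theorem i3_not_dvd (h : I3 G) {Y : Subgroup G} (hY : Odd 𝐨(Y)) {c : G} (hc : Inv c)
    (hn : c ∈ 𝐍(Y)) : ¬ 3 ∣ 𝐂[c].relIndex Y := fun hd => by
  obtain ⟨x, -, ho, hi⟩ := exists_inverted_of_dvd Nat.prime_three hY hc hn hd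
  exact i3_inv h hc ho hi

/-- A 2-element that normalizes a 3-subgroup centralizes it. -/
theorem i3_cent (h : I3 G) {X : Subgroup G} (hX : IsPGroup 3 X) {k : ℕ} {g : G}
    (hg : g ^ 2 ^ k = 1) (hn : g ∈ 𝐍(X)) : g ∈ 𝐂(X) := by
  induction k generalizing g with
  | zero => rw [pow_zero, pow_one] at hg; rw [hg]; exact one_mem _
  | succ k ih =>
    have h2 : g * g ∈ 𝐂(X) := ih (by rw [← pow_two, ← pow_mul, ← pow_succ', hg]) (mul_mem hn hn)
    refine mem_cent.2 fun x hx => ?_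
    have h3 : x⁻¹ * (g * x * g⁻¹) ∈ X := mul_mem (inv_mem hx) ((mem_normalizer_iff.1 hn x).1 hx)
    obtain ⟨j, hj⟩ := hX ⟨_, h3⟩
    have h4 := h.pow (g := g) (congrArg Subtype.val hj) (by
      have h5 := mem_cent.1 h2 x hx
      calc g * (x⁻¹ * (g * x * g⁻¹)) * g⁻¹ = g * x⁻¹ * g⁻¹ * (g * g * x) * g⁻¹ * g⁻¹ := by group
        _ = _ := by rw [← h5]; group)
    rw [inv_mul_eq_one] at h4
    conv_lhs => rw [h4]
    group

/-- A group of 3-rank at most two without real elements of order three has a normal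
3-complement. -/
theorem i3_npc (h : I3 G) (hr : ∀ X : Subgroup G, IsPGroup 3 X → pRank 3 X ≤ 2) :
    HasNormalPComplement 3 G := by
  have := Fact.mk Nat.prime_three
  obtain ⟨P⟩ : Nonempty (Sylow 3 G) := inferInstance
  refine H8.hasNPC_of_primePow_centralizes P fun X hX _ g hg q k hq q3 hk => ?_
  have pX : IsPGroup 3 X := P.isPGroup'.to_le hX
  by_cases q2 : q = 2
  · exact i3_cent h pX (k := k) (by rw [← q2, ← hk, pow_orderOf_eq_one]) hg
  by_contra hc
  have h1 : q ∣ 𝐂(X).relIndex (zpowers g) := by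
    obtain ⟨j, -, hj⟩ := (Nat.dvd_prime_pow hq).1
      (hk ▸ Nat.card_zpowers g ▸ relIndex_dvd_card' 𝐂(X) (zpowers g))
    rcases j with _ | j
    · exact absurd (relIndex_eq_one.1 hj (mem_zpowers g)) hc
    · exact hj ▸ dvd_pow_self q j.succ_ne_zero
  have := (pi_aut_rank2 Nat.prime_three (by decide) hq q3 pX (hr X pX) (zpowers_le.2 hg) h1).2.1
  have := hq.two_le
  omega

theorem i3_not_three (h : I3 G) (hs : IsSimpleGroup G) (h2 : 2 ∣ Nat.card G)
    (hr : ∀ X : Subgroup G, IsPGroup 3 X → pRank 3 X ≤ 2) : ¬ 3 ∣ Nat.card G := fun h3 => by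
  have := Fact.mk Nat.prime_three
  obtain ⟨P, N, hN, c⟩ := i3_npc h hr
  have e := c.card_mul_card
  rcases hN.eq_bot_or_eq_top with rfl | rfl
  · obtain ⟨k, hk⟩ := exists_card_eq_pow Nat.prime_three P.isPGroup'
    rw [card_bot, one_mul, hk] at e
    exact absurd (Nat.prime_two.dvd_of_dvd_pow (e ▸ h2)) (by decide)
  · rw [card_top] at e
    have e1 : 𝐨((P : Subgroup G)) = 1 :=
      Nat.eq_of_mul_eq_mul_left Nat.card_pos (e.trans (mul_one _).symm)
    have e2 := P.1.card_mul_index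
    rw [e1, one_mul] at e2
    exact P.not_dvd_index (e2 ▸ h3)

end I3

variable {G : Type u} [Group G] [Finite G] [ICl G] {Ω : Type v} [MulAction G Ω]

theorem nw_three (h : I3 G) : NW G Ω 3 := fun _ _ _ hx ha _ _ => i3_inv h ha.toInv hx

/-- The number of members of the class that fix a point is prime to three. -/
theorem SE.not_three_dvd (h : SE G Ω) (h3 : I3 G) {N : Subgroup G} {α β : Ω} (hα : α ∈ Fx Ω N)
    (hβ : β ∈ Fx Ω N) (hne : α ≠ β) : ¬ 3 ∣ (Iv G β ∩ N).ncard := by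
  obtain ⟨u, huN, hu, eu⟩ := h.exists_swap_Fx hα hβ hne
  rw [← h.ncard_Jv_eq_Iv hne hα, h.ncard_Jv_Od hu eu hne huN]
  exact i3_not_dvd h3 (odd_Od _) hu.toInv (h.J_norm_Od hu eu huN)

end Cfsg.Agent.P14.C
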