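/-
P18, chapter C: facts on `PSL₂(3 ^ f)`, `f` odd, and its automorphisms of prime order.
-/
import Cfsg.Agent.P18.C0

set_option autoImplicit false
set_option linter.unusedSectionVars false

namespace Cfsg.Agent.P14.C

open Subgroup Cfsg Cfsg.Agent Cfsg.Agent.FT Cfsg.Agent.P6
open Cfsg.Agent.P7 (IsL2 LM Fr R0 Phi V2 l2Api l2Four)
open Cfsg.Agent.P5 (V4 Tri)
open Cfsg.Agent.P14.St (I3)
open scoped commutatorElement

universe u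

variable {G : Type u} [Group G] [Finite G]

theorem three_pow_mod (f : ℕ) : 3 ^ (2 * f + 1) % 4 = 3 := by
  rw [pow_succ, pow_mul, Nat.mul_mod, Nat.pow_mod]; simp

namespace FL

variable {M L : Subgroup G} {f : ℕ} {s s0 : G} (F : Fr M L 1 (3 ^ (2 * f + 1)) s s0)
include F

theorem eps : 3 ^ (2 * f + 1) + 1 = 4 * F.k ∧ 3 ^ (2 * f + 1) = 2 * F.l + 1 ∧ F.H = F.T :=
  F.eps.resolve_left fun h => by have := three_pow_mod f; omega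

theorem p_eq : F.p = 3 := ((Nat.prime_dvd_prime_iff_eq Nat.prime_three F.hp).1
  (Nat.prime_three.dvd_of_dvd_pow (F.hq ▸ dvd_pow_self 3 (by omega)))).symm

omit F in
theorem phi_le : Phi M s s0 ≤ M ⊓ (𝐂[s] ⊓ 𝐂[s0]) := H2.pPrimeCoreOf_le _ _

theorem idx {B : Subgroup G} (h1 : Phi M s s0 ≤ B) (h2 : B ≤ M) :
    B.relIndex M = B.relIndex L := by
  rw [← H2.relIndex_sup_left_of_le_normalizer (h2.trans F.lm.normal.2)]
  congr 1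
  refine le_antisymm (fun g hg => ?_) (sup_le h2 F.lm.normal.1)
  obtain ⟨a, ha, φ, hφ, e⟩ := F.dec g hg
  rw [one_mul, or_self] at e
  exact e ▸ mul_mem (mem_sup_right ha) (mem_sup_left (h1 hφ))

theorem le_conj {p : ℕ} (hp : p.Prime) {B U E : Subgroup G} (h1 : Phi M s s0 ≤ B) (h2 : B ≤ M)
    (h3 : U ≤ B) (h4 : ¬ p ∣ U.relIndex L) (hE : IsPGroup p E) (EM : E ≤ M) :
    ∃ g ∈ M, E ^ᵍ g ≤ B := by
  obtain ⟨S, hS⟩ := exists_isSyl hp B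
  obtain ⟨g, hg, e⟩ := (hS.trans hp h2 fun e => h4 ((idx F h1 h2 ▸ e).trans
    (relIndex_dvd_of_le_left L h3))).exists_conj_le hp hE EM
  exact ⟨g, hg, e.trans hS.le⟩

theorem sup_eq : F.P ⊔ F.P ^ᵍ s0 = L := by
  have s0L := F.lt.hyp.sX
  have ss := F.lt.hyp.ss
  have h1 : F.P ⊔ F.P ^ᵍ s0 ≤ L := sup_le F.PL (conj_le_of_mem F.PL s0L)
  have hP : F.P ≤ 𝐍((F.P ⊔ F.P ^ᵍ s0 : Subgroup G)) := le_sup_left.trans (le_norm_self _)
  have hH : F.H ≤ 𝐍((F.P ⊔ F.P ^ᵍ s0 : Subgroup G)) :=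
    H1.le_normalizer_sup (F.opp.ge.trans (inf_le_left.trans inf_le_right))
      (F.opp.ge.trans inf_le_right)
  have hs : s0 ∈ 𝐍((F.P ⊔ F.P ^ᵍ s0 : Subgroup G)) := by
    rw [← conj_eq_self_iff, conj_sup, conj_conj, ss, conj_one, sup_comm]
  refine (F.lm.l2.simple _ ⟨h1, fun g hg => ?_⟩).resolve_left fun e => ?_
  · by_cases n : g ∈ 𝐍(F.P)
    · exact sup_le hP hH (F.normP.le ⟨hg, n⟩)
    · obtain ⟨u, hu, h, hh, v, hv, rfl⟩ := F.bruhat g hg n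
      exact mul_mem (mul_mem (mul_mem (hP hu) (hH hh)) hs) (hP hv)
  · have := F.cardP
    rw [le_bot_iff.1 (e ▸ le_sup_left : F.P ≤ ⊥), card_bot] at this
    have := F.five
    omega

theorem core1 {p : ℕ} (hp : p.Prime) (p3 : p ≠ 3) (hd : ¬ p ∣ 3 ^ (2 * f + 1) + 1)
    {E : Subgroup G} (hE : IsPGroup p E) (EM : E ≤ M) : ∃ P1 P2 : Subgroup G, IsPGroup 3 P1 ∧
      IsPGroup 3 P2 ∧ P1 ⊔ P2 = L ∧ E ≤ 𝐍(P1) ∧ E ≤ 𝐍(P2) := by
  obtain ⟨e1, e2, e3⟩ := eps F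
  obtain ⟨g, hg, e⟩ := le_conj F hp (B := M ⊓ 𝐍(F.P) ⊓ 𝐍(F.P ^ᵍ s0)) (U := F.T)
    (le_inf (le_inf (phi_le.trans inf_le_left) F.FP) fun φ hφ => by
      rw [← conj_eq_self_iff, conj_conj, ← mem_cent1.1 (phi_le hφ).2.2, ← conj_conj,
        conj_eq_of_mem_norm (F.FP hφ)])
    (inf_le_left.trans inf_le_left)
    (e3 ▸ F.opp.ge.trans (inf_le_inf_right _ (inf_le_inf_right _ F.lm.normal.1))) (fun e => by
      have c := H1.card_mul_relIndex F.TL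
      have l0 : 0 < F.l := F.cardT ▸ Nat.card_pos
      rw [F.cardT, F.cardL, ← e1, mul_comm _ F.l, mul_assoc] at c
      rw [Nat.eq_of_mul_eq_mul_left l0 c] at e
      exact p3 ((Nat.prime_dvd_prime_iff_eq hp Nat.prime_three).1
        (hp.dvd_of_dvd_pow ((hp.dvd_mul.1 e).resolve_left hd)))) hE EM
  have pP : IsPGroup 3 F.P := by simpa [p_eq F] using elemAb_isPGroup F.eaP
  refine ⟨F.P ^ᵍ g⁻¹, (F.P ^ᵍ s0) ^ᵍ g⁻¹, pP.map _, (pP.map _).map _, ?_, ?_, ?_⟩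
  · rw [← conj_sup, sup_eq F, conj_eq_of_mem_norm (F.lm.normal.2 (inv_mem hg))]
  · rw [norm_conj, ← conj_le_iff]; exact e.trans (inf_le_left.trans inf_le_right)
  · rw [norm_conj, ← conj_le_iff]; exact e.trans inf_le_right

theorem R_le : R0 L s ≤ L ⊓ 𝐂[s] := F.lt.hyp.UH

theorem phi_norm (p : ℕ) : Phi M s s0 ≤ 𝐍(pCoreOf p (R0 L s)) := by
  have : Phi M s s0 ≤ 𝐍(R0 L s) := fun φ hφ => H2.normalizer_le_normalizer_pPrimeCoreOf 2 _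
    (P7.mem_norm_inf (F.lm.normal.2 (phi_le hφ).1) (by
      rw [← conj_eq_self_iff, ← cent1_conj, mem_cent1_iff_conj.1 (phi_le hφ).2.1]))
  exact this.trans (H2.normalizer_le_normalizer_pCoreOf p _)

theorem le_conj' {p : ℕ} (hp : p.Prime) (p2 : p ≠ 2) (p3 : p ≠ 3) (hd : p ∣ 3 ^ (2 * f + 1) + 1)
    {E : Subgroup G} (hE : IsPGroup p E) (EM : E ≤ M) :
    ∃ g ∈ M, E ^ᵍ g ≤ pCoreOf p (R0 L s) ⊔ Phi M s s0 := by
  obtain ⟨e1, e2, -⟩ := eps F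
  have RL := (R_le F).trans inf_le_left
  refine le_conj F hp le_sup_right (sup_le ((H2.pCoreOf_le _ _).trans (RL.trans F.lm.normal.1))
    (phi_le.trans inf_le_left)) le_sup_left (fun e => ?_) hE EM
  obtain ⟨S, hS⟩ := exists_isSyl hp (R0 L s)
  have := F.lt.cyc
  rw [hS.pCoreOf_eq hp ((isMulComm_iff_le_cent.1 inferInstance).trans
    ((cent_anti hS.le).trans (cent_le_norm S))), ← relIndex_mul_relIndex _ _ _ hS.le RL] at e
  have c := H1.card_mul_relIndex RL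
  have k0 : 0 < F.k := F.cardR ▸ Nat.card_pos
  rw [F.cardR, F.cardL, mul_comm 4, mul_assoc, mul_assoc] at c
  rw [Nat.eq_of_mul_eq_mul_left k0 c] at e
  rcases hp.dvd_mul.1 ((hp.dvd_mul.1 e).resolve_left hS.ndvd) with e | e
  · exact p2 ((Nat.prime_dvd_prime_iff_eq hp Nat.prime_two).1 (hp.dvd_of_dvd_pow (n := 2) e))
  rcases hp.dvd_mul.1 e with e | e
  · rw [e2, add_assoc] at hd
    exact p2 ((Nat.prime_dvd_prime_iff_eq hp Nat.prime_two).1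
      ((Nat.dvd_add_right (e.mul_left 2)).1 hd))
  · exact p3 ((Nat.prime_dvd_prime_iff_eq hp Nat.prime_three).1 (hp.dvd_of_dvd_pow e))

theorem sup_le_cent (p : ℕ) : pCoreOf p (R0 L s) ⊔ Phi M s s0 ≤ 𝐂[s] :=
  sup_le ((H2.pCoreOf_le _ _).trans ((R_le F).trans inf_le_right))
    (phi_le.trans (inf_le_right.trans inf_le_left))

theorem core2 {p : ℕ} (hp : p.Prime) (p2 : p ≠ 2) (p3 : p ≠ 3) (hd : p ∣ 3 ^ (2 * f + 1) + 1)
    {E : Subgroup G} (hE : IsPGroup p E) (EM : E ≤ M) :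
    ∃ w ∈ L, w ≠ 1 ∧ w * w = 1 ∧ E ≤ 𝐂[w] := by
  obtain ⟨g, hg, e⟩ := le_conj' F hp p2 p3 hd hE EM
  refine ⟨g⁻¹ * s * g⁻¹⁻¹, cjm (F.lm.normal.2 (inv_mem hg)) F.lt.hyp.tX,
    P4.conj_ne_one F.lt.hyp.t1 _, P4.conj_sq F.lt.hyp.tt _, ?_⟩
  rw [cent1_conj, ← conj_le_iff]
  exact e.trans (sup_le_cent F p)

theorem core3' {p : ℕ} (hp : p.Prime) (p2 : p ≠ 2) {E V : Subgroup G}
    (hE : IsElementaryAbelian p E) (nc : ¬ IsCyclic E)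
    (EM : E ≤ pCoreOf p (R0 L s) ⊔ Phi M s s0) (hV : Odd 𝐨(V)) (EV : E ≤ V)
    (hn : ∀ y ∈ E, y ≠ 1 → ∀ g ∈ L, g * g = 1 → g ∈ 𝐂[y] → g ∈ 𝐍(V)) : False := by
  have := Fact.mk hp
  have hN := phi_norm F p
  have pR := H2.isPGroup_pCoreOf p (R0 L s)
  have RR := H2.pCoreOf_le p (R0 L s)
  have cR := isCyclic_of_le RR F.lt.cyc
  generalize pCoreOf p (R0 L s) = R at EM hN pR RR cR
  have RL := RR.trans ((R_le F).trans inf_le_left)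
  have dj : ∀ φ ∈ Phi M s s0, φ ∈ R → φ = 1 := fun φ h1 h2 => F.disj φ h1 (mem_sup_left (RL h2))
  obtain ⟨x, hx, xR⟩ := SetLike.not_le_iff_exists.1 fun e : E ≤ R => nc (isCyclic_of_le e cR)
  obtain ⟨r, hr, φ, hφ, rfl⟩ := (mem_sup_of_norm hN).1 (EM hx)
  have φ1 : φ ≠ 1 := fun e => xR (by rwa [e, mul_one])
  have pw : ∀ r ∈ R, ∀ ψ ∈ Phi M s s0, r * ψ ∈ E → ψ ^ p = 1 := fun r hr ψ hψ hz => by
    obtain ⟨r', hr', e⟩ := BG04.exists_mul_pow (hN hψ) (cjm (inv_mem (hN hψ)) hr) p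
    rw [show ψ * (ψ⁻¹ * r * ψ⁻¹⁻¹) = r * ψ by group, hE.2 _ hz] at e
    exact dj _ (pow_mem hψ p) (by rw [eq_inv_of_mul_eq_one_left e.symm]; exact inv_mem hr')
  have φp := pw r hr φ hφ hx
  have oφ : orderOf φ = p := orderOf_eq_prime φp φ1
  have sd : SdProd R (zpowers φ) (R ⊔ zpowers φ) := ⟨rfl, zpowers_le.2 (hN hφ),
    eq_bot_iff.2 fun z hz => dj z (zpowers_le.2 hφ hz.2) hz.1⟩
  have EM' : E ≤ R ⊔ zpowers φ := fun z hz => by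
    obtain ⟨r1, hr1, ψ, hψ, rfl⟩ := (mem_sup_of_norm hN).1 (EM hz)
    have ψp := pw r1 hr1 ψ hψ hz
    refine mul_mem (mem_sup_left hr1) (mem_sup_right ?_)
    rw [eq_omegaOne_of_isCyclic hp F.cycF (zpowers_le.2 hφ) (by rw [Nat.card_zpowers, oφ])]
    exact mem_omegaOne hψ ψp
  have om := omega_of_cyclic_index_p hp p2 (isPGroup_sup
    (isPGroup_of_card_prime (by rw [Nat.card_zpowers, oφ])) pR sd.norm |>.to_le (sup_comm R _).le)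
    (fun e => nc (isCyclic_of_le EM' e)) le_sup_left cR (by
      have c := H1.card_mul_relIndex (le_sup_left : R ≤ R ⊔ zpowers φ)
      rw [sd.card, Nat.card_zpowers, oφ] at c
      exact Nat.eq_of_mul_eq_mul_left Nat.card_pos c)
  have eE : E = omegaOne p (R ⊔ zpowers φ) := by
    refine H1.eq_of_le_of_card_le (le_omegaOne_of_elemAb EM' hE) ?_
    obtain ⟨j, hj⟩ := exists_card_eq_pow hp (elemAb_isPGroup hE)
    rw [om.card, hj]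
    refine Nat.pow_le_pow_right hp.pos (not_lt.1 fun hl => nc ?_)
    interval_cases j
    · exact isCyclic_of_card_dvd_prime (p := p) (by rw [hj, pow_zero]; exact one_dvd _)
    · exact isCyclic_of_prime_card (hj.trans (pow_one p))
  have φE : φ ∈ E := eE ▸ mem_omegaOne (mem_sup_right (mem_zpowers φ)) φp
  obtain ⟨c, hc, c1⟩ : ∃ c ∈ E ⊓ R, c ≠ 1 := by
    refine (bot_or_exists_ne_one _).resolve_left fun e => nc ?_
    refine isCyclic_of_le (fun z hz => ?_) (inferInstance : IsCyclic (zpowers φ))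
    obtain ⟨r1, hr1, ψ, hψ, rfl⟩ := sd.mem_iff.1 (EM' hz)
    have : r1 ∈ E ⊓ R := ⟨(mul_mem_cancel_right (zpowers_le.2 φE hψ)).1 hz, hr1⟩
    rwa [show r1 = 1 from mem_bot.1 (e ▸ this), one_mul]
  have cφ : c ∈ 𝐂[φ] := mem_cent1.2 (mem_cent.1 (isMulComm_iff_le_cent.1 hE.1 hc.1) φ φE)
  have sφ : s ∈ L ⊓ 𝐂[φ] := ⟨F.lt.hyp.tX, mem_cent1_comm.1 (phi_le hφ).2.1⟩
  obtain ⟨q0, k0, l0, -, h1, -, h2, -, h3⟩ := F.fix φ hφ
  obtain ⟨-, h1, -⟩ := h1.resolve_left fun h => by have := three_pow_mod f; omega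
  rcases h3 with ⟨rfl, -⟩ | h3
  · exact c1 (mem_bot.1 (card_eq_one.1 (h2.trans (by omega)) ▸ (⟨RR hc.2, cφ⟩ : c ∈ R0 L s ⊓ 𝐂[φ])))
  have n1 : L ⊓ 𝐂[φ] ≤ 𝐍(V) := by
    rw [← (h3.simple _ ⟨H2.nclIn_le (zpowers_le.2 sφ), H2.le_normalizer_nclIn _ _⟩).resolve_left
      fun e => F.lt.hyp.t1 (mem_bot.1 (e ▸ H2.le_nclIn _ _ (mem_zpowers s))), H2.nclIn_le_iff]
    intro g hg
    change zpowers s ^ᵍ g ≤ _
    rw [← zpowers_conj, zpowers_le]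
    have := cjm (le_norm_self _ hg) sφ
    exact hn φ φE φ1 _ this.1 (P4.conj_sq F.lt.hyp.tt g) this.2
  have n2 := (h3.simple (V ⊓ (L ⊓ 𝐂[φ]))
    ⟨inf_le_right, H1.le_normalizer_inf n1 (le_norm_self _)⟩).resolve_left fun e =>
    c1 (mem_bot.1 (e ▸ (⟨EV hc.1, RL hc.2, cφ⟩ : c ∈ V ⊓ (L ⊓ 𝐂[φ]))))
  exact F.lt.hyp.t1 (P5.eq_one_of_odd hV (n2.ge sφ).1 F.lt.hyp.tt)

theorem core3 {p : ℕ} (hp : p.Prime) (p2 : p ≠ 2) (p3 : p ≠ 3) (hd : p ∣ 3 ^ (2 * f + 1) + 1)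
    {E V : Subgroup G} (hE : IsElementaryAbelian p E) (nc : ¬ IsCyclic E) (EM : E ≤ M)
    (hV : Odd 𝐨(V)) (EV : E ≤ V)
    (hn : ∀ y ∈ E, y ≠ 1 → ∀ g ∈ L, g * g = 1 → g ∈ 𝐂[y] → g ∈ 𝐍(V)) : False := by
  obtain ⟨g, hg, e⟩ := le_conj' F hp p2 p3 hd (elemAb_isPGroup hE) EM
  refine core3' F hp p2 (H5.elemAb_map (MulAut.conj g).toMonoidHom hE)
    (fun c => nc ((equivMapOfInjective E (MulAut.conj g).toMonoidHom
      (MulAut.conj g).injective).isCyclic.2 c)) e (V := V ^ᵍ g) (by rwa [card_conj]) (conj_mono EV g) ?_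
  intro y hy y1 w hw ww wy
  obtain ⟨y, hy', rfl⟩ := mem_conj'.1 hy
  rw [cent1_conj, mem_conj] at wy
  rw [norm_conj, mem_conj]
  exact hn y hy' (fun e => y1 (by simp [e])) _
    (by simpa using cjm (F.lm.normal.2 (inv_mem hg)) hw) (by simpa using P4.conj_sq ww g⁻¹) wy

end FL

theorem L3.fr (h : L3 G) {s s0 : G} (v : V4 s s0) :
    ∃ f, Nonempty (Fr (⊤ : Subgroup G) ⊤ 1 (3 ^ (2 * f + 1)) s s0) :=
  h.imp fun _ h => l2Api G _ _ _ _ s s0 h.lm v (mem_top _) (mem_top _)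

theorem L3.tri (h : L3 G) {s s0 : G} (v : V4 s s0) : ∃ x : G, x ^ 3 = 1 ∧ Tri x s s0 := by
  obtain ⟨f, ⟨F⟩⟩ := h.fr v
  exact ⟨F.x, F.x3, F.tri⟩

theorem L3.not_dvd (h : L3 G) {s s0 : G} (v : V4 s s0) : ¬ 3 ∣ 𝐨(𝐂[s]) := by
  obtain ⟨f, ⟨F⟩⟩ := h.fr v
  have e := F.lt.hyp.card_H
  rw [top_inf_eq, F.cardR, ← (FL.eps F).1] at e
  rw [e, Nat.dvd_add_right (dvd_pow_self 3 (by omega))]
  decide

theorem L3.exists_inverted (h : L3 G) {l : ℕ} (hl : l.Prime) (l2 : l ≠ 2) (l3 : l ≠ 3)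
    (hd : l ∣ Nat.card G) : ∃ y w : G, orderOf y = l ∧ w * w = 1 ∧ w * y * w = y⁻¹ := by
  obtain ⟨s, -, s0, -, v⟩ := h.elim fun _ h => l2Four G _ _ h
  obtain ⟨f, ⟨F⟩⟩ := h.fr v
  have key : ∀ U : Subgroup G, l ∣ 𝐨(U) → (∀ a ∈ U, s0 * a * s0⁻¹ = a⁻¹) →
      ∃ y w : G, orderOf y = l ∧ w * w = 1 ∧ w * y * w = y⁻¹ := fun U h1 h2 => by
    obtain ⟨y, hy, e⟩ := exists_mem_orderOf_eq_prime hl h1
    exact ⟨y, s0, e, v.ss, by simpa [P5.inv_eq_of_sq v.ss] using h2 y hy⟩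
  rw [← card_top, F.cardL] at hd
  rcases hl.dvd_mul.1 hd with e | e
  · rcases hl.dvd_mul.1 e with e | e
    · rcases hl.dvd_mul.1 e with e | e
      · exact absurd ((Nat.prime_dvd_prime_iff_eq hl Nat.prime_two).1
          (hl.dvd_of_dvd_pow (n := 2) e)) l2
      · exact key _ (F.cardR ▸ e) F.lt.inv
    · exact key _ (F.cardT ▸ e) F.invT
  · exact absurd ((Nat.prime_dvd_prime_iff_eq hl Nat.prime_three).1 (hl.dvd_of_dvd_pow e)) l3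

theorem KC.exists_inverted {n : ℕ} (h : KC.{u} n) (hn : Nat.card G < n) (h3 : I3 G)
    (hs : IsSimpleGroup G) (na : ¬ IsMulCommutative G) {l : ℕ} (hl : l.Prime) (l2 : l ≠ 2)
    (l3 : l ≠ 3) (hd : l ∣ Nat.card G) :
    ∃ y w : G, orderOf y = l ∧ w * w = 1 ∧ w * y * w = y⁻¹ :=
  (h G hn h3 hs na).elim
    (fun e => (kh_thm _ G (Nat.lt_succ_self _) e hs na).exists_inverted e hl l2 hd)
    fun e => e.exists_inverted hl l2 l3 hd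

end Cfsg.Agent.P14.C
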