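/-
P18, chapter P: pushing up when no element of order three is real.
-/
import Cfsg.Agent.P18.A0
import Cfsg.Agent.P18.CL

set_option autoImplicit false
set_option linter.unusedSectionVars false

namespace Cfsg.Agent.P18

open Subgroup Cfsg Cfsg.Agent Cfsg.Agent.FT Cfsg.Agent.P14
open Cfsg.Agent.P14.St (I3)
open Cfsg.Agent.P6 (Inv)
open Cfsg.Agent.P5 (V4 Tri)
open Cfsg.Agent.P7 (V2)
open Cfsg.Agent.P14.C (L3 KC)
open scoped commutatorElement Pointwise

universe u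

variable {G : Type u} [Group G] [Finite G]

theorem i3_noS3 (h : I3 G) (M : Subgroup G) : H2.NoS3 M := fun E _ φ hφ =>
  absurd ((h.subgroup E).of_surjective φ hφ (finRotate 3) (Equiv.swap 0 1) (by decide) (by decide))
    (by decide)

/-- The number of involutions of a strongly embedded subgroup is prime to three. -/
theorem latin (hI : I3 G) {T X : Subgroup G} (hT : IsSyl 2 T ⊤) (hTX : T ≤ X) (hX : X ≠ ⊤)
    (h : ∀ s ∈ T, Inv s → ∀ g : G, g * s * g⁻¹ ∈ T → g ∈ X) {s : G} (hs : s ∈ X) (is : Inv s) :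
    ¬ 3 ∣ (𝐂[s] : Subgroup G).relIndex X := fun h3 => by
  have se := P6.se_quot hT hTX h
  have := P6.nontrivial_quot hX
  obtain ⟨β, hβ⟩ := exists_ne ((1 : G) : G ⧸ X)
  have st : MulAction.stabilizer G ((1 : G) : G ⧸ X) = X := by rw [P6.stab_mk, conj_one]
  have hF : ∀ γ : G ⧸ X, γ ∈ P6.Fx (G ⧸ X) (⊤ : Subgroup G) := fun γ =>
    (P6.all_quot is hs γ).imp fun c hc => ⟨mem_top c, hc⟩
  obtain ⟨u, -, iu, eu⟩ := se.exists_swap_Fx (hF β) (hF _) hβ
  have e1 := se.ncard_Jv iu eu hβ (mem_top u)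
  rw [se.ncard_Jv_eq_Iv hβ (hF β), top_inf_eq] at e1
  have e2 : P6.Iv G ((1 : G) : G ⧸ X) ∩ (⊤ : Subgroup G) = {c | ∃ y ∈ X, y * s * y⁻¹ = c} := by
    ext c
    refine ⟨fun hc => ?_, ?_⟩
    · obtain ⟨d, hd, e⟩ := se.exists_conj_St2 (N := ⊤) is hc.1.1 (st.ge hs) hc.1.2 hβ.symm
        (mem_top _) (mem_top _) (hF β)
      exact ⟨d, st.le hd.2.1, e⟩
    · rintro ⟨y, hy, rfl⟩
      exact ⟨⟨is.conj y, st.ge (mul_mem (mul_mem hy hs) (inv_mem hy))⟩, mem_top _⟩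
  rw [e2, P6.ncard_class] at e1
  obtain ⟨x, -, h1, h2⟩ := P6.exists_inverted_of_dvd Nat.prime_three (se.odd_St2 hβ) iu
    (conj_eq_self_iff.1 (by rw [← P6.St2_smul, eu, iu.smul_eq eu, P6.St2_comm])) (e1 ▸ h3)
  have := hI x u (h1 ▸ pow_orderOf_eq_one x) (by rwa [iu.inv_eq])
  rw [this, orderOf_one] at h1
  omega

theorem mem_cent_V2 {s t g : G} :
    g ∈ 𝐂(V2 s t) ↔ MulAut.conj g s = s ∧ MulAut.conj g t = t := by
  rw [mem_cent_iff_cent1, P5.V4.le_iff, mem_cent1_comm, mem_cent1_comm (g := t),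
    mem_cent1_iff_conj, mem_cent1_iff_conj]
  rfl

/-- A 2-element normalizing a four-group with an automorphism of order three centralizes it. -/
theorem cent_of_tri (hI : I3 G) {s t x u : G} (v : V4 s t) (tri : Tri x s t)
    (hu : u ∈ 𝐍(V2 s t)) {k : ℕ} (hk : u ^ 2 ^ k ∈ 𝐂(V2 s t)) : u ∈ 𝐂(V2 s t) := by
  induction k generalizing u with
  | zero => simpa using hk
  | succ k ih =>
  have h2 := ih (mul_mem hu hu) (by rwa [← pow_two, ← pow_mul, ← pow_succ'])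
  clear hk ih
  have hx : x ∈ 𝐍(V2 s t) := tri.mem_norm v
  have x1 : MulAut.conj x s = t := tri.1
  have x2 : MulAut.conj x t = s * t := tri.2
  have x3 : MulAut.conj x (s * t) = s := tri.third v
  have := H1.normal_subgroupOf_of_le (H1.normalizer_le_normalizer_centralizer (V2 s t))
  have key : u * x * u * x ∉ 𝐂(V2 s t) := fun e => by
    have e1 := (H1.qmk_eq_one_iff (y := ⟨u, hu⟩ * ⟨u, hu⟩)).2 h2
    have e2 := (H1.qmk_eq_one_iff (y := ⟨u, hu⟩ * ⟨x, hx⟩ * ⟨u, hu⟩ * ⟨x, hx⟩)).2 e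
    simp only [map_mul] at e1 e2
    have := A.i3_bar hI 𝐍(V2 s t) 𝐂(V2 s t) (H1.qmk _ _ ⟨x, hx⟩) (H1.qmk _ _ ⟨u, hu⟩)
      (by
        rw [← map_pow, H1.qmk_eq_one_iff, mem_cent_V2]
        change MulAut.conj (x ^ 3) s = s ∧ MulAut.conj (x ^ 3) t = t
        rw [pow_three, map_mul, map_mul]
        simp only [MulAut.mul_apply, x1, x2, x3, and_self])
      (by rwa [inv_eq_of_mul_eq_one_right e1, ← mul_eq_one_iff_eq_inv])
    exact tri.not_mem_cent v (H1.qmk_eq_one_iff.1 this)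
  rw [mem_cent_V2, map_mul, map_mul, map_mul] at key
  rw [mem_cent_V2, map_mul] at h2
  have r1 : s * (s * t) = t := by rw [← mul_assoc, v.tt, one_mul]
  have r2 : s * t * t = s := by rw [mul_assoc, v.ss, mul_one]
  have h3 := map_mul (MulAut.conj u) s t
  have h4 : MulAut.conj u t ≠ 1 := by simpa using v.s1
  have h5 : MulAut.conj u t ≠ MulAut.conj u s := by simpa using v.ts.symm
  have m1 : MulAut.conj u s ∈ V2 s t := (mem_normalizer_iff.1 hu s).1 P5.V4.t_mem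
  have m2 : MulAut.conj u t ∈ V2 s t := (mem_normalizer_iff.1 hu t).1 P5.V4.s_mem
  simp only [MulAut.mul_apply, x1, x2] at key h2
  rw [mem_cent_V2]
  rcases v.mem_iff.1 m1 with a | a | a | a
  · exact absurd a (by simpa using v.t1)
  · rcases v.mem_iff.1 m2 with b | b | b | b
    · exact absurd b h4
    · exact absurd (b.trans a.symm) h5
    · exact ⟨a, b⟩
    · rw [a, b, r1] at h3
      simp only [a, b, h3, x2, x3, and_self, not_true] at key
  · rw [a] at h2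
    rw [a, h2.1, ← v.comm.eq] at h3
    simp only [a, h2.1, h3, x1, x3, and_self, not_true] at key
  · rw [a, h3, a] at h2
    have b := mul_left_cancel (h2.1.trans r2.symm)
    rw [a, b, r2] at h3
    simp only [b, h3, x1, x2, and_self, not_true] at key

theorem l3_syl (h : L3 G) {T : Subgroup G} (hT : IsSyl 2 T ⊤) : ∃ s t, V4 s t ∧ T = V2 s t := by
  obtain ⟨s, -, t, -, v⟩ := P7.l2Four G ⊤ _ h.choose_spec
  obtain ⟨f, ⟨F⟩⟩ := h.fr v
  have h8 := F.lt.hyp.not_eight_dvd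
  obtain ⟨g, -, e⟩ := hT.exists_conj_le Nat.prime_two v.isPGroup le_top
  have w := v.map (MulAut.conj g).toMonoidHom (by simpa using v.t1) (by simpa using v.s1)
    (by rw [ne_eq, MulEquiv.coe_toMonoidHom, map_eq_one_iff _ (MulAut.conj g).injective]; exact v.ts1)
  exact ⟨_, _, w, IsSyl.eq_of_le Nat.prime_two
    ⟨le_top, w.isPGroup, w.not_dvd_relIndex h8 trivial trivial⟩ (P5.V4.le_iff.2
      ⟨e (conj_mem_conj P5.V4.t_mem g), e (conj_mem_conj P5.V4.s_mem g)⟩) le_top hT.pgrp⟩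

/-- `PSL₂(3 ^ (2 f + 1))` has no strongly embedded subgroup. -/
theorem l2_gen (hI : I3 G) (h : L3 G) {T X : Subgroup G}
    (hT : IsSyl 2 T ⊤) (h1 : 𝐍(T) ≤ X) (h2 : ∀ z ∈ T, z ≠ 1 → 𝐂[z] ≤ X) : X = ⊤ := by
  obtain ⟨s, t, v, rfl⟩ := l3_syl h hT
  obtain ⟨x, x3, tri⟩ := h.tri v
  have hx := zpowers_le_of_mem (h1 (tri.mem_norm v))
  have hs := h2 s P5.V4.t_mem v.t1
  by_contra hX
  refine latin hI hT ((le_norm_self _).trans h1) hX (fun z hz iz g hg => ?_)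
    (hs (self_mem_cent1 s)) ⟨v.t1, v.tt⟩ ?_
  · obtain ⟨a, ha, rfl⟩ := tri.exists_conj v hz iz.ne
    obtain ⟨b, hb, e⟩ := tri.exists_conj v hg (iz.conj g).ne
    refine (mul_mem_cancel_left (inv_mem (hx hb))).1 ((mul_mem_cancel_right (hx ha)).1
      (hs (mem_cent1_iff_conj.2 ?_)))
    calc _ = b⁻¹ * (g * (a * s * a⁻¹) * g⁻¹) * b := by group
      _ = s := by rw [← e]; group
  · refine (Nat.prime_three.dvd_mul.1 ?_).resolve_left (h.not_dvd v)
    have := Fact.mk Nat.prime_three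
    rw [H1.card_mul_relIndex hs, ← orderOf_eq_prime x3 fun e => tri.not_commute v (by simp [e])]
    exact orderOf_dvd_card_of_mem (hx (mem_zpowers x))

theorem pu_l3 (hI : I3 G) (h2 : pCore 2 G = ⊥) {S K L : Subgroup G} (hS : IsSyl 2 S ⊤)
    (hmin : ∀ Y : Subgroup G, Y ≠ ⊤ → S ≤ Y → Y ≤ K) (hL : H2.CompIn ⊤ L) (h : L3 L) : L ≤ K := by
  have hT := syl_comp hS hL
  have hT' : IsSyl 2 ((S ⊓ L).subgroupOf L) ⊤ := ⟨le_top, hT.pgrp.comap_subtype, by
    rw [relIndex_top_right]; exact hT.ndvd⟩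
  have key : ∀ Y ≤ S ⊓ L, Y ≠ ⊥ → ∀ g ∈ L, (∀ d ∈ S, d ∈ 𝐍(L) → g ∈ 𝐍(Y ^ᵍ d)) → g ∈ K := by
    intro Y hY h0 g hg h3
    have h4 : N.W Y S ≤ S := N.W_le fun d hd =>
      (conj_mono (hY.trans inf_le_left) d).trans (conj_eq_self_iff.2 (le_norm_self S hd)).le
    have h5 : S ≤ 𝐍(N.W Y S) := fun d hd => mem_norm_of_conj_le (conj_le_iff.2 (N.W_le
      fun e he => conj_le_iff.1 (by rw [conj_conj]; exact N.le_W Y (mul_mem hd he))))
    refine hmin _ (fun e => h0 (eq_bot_iff.2 ?_)) h5 (mem_norm_of_conj_le (conj_le_iff.2 (N.W_le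
      fun d hd => conj_le_iff.1 ((conj_eq_self_iff.2 ?_).le.trans (N.le_W Y hd)))))
    · have := le_pCoreOf (H := ⊤) ⟨le_top, e.ge⟩ (hS.pgrp.to_le h4)
      rw [H2.pCoreOf_top, h2] at this
      exact ((conj_one Y).ge.trans (N.le_W Y (one_mem S))).trans this
    · by_cases hd' : d ∈ 𝐍(L)
      · exact h3 d hd hd'
      · exact cent_le_norm _ (cent_anti (conj_mono (hY.trans inf_le_right) d)
          (hL.le_centralizer_of_ne (hL.conj_of_mem_normalizer (le_norm_self ⊤ (mem_top d)))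
            (fun e => hd' (conj_eq_self_iff.1 e.symm)) hg))
  obtain ⟨s, t, v, e⟩ := l3_syl h hT'
  obtain ⟨x, -, tri⟩ := h.tri v
  have w := v.map L.subtype (by simpa using v.t1) (by simpa using v.s1)
    (by rw [ne_eq, map_eq_one_iff _ L.subtype_injective]; exact v.ts1)
  have e' : S ⊓ L = V2 (s : G) t := by
    rw [← map_subgroupOf_eq_of_le (inf_le_right : S ⊓ L ≤ L), e, MonoidHom.map_closure,
      Set.image_pair]
    rfl
  have nT : ∀ d ∈ S, d ∈ 𝐍(L) → d ∈ 𝐍(S ⊓ L) := fun d hd hd' => H1.le_normalizer_inf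
    (zpowers_le_of_mem (le_norm_self S hd)) (zpowers_le_of_mem hd') (mem_zpowers d)
  refine subgroupOf_eq_top.1 (l2_gen (hI.subgroup L) h hT' (fun g hg => ?_) fun z hz z1 g hg => ?_)
  · rw [← subgroupOf_normalizer_eq inf_le_right] at hg
    refine key _ le_rfl (fun e0 => v.t1 ?_) g g.2 fun d hd hd' => ?_
    · exact Subtype.ext (mem_bot.1 (e0 ▸ e'.ge P5.V4.t_mem))
    · rwa [conj_eq_self_iff.2 (nT d hd hd')]
  · refine key _ (zpowers_le_of_mem hz) (fun e0 => z1 (Subtype.ext (zpowers_eq_bot.1 e0))) g g.2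
      fun d hd hd' => ?_
    obtain ⟨k, hk⟩ := hS.pgrp ⟨d, hd⟩
    have h3 := cent_of_tri hI w (tri.map L.subtype) (e' ▸ nT d hd hd') (k := k)
      (by rw [show d ^ 2 ^ k = 1 from congrArg Subtype.val hk]; exact one_mem _)
    rw [conj_eq_self_iff.2 (cent_le_norm _ (cent_anti (zpowers_le_of_mem (e'.le hz)) h3))]
    exact cent_le_norm _ (cent_zpowers (z : G) ▸ mem_cent1.2 (congrArg Subtype.val (mem_cent1.1 hg)))

theorem pu_main {H H' : Type u} [Group H] [Finite H] [Group H'] [Finite H']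
    (f : G →* H) (hf : Function.Surjective f) (g : H →* H') (hg : Function.Surjective g)
    (hk : (Nat.card g.ker).Coprime 2) (h2 : pCore 2 H = ⊥) (ho : pPrimeCore 2 H' = ⊥)
    (h3 : I3 H') (hKH : KC.{u} (Nat.card H' + 1)) {S V : Subgroup G}
    (hc : 𝐂(f.ker) ≤ f.ker) (hQS : f.ker ≤ S) (hS : IsSyl 2 S ⊤) (hVS : V ≤ S)
    (hV : IsElementaryAbelian 2 V) (hSV : S ≤ 𝐍(V)) (hNF : H2.NF S V)
    (hmin : ∀ Y : Subgroup G, Y ≠ ⊤ → S ≤ Y → Y ≤ 𝐍(V)) (hJ : 𝐍(H7.SC.jj S) ≤ 𝐍(V))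
    (hN : g.ker ≤ 𝐍(V).map f) : ⊤ ≤ 𝐍(V) := by
  have := Fact.mk Nat.prime_two
  by_contra hn
  have hK : (𝐍(V).map f).comap f = 𝐍(V) := comap_map_eq_self (hQS.trans hSV)
  have hK' : ((𝐍(V).map f).map g).comap g = 𝐍(V).map f := comap_map_eq_self hN
  have hS1 := H7.SC.isSyl_map hf hS
  have hS2 := H7.SC.isSyl_map hg hS1
  have hmin1 := pu_min hf hmin
  have hmin2 := pu_min hg hmin1
  have hne1 : 𝐍(V).map f ≠ ⊤ := fun e => hn (by rw [← hK, e, comap_top])
  have hne2 : (𝐍(V).map f).map g ≠ ⊤ := fun e => hne1 (by rw [← hK', e, comap_top])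
  have h2' : pCore 2 H' = ⊥ := by
    have hE : (pCore 2 H').comap g ⊲ ⊤ := ⟨le_top, (normalizer_eq_top _).ge⟩
    have h4 : (pCore 2 H').comap g ≤ 𝐍(V).map f := by
      rw [← hK']
      exact comap_mono ((H2.pCoreOf_top (G := H') 2 ▸ hS2.pCoreOf_le Nat.prime_two).trans
        (map_mono (map_mono hSV)))
    have h5 := pu_frattini h2 hS1 hne1 hmin1 hE h4
    have h6 := H7.SC.le_sup_syl (C := g.ker) (le_top.trans (normalizer_eq_top _).ge)
      (hS1.inf_normal Nat.prime_two hE) fun k hk => by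
        obtain ⟨n, hn⟩ := L.isPGroup_pCore 2 ⟨_, hk⟩
        exact ⟨n, by rw [MonoidHom.mem_ker, map_pow]; exact congrArg Subtype.val hn⟩
    rw [h5, bot_sup_eq, ← Subgroup.map_eq_bot_iff, map_comap_eq_self_of_surjective hg] at h6
    exact h6
  have key : ∀ B ≤ S, S ≤ 𝐍(B) → ¬ B ≤ f.ker → ∃ L, ¬ (B.map f).map g ≤ 𝐂(L) ∧
      ∀ A ≤ S, IsElementaryAbelian 2 A → ¬ (A.map f).map g ≤ 𝐂(L) →
        ∃ x t A0 r k, PuDat f.ker A A0 x t r k ∧ x ∉ 𝐍(V) := fun B hBS hSB hB => by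
    have hp := (hS.pgrp.to_le hBS).map f
    obtain ⟨L, l1, l2, l3, l4⟩ := pu_comp h2' ho hS2 hne2 (map_mono (map_mono hSV)) hmin2
      (hp.map g) ((map_mono ((map_mono hSB).trans (le_normalizer_map f))).trans
        (le_normalizer_map g)) fun e => hB (by
        rw [Subgroup.map_eq_bot_iff] at e
        rw [← Subgroup.map_eq_bot_iff, ← inf_eq_right.2 e]
        exact H1.inf_eq_bot_of_coprime' (H1.coprime_card_of_isPGroup hp hk))
    refine ⟨L, l4, fun A hAS hA hAL => ?_⟩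
    obtain ⟨r, y, t, B, a1, a2, a3, a4, a5, a6, a7, a8, a9⟩ := ss zStmt hS2
      (H5.elemAb_map g (H5.elemAb_map f hA)) (map_mono (map_mono hAS)) l1 l2
      ((hKH L (Nat.lt_succ_of_le (card_le_card_group L)) (h3.subgroup L)
        (H2.isSimpleGroup_of_isQuasisimple l1.2 ((map_eq_bot_iff_of_injective _
          L.subtype_injective).1 ((map_subtype_center L).trans l2)))
        fun e => H2.QS.not_le_centralizer l1.2 (isMulComm_iff_le_cent.1 e)).resolve_right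
          fun e => l3 (pu_l3 h3 h2' hS2 hmin2 l1 e)) (kh_thm _) hAL
    obtain ⟨x, t, A0, k, D, hy⟩ := pu_lift f hf g hg hk hA a1 a2 a3 a4 a5 a6 a7 a8
    exact ⟨x, t, A0, r, k, D, fun hx => l3 (a9 _ (map_mono (map_mono hSV))
      (zpowers_le.2 (mem_map_of_mem g (mem_map_of_mem f hx)) hy))⟩
  have hVQ : V ≤ f.ker := by
    by_contra h
    obtain ⟨L, l1, l2⟩ := key V hVS hSV h
    obtain ⟨x, t, A0, r, k, D, hx⟩ := l2 V hVS hV l1
    exact hx (hSV (hQS (pu_one hc hQS hS.pgrp hVS hV hSV hNF D)))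
  have hJQ : ¬ H7.SC.jj S ≤ f.ker := fun h => hn (le_trans (by
    rw [H7.SC.jj, ← H5.thompsonSubgroupOf_eq_of_le hQS h]
    exact (normalizer_eq_top f.ker).ge.trans (H5.normalizer_le_normalizer_thompsonSubgroupOf _)) hJ)
  obtain ⟨L, l1, l2⟩ := key _ (H5.thompsonSubgroupOf_le S) ((le_norm_self S).trans
    (H5.normalizer_le_normalizer_thompsonSubgroupOf S)) hJQ
  refine l1 ?_
  rw [map_le_iff_le_comap, map_le_iff_le_comap, H5.thompsonSubgroupOf_eq_sSup]
  refine sSup_le fun A hA => ?_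
  rw [← map_le_iff_le_comap, ← map_le_iff_le_comap]
  by_contra h
  obtain ⟨x, t, A0, r, k, D, hx⟩ := l2 A hA.1 hA.2.1 h
  exact hx (pu_two hQS hS.pgrp hVQ hV hSV hNF hA D)

/-- Chapter P. -/
theorem pStmt : A.PS.{u} KC.{u} := by
  intro G _ _ S V h3 hKH hc hS hVS hV hSV hNF hmin hJ
  have := Fact.mk Nat.prime_two
  have hRS := hS.pCoreOf_le Nat.prime_two
  rw [H2.pCoreOf_top] at hRS
  obtain ⟨f, hf⟩ : ∃ f, f = QuotientGroup.mk' (pCore 2 G) := ⟨_, rfl⟩
  have hfs : Function.Surjective f := hf ▸ QuotientGroup.mk'_surjective _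
  have hker : f.ker = pCore 2 G := by rw [hf, QuotientGroup.ker_mk']
  by_cases h4 : pCore 2 G = ⊥
  · rw [H2.pCoreOf_top, h4, cent_bot] at hc
    exact hc.trans bot_le
  have hcard : Nat.card (G ⧸ pCore 2 G) < Nat.card G := by
    rw [card_eq_card_quotient_mul_card_subgroup (pCore 2 G)]
    exact lt_mul_of_one_lt_right Nat.card_pos ((one_lt_card_iff_ne_bot _).2 h4)
  have hNo := L.coprime_card_pPrimeCore (G := G ⧸ pCore 2 G) 2
  by_cases hN : pPrimeCore 2 (G ⧸ pCore 2 G) ≤ 𝐍(V).map f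
  · refine pu_main f hfs (QuotientGroup.mk' (pPrimeCore 2 (G ⧸ pCore 2 G)))
      (QuotientGroup.mk'_surjective _) (by rwa [QuotientGroup.ker_mk'])
      (L.pCore_quotient_pCore Nat.prime_two) (L.pPrimeCore_quotient_pPrimeCore Nat.prime_two)
      ((h3.of_surjective f hfs).of_surjective _ (QuotientGroup.mk'_surjective _))
      (hKH.mono (Nat.succ_le_of_lt ((Nat.le_of_dvd Nat.card_pos
        (card_quotient_dvd_card _)).trans_lt hcard)))
      (by rwa [hker, ← H2.pCoreOf_top]) (hker.le.trans hRS) hS hVS hV hSV hNF hmin hJ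
      (by rwa [QuotientGroup.ker_mk'])
  have h5 : pPrimeCore 2 (G ⧸ pCore 2 G) ⊔ S.map f = ⊤ := by
    by_contra h
    exact hN (le_sup_left.trans (pu_min hfs hmin _ h le_sup_right))
  have s1 : Group.IsSolvable (pPrimeCore 2 (G ⧸ pCore 2 G)) :=
    feit_thompson _ (Nat.coprime_two_right.1 hNo)
  have s2 : Group.IsSolvable ((G ⧸ pCore 2 G) ⧸ pPrimeCore 2 (G ⧸ pCore 2 G)) := by
    refine H1.isSolvable_of_isPGroup (p := 2) (IsPGroup.of_equiv ?_ topEquiv)
    rw [← map_top_of_surjective _ (QuotientGroup.mk'_surjective _), ← h5, Subgroup.map_sup,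
      QuotientGroup.map_mk'_self, bot_sup_eq]
    exact (hS.pgrp.map f).map _
  have s3 : Group.IsSolvable (G ⧸ pCore 2 G) := Group.isSolvable_of_ker_le_range
    (pPrimeCore 2 (G ⧸ pCore 2 G)).subtype (QuotientGroup.mk' (pPrimeCore 2 (G ⧸ pCore 2 G)))
    (by rw [QuotientGroup.ker_mk', range_subtype])
  have s4 : Group.IsSolvable (pCore 2 G) := H1.isSolvable_of_isPGroup (L.isPGroup_pCore 2)
  have s5 : Group.IsSolvable G := Group.isSolvable_of_ker_le_range (pCore 2 G).subtype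
    (QuotientGroup.mk' (pCore 2 G)) (by rw [QuotientGroup.ker_mk', range_subtype])
  exact H7.SC.Ch.pu ⟨inferInstance, inf_le_right.trans hc, i3_noS3 h3 ⊤⟩ hS hVS hV hSV hNF hmin hJ

end Cfsg.Agent.P18
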