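/-
P18, chapter B: assembly.
-/
import Cfsg.Agent.P18.Defs
import Cfsg.Agent.P18.N2
import Cfsg.Agent.P18.P
import Cfsg.Agent.P18.U0

set_option autoImplicit false
set_option linter.unusedSectionVars false

namespace Cfsg.Agent.P18

open Subgroup Cfsg Cfsg.Agent Cfsg.Agent.FT Cfsg.Agent.P14 Cfsg.Agent.H7.SC
open Cfsg.Agent.P14.St (I3)
open scoped commutatorElement

universe u

variable {G : Type u} [Group G] [Finite G]

namespace BS

omit [Finite G] in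
theorem sq_mem {S : Subgroup G} {x : G} (hx : x ∈ S) : x * x ∈ sqs S := subset_closure ⟨x, hx, rfl⟩

omit [Finite G] in
theorem sqs_le (S : Subgroup G) : sqs S ≤ S :=
  (closure_le S).2 fun _ ⟨_, hx, e⟩ => e ▸ mul_mem hx hx

omit [Finite G] in
theorem sqs_mono {S T : Subgroup G} (h : S ≤ T) : sqs S ≤ sqs T :=
  closure_mono fun _ ⟨x, hx, e⟩ => ⟨x, h hx, e⟩

theorem norm_sqs (S : Subgroup G) : 𝐍(S) ≤ 𝐍(sqs S) := fun g hg => mem_norm_of_conj_le (by
  rw [conj_le_iff]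
  refine (closure_le _).2 ?_
  rintro _ ⟨x, hx, rfl⟩
  exact mem_conj.2 (by simpa [conj_mul] using sq_mem (cjm hg hx)))

/-- Transfer: a central element that is a product of squares is one in a Sylow subgroup. -/
theorem transfer {C S : Subgroup G} (hS : IsSyl 2 S C) {z : G} (hz : z ∈ S) (hc : z ∈ 𝐂(C))
    (h : z ∈ sqs C) (zz : z * z = 1) : z ∈ sqs S := by
  let H := S.subgroupOf C
  let N := (sqs S).comap (C.subtype.comp H.subtype)
  have : N.Normal := ⟨fun n hn g => cjm (K := sqs S) (norm_sqs S (le_norm_self S g.2)) hn⟩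
  have sq : ∀ x : H ⧸ N, x * x = 1 := fun x => by
    obtain ⟨x, rfl⟩ := QuotientGroup.mk'_surjective N x
    rw [← map_mul, QuotientGroup.mk'_apply, QuotientGroup.eq_one_iff]
    exact sq_mem x.2
  let _ : CommGroup (H ⧸ N) := { (inferInstance : Group (H ⧸ N)) with
    mul_comm := fun a b => by
      rw [← P5.inv_eq_of_sq (sq (a * b)), mul_inv_rev, P5.inv_eq_of_sq (sq a),
        P5.inv_eq_of_sq (sq b)] }
  have h1 : sqs C ≤ (MonoidHom.transfer (QuotientGroup.mk' N)).ker.map C.subtype := by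
    refine (closure_le _).2 ?_
    rintro _ ⟨x, hx, rfl⟩
    exact ⟨⟨x, hx⟩ * ⟨x, hx⟩, by rw [SetLike.mem_coe, MonoidHom.mem_ker, map_mul, sq], rfl⟩
  obtain ⟨y, hy, rfl⟩ := h1 h
  rw [SetLike.mem_coe, MonoidHom.mem_ker, MonoidHom.transfer_eq_pow _ y fun k g _ => Subtype.ext (by
    push_cast
    rw [mul_assoc, ← pow_mem (x := (y : G)) hc k g g.2, inv_mul_cancel_left]), QuotientGroup.mk'_apply,
    QuotientGroup.eq_one_iff] at hy
  obtain ⟨m, hm⟩ := P4.odd_iff_not_dvd.2 hS.ndvd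
  have : ((y : G)) ^ S.relIndex C ∈ sqs S := hy
  rwa [hm, pow_succ, pow_mul, pow_two, show (y : G) * y = 1 from zz, one_pow, one_mul] at this

/-- Nontrivial strongly closed elementary abelian subgroups. -/
def Pm (A : Subgroup G) : Prop := IsElementaryAbelian 2 A ∧ A ≠ ⊥ ∧ SC ⊤ A

theorem gl (hZ : ZStmt.{u}) (sim : IsSimpleGroup G) (nc : ¬ IsMulCommutative G) (h3 : I3 G)
    (kh : K3.{u} (Nat.card G)) {A S : Subgroup G} (hm : Minimal Pm A) (hS : IsSyl 2 S ⊤)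
    (hA : A ≤ S) : Gl A S := by
  obtain ⟨⟨el, ne, sc⟩, hm⟩ := hm
  have cc := isMulComm_iff_le_cent.1 el.1
  have nrm := sc.le_norm le_top hS.pgrp hA
  have irr : ∀ U ≤ A, 𝐍(A) ≤ 𝐍(U) → U = ⊥ ∨ U = A := fun U hU hn => by
    refine or_iff_not_imp_left.2 fun e => le_antisymm hU (hm ⟨elemAb_of_le hU el, e,
      SCl.sc (((sc.scl le_top hS.pgrp hA).ctrl hS hA cc).scl (hU.trans hA) ?_) hS (hU.trans hA)⟩ hU)
    exact fun b hb g hg _ => cjm (hn hg.2) hb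
  refine ⟨hZ, sim, nc, h3, kh, el, ne, sc, irr, fun B hB hp => N.ns (K := K3.{u}) (fun _ h => h) G
    𝐍(A) A B h3 (kh.mono ?_) (fun K hK hk => ?_) el le_rfl hB hp, hS, hA⟩
  · refine (Nat.succ_le_succ (Nat.le_of_dvd Nat.card_pos (relIndex_dvd_card _ _))).trans
      ((H1.card_lt_of_lt (lt_top_iff_ne_top.2 fun e => ?_)).trans_eq card_top)
    refine (sim.eq_bot_or_eq_top_of_normal A (normal_iff_top_le.2 e.ge)).elim ne fun e => ?_
    exact nc ⟨⟨fun x y => cc (e.ge (mem_top y)) x (e.ge trivial)⟩⟩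
  have a1 := H7.SC.le_sup_syl (hK.1.trans norm_cent)
    ((hS.of_le nrm le_top).inf_normal Nat.prime_two hK) hk
  refine cent_comm.1 (inf_eq_left.1 ((irr _ inf_le_left (H1.le_normalizer_inf le_rfl
    (hK.2.trans norm_cent))).resolve_left fun e => inf_center_ne_bot
      (isNilpotent_of_isPGroup Nat.prime_two hS.pgrp) ⟨hA, nrm⟩ ne (eq_bot_iff.2 (le_trans ?_ e.le))))
  exact le_inf inf_le_left (cent_comm.1 (a1.trans (sup_le
    (inf_le_left.trans (cent_comm.1 inf_le_right)) (cent_anti inf_le_left))))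

theorem cen {A S : Subgroup G} (h : Gl A S) (h4 : 𝐨(A) ≤ 4) : S ≤ 𝐂(A) := by
  have nrm := h.sc.le_norm le_top h.syl.pgrp h.le
  by_contra hn
  obtain ⟨s, hs, s1, s2⟩ : ∃ s ∈ S, s ∉ 𝐂(A) ∧ s * s ∈ 𝐂(A) := by
    by_contra hc
    push Not at hc
    obtain ⟨s, hs, s1⟩ := SetLike.not_le_iff_exists.1 hn
    obtain ⟨k, hk⟩ := pow_two_pow h.syl.pgrp hs
    have : ∀ k : ℕ, s ^ 2 ^ k ∉ 𝐂(A) := fun k => by
      induction k with
      | zero => simpa using s1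
      | succ k ih => rw [pow_succ, pow_mul, pow_two]; exact hc _ (pow_mem hs _) ih
    exact this k (hk ▸ one_mem _)
  have h1 := h.nf S nrm h.syl.pgrp (zpowers s) (zpowers_le.2 hs)
    ((comm_eq_bot_iff.2 (isMulComm_iff_le_cent.1 inferInstance)).le.trans bot_le) (by
      rintro _ ⟨k, rfl⟩
      rw [← zpow_natCast, ← zpow_mul, mul_comm, zpow_mul, zpow_natCast, pow_two]
      exact zpow_mem s2 k)
  have h2 : 𝐂(A).relIndex (zpowers s) ≠ 1 := fun e => s1 (relIndex_eq_one.1 e (mem_zpowers s))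
  have h5 := H2.relIndex_pos 𝐂(A) (zpowers s)
  have h6 := H1.card_mul_relIndex (inf_le_right : 𝐂(zpowers s) ⊓ A ≤ A)
  have h7 : 1 < 𝐨((𝐂(zpowers s) ⊓ A : Subgroup G)) := (one_lt_card_iff_ne_bot _).2 fun e =>
    inf_center_ne_bot (isNilpotent_of_isPGroup Nat.prime_two h.syl.pgrp) ⟨h.le, nrm⟩ h.ne
      (eq_bot_iff.2 (le_trans (le_inf (inf_le_right.trans
        (cent_anti (zpowers_le.2 hs))) inf_le_left) e.le))
  rw [inf_relIndex_right] at h6
  change _ ≤ 𝐂(zpowers s).relIndex A at h1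
  change 𝐂(A).relIndex (zpowers s) ^ 2 ≤ _ at h1
  nlinarith [Nat.pow_le_pow_left (show 2 ≤ 𝐂(A).relIndex (zpowers s) by omega) 2]

theorem le_sqs {A S : Subgroup G} (h : Gl A S) (hc : S ≤ 𝐂(A)) (h0 : A ⊓ sqs S ≠ ⊥) :
    A ≤ sqs S := by
  refine inf_eq_left.1 ((h.irr _ inf_le_left ?_).resolve_left h0)
  have hC : 𝐂(A) ⊲ 𝐍(A) := ⟨cent_le_norm A, norm_cent⟩
  rw [← (h.syl.of_le hc le_top).frattini Nat.prime_two hC]
  exact sup_le ((cent_anti inf_le_left).trans (cent_le_norm _))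
    (H1.le_normalizer_inf inf_le_left (inf_le_right.trans (norm_sqs S)))

end BS

open BS in
theorem bStmt (hZ : ZStmt.{u}) (h0 : B0Stmt.{u}) (h1 : B1Stmt.{u}) (h4 : B4Stmt.{u}) :
    BStmt.{u} := by
  intro G _ _ sim nc h3 kh
  have ah : A.AH.{u} (Nat.card G + 1) := fun M _ _ a b c => A.aGen (K := K3.{u})
    (fun _ _ h => h.mono) (N.ns fun _ h => h) pStmt M b (kh.mono (Nat.le_of_lt_succ a)) c
  obtain ⟨A0, e0⟩ := ah G (Nat.lt_succ_self _) h3 (by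
    by_contra h0
    exact nc ⟨⟨IsSimpleGroup.comm_iff_isSolvable.2 (feit_thompson G (P4.odd_iff_not_dvd.2 h0))⟩⟩)
  obtain ⟨A1, -, m1⟩ := exists_minimal_le_of_wellFoundedLT Pm A0 e0
  obtain ⟨S, hS, l1⟩ := exists_isSyl_ge Nat.prime_two (elemAb_isPGroup m1.1.1) le_top
  by_cases hall : ∀ A, Minimal Pm A → A ≤ S → S ≤ 𝐂(A) ∧ A ⊓ sqs S = ⊥
  swap
  · simp only [not_forall] at hall
    obtain ⟨A, m, l, hn⟩ := hall
    have g := gl hZ sim nc h3 kh m hS l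
    refine Or.inl ⟨A, ?_⟩
    by_cases h8 : 8 ≤ 𝐨(A)
    · exact h1 G A S g (fun a ha a1 e => hn (h0 G A S g a ha a1 e)) h8
    have h5 : 𝐨(A) ≤ 4 := by
      obtain ⟨k, hk⟩ := exists_card_eq_pow Nat.prime_two (elemAb_isPGroup g.el)
      rw [hk] at h8 ⊢
      by_contra h5
      exact h8 (Nat.pow_le_pow_right two_pos (show 3 ≤ k from
        (Nat.pow_lt_pow_iff_right one_lt_two).1 (show 2 ^ 2 < 2 ^ k by omega)))
    exact h4 G A S g h5 (le_sqs g (cen g h5) fun e => hn ⟨cen g h5, e⟩)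
  obtain ⟨P, -, ⟨p1, p2⟩, p3⟩ := exists_maximal_ge_of_wellFoundedGT
    (fun P => P ≤ oz S ∧ SCl ⊤ S P) ⊥ ⟨bot_le, SCl.of_norm (normalizer_eq_top ⊥).ge⟩
  have PS := p1.trans (oz_le S)
  have SC' : S ≤ 𝐂(P) := (le_cent_oz S).trans (cent_anti p1)
  have mem : ∀ U ≤ S, IsElementaryAbelian 2 U → SCl ⊤ S U → U ≠ ⊥ →
      ∃ A ≤ U, A ≠ ⊥ ∧ A ≤ P ∧ A ⊓ sqs S = ⊥ := fun U a b c d => by
    obtain ⟨A, l, m⟩ := exists_minimal_le_of_wellFoundedLT Pm U ⟨b, d, c.sc hS a⟩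
    have AS := l.trans a
    obtain ⟨c1, c2⟩ := hall A m AS
    refine ⟨A, l, m.1.2.1, le_sup_right.trans (p3 ⟨sup_le p1 (le_omegaOne_of_elemAb
      (le_inf AS (cent_comm.1 c1)) m.1.1), p2.sup (m.1.2.2.scl le_top hS.pgrp AS) hS PS AS
        (PS.trans SC') (AS.trans c1)⟩ le_sup_left), c2⟩
  have q1 : P ⊓ sqs S = ⊥ := by
    by_contra e
    obtain ⟨A, a1, a2, -, a4⟩ := mem _ (inf_le_left.trans PS)
      (elemAb_of_le (inf_le_left.trans p1) (elemAb_oz S)) (fun u hu g hg k => by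
        have k1 := p2 u hu.1 g hg k
        obtain ⟨n, hn, e⟩ := U.cent_fusion hS (SC'.trans (cent_le_cent1 hu.1)) hg
          (SC'.trans (cent_le_cent1 k1))
        exact ⟨k1, e ▸ cjm (norm_sqs S hn.2) hu.2⟩) e
    exact a2 (by rw [← a4, inf_eq_left.2 (a1.trans inf_le_right)])
  have q2 : P ⊓ sqs 𝐂(P) = ⊥ := eq_bot_iff.2 fun z hz => q1.le ⟨hz.1, transfer
    (hS.of_le SC' le_top) (PS hz.1) (cent_comm.1 le_rfl hz.1) hz.2
      (by rw [← pow_two]; exact (elemAb_oz S).2 z (p1 hz.1))⟩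
  have hN : sqs 𝐂(P) ⊲ ⊤ ⊓ 𝐍(P) := ⟨(sqs_le _).trans (le_inf le_top (cent_le_norm P)),
    inf_le_right.trans (norm_cent.trans (norm_sqs _))⟩
  have hT := hS.of_le (le_inf le_top (SC'.trans (cent_le_norm P))) inf_le_left
  have q3 : S ⊓ sqs 𝐂(P) = ⊥ := by
    by_contra e
    obtain ⟨V, v1, v2, v3, v4⟩ := ah.rel (Nat.lt_succ_of_le (card_le_card_group _)) h3
      (hT.inf_normal Nat.prime_two hN) e
    obtain ⟨W, w1, w2, w3, w4⟩ := exists_scl_of_normal hN hT v1 v2 v3 v4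
    have WS := w1.trans inf_le_left
    have w5 := (p2.ctrl hS PS (PS.trans SC')).scl WS w4
    have w6 := elemAb_omegaOne (p := 2) (isMulComm_iff_le_cent.2 w3)
    obtain ⟨A, a1, a2, a3, -⟩ := mem _ ((omegaOne_le 2 W).trans WS) w6
      (fun u hu g hg k => mem_omegaOne (w5 u (omegaOne_le 2 W hu) g hg k)
        (by rw [conj_pow, w6.2 u hu]; simp))
      (omegaOne_ne_bot Nat.prime_two
        (prime_dvd_card_of_isPGroup Nat.prime_two (hS.pgrp.to_le WS) w2))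
    exact a2 (eq_bot_iff.2 ((le_inf a3 (a1.trans ((omegaOne_le 2 W).trans
      (w1.trans inf_le_right)))).trans q2.le))
  have q4 : ∀ x ∈ S, x * x = 1 := fun x hx => q3.le ⟨mul_mem hx hx, sq_mem (SC' hx)⟩
  refine Or.inr fun Q hQ => isMulComm_iff_le_cent.2 fun x hx y hy => ?_
  obtain ⟨g, -, e⟩ := hS.exists_conj_le Nat.prime_two hQ le_top
  have q5 : ∀ x ∈ Q, x⁻¹ = x := fun x hx => P5.inv_eq_of_sq (by
    simpa [conj_mul] using q4 _ (e (conj_mem_conj hx g)))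
  rw [← q5 _ (mul_mem hy hx), mul_inv_rev, q5 x hx, q5 y hy]

end Cfsg.Agent.P18
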