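/-
P18, chapter C: the setup `CHyp ⇒ Nin0`, and the case of a four-group.
-/
import Cfsg.Agent.P18.C2
import Cfsg.Agent.P18.Defs

set_option autoImplicit false
set_option linter.unusedSectionVars false

namespace Cfsg.Agent.P14.C

open Subgroup Cfsg Cfsg.Agent Cfsg.Agent.FT MulAction Cfsg.Agent.P6
open Cfsg.Agent.P14.St (I3)
open scoped commutatorElement

universe u

variable {G : Type u} [Group G] [Finite G] {A W M : Subgroup G}

/-- `M` is a proper subgroup that contains `N(A)` and the centralizers of the elements of `A`. -/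
structure C4 (A M : Subgroup G) : Prop where
  el : IsElementaryAbelian 2 A
  sc : SC ⊤ A
  ne : M ≠ ⊤
  nrm : 𝐍(A) ≤ M
  cent : ∀ a ∈ A, a ≠ 1 → 𝐂[a] ≤ M

/-- The number of conjugates of an isolated involution is prime to three. -/
theorem i3_isolated (h3 : I3 G) {t : G} (ht : Inv t)
    (h : ∀ g : G, Commute t (g * t * g⁻¹) → g * t * g⁻¹ = t) : ¬ 3 ∣ 𝐂[t].index := by
  have e : {c | ∃ y ∈ (⊤ : Subgroup G), y * t * y⁻¹ = c} = {c | ∃ y ∈ Od ⊤, y * t * y⁻¹ = c} := by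
    ext c
    refine ⟨?_, fun ⟨y, _, e⟩ => ⟨y, mem_top y, e⟩⟩
    rintro ⟨g, -, rfl⟩
    have h1 : t * (g * t * g⁻¹) ∈ Od ⊤ := by
      have := P1.zstar ht.orderOf_eq h g
      rw [← H2.pPrimeCoreOf_top, commutatorElement_def, ht.inv_eq] at this
      convert this using 1
      group
    obtain ⟨y, hy, e⟩ := exists_conj_of_odd ht (ht.conj g) (odd_orderOf_of_mem (odd_Od _) h1)
    exact ⟨y, zpowers_le.2 h1 hy, e⟩
  rw [← relIndex_top_right, ← ncard_class, e, ncard_class]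
  exact i3_not_dvd h3 (odd_Od _) ht ((Od_normal ⊤).2 (mem_top t))

namespace C4

variable (h : C4 A M)
include h

theorem sq {a : G} (ha : a ∈ A) : a * a = 1 := by rw [← pow_two]; exact h.el.2 a ha

theorem cm : A ≤ 𝐂(A) := isMulComm_iff_le_cent.1 h.el.1

theorem inv {b : G} (hb : b ∈ clA A) : Inv b := by
  obtain ⟨a, ha, a1, k, rfl⟩ := hb
  exact ⟨P4.conj_ne_one a1 k, P4.conj_sq (sq h ha) k⟩

theorem mem_of {P : Subgroup G} (hP : IsPGroup 2 P) (hA : A ≤ P) {b : G} (hb : b ∈ clA A)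
    (hbP : b ∈ P) : b ∈ A := by
  obtain ⟨a, ha, -, k, rfl⟩ := hb
  exact h.sc P le_top hP hA a ha k trivial hbP

theorem key {K P : Subgroup G} (hA : A ≤ K) (hP : IsPGroup 2 P) (hK : P ≤ K) :
    ∃ k ∈ K, ∀ b ∈ clA A, b ∈ P → k * b * k⁻¹ ∈ A := by
  obtain ⟨S, hS, h1⟩ := exists_isSyl_ge Nat.prime_two (elemAb_isPGroup h.el) hA
  obtain ⟨k, hk, h2⟩ := hS.exists_conj_le Nat.prime_two hP hK
  exact ⟨k, hk, fun b hb hbP => mem_of h hS.pgrp h1 (clA_conj hb k) (h2 (conj_mem_conj hbP k))⟩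

theorem two {a b : G} {P : Subgroup G} (hP : IsPGroup 2 P) (ha : a ∈ clA A) (hb : b ∈ clA A)
    (haP : a ∈ P) (hbP : b ∈ P) : a * b = b * a := by
  obtain ⟨k, -, h1⟩ := key h le_top hP le_top
  have := mem_cent.1 (cm h (h1 b hb hbP)) _ (h1 a ha haP)
  rw [conj_mul, conj_mul] at this
  simpa using this

theorem two_sup {a : G} (ha : a * a = 1) {P : Subgroup G} (hP : IsPGroup 2 P) (hc : a ∈ 𝐂(P)) :
    IsPGroup 2 (zpowers a ⊔ P : Subgroup G) :=
  isPGroup_sup (P4.isPGroup_zpowers_of_sq ha) hP ((zpowers_le_of_mem hc).trans (cent_le_norm P))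

theorem mul {a b : G} (ha : a ∈ clA A) (hb : b ∈ clA A) (ne : a ≠ b) (hc : a * b = b * a) :
    a * b ∈ clA A := by
  obtain ⟨k, -, h1⟩ := key h le_top (two_sup h (inv h ha).sq (P4.isPGroup_zpowers_of_sq
    (inv h hb).sq) (cent_zpowers b ▸ mem_cent1.2 hc.symm)) le_top
  have h2 := mul_mem (h1 a ha (mem_sup_left (mem_zpowers a))) (h1 b hb (mem_sup_right (mem_zpowers b)))
  rw [conj_mul] at h2
  refine ⟨_, h2, P4.conj_ne_one (fun e => ne ?_) k, k⁻¹, by group⟩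
  exact mul_right_cancel (e.trans (inv h hb).sq.symm)

theorem le : A ≤ M := (le_norm_self A).trans h.nrm

theorem ti' {a x : G} (ha : a ∈ A) (hx : x * a * x⁻¹ ∈ A) :
    ∃ c ∈ 𝐂[x * a * x⁻¹], c * x ∈ 𝐍(A) := by
  obtain ⟨c, hc, h2⟩ := key h (K := 𝐂[x * a * x⁻¹]) (P := A ^ᵍ x)
    (mem_cent_iff_cent1.1 (cm h hx)) ((elemAb_isPGroup h.el).map _)
    (by rw [cent1_conj]; exact conj_mono (mem_cent_iff_cent1.1 (cm h ha)) x)
  refine ⟨c, hc, mem_norm_of_conj_le ?_⟩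
  intro y hy
  obtain ⟨b, hb, rfl⟩ := mem_conj'.1 hy
  by_cases b1 : b = 1
  · simp [b1]
  have := h2 _ (clA_conj (mem_clA hb b1) x) (conj_mem_conj hb x)
  rwa [show c * (x * b * x⁻¹) * c⁻¹ = c * x * b * (c * x)⁻¹ by group] at this

theorem ti {a x : G} (ha : a ∈ A) (a1 : a ≠ 1) (hx : x * a * x⁻¹ ∈ A) : x ∈ M := by
  obtain ⟨c, hc, e⟩ := ti' h ha hx
  exact (mul_mem_cancel_left (h.cent _ hx (P4.conj_ne_one a1 x) hc)).1 (h.nrm e)

theorem fix {b g : G} (hb : b ∈ clA A) (hg : b • (g : G ⧸ M) = g) :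
    ∃ k ∈ M, k * g⁻¹ * b * (k * g⁻¹)⁻¹ ∈ A := by
  have h1 := clA_conj hb g⁻¹
  obtain ⟨k, hk, h2⟩ := key h (le h) (P4.isPGroup_zpowers_of_sq (inv h h1).sq)
    (zpowers_le_of_mem (by simpa using smul_mk_eq_iff.1 hg))
  exact ⟨k, hk, by convert h2 _ h1 (mem_zpowers _) using 1; group⟩

/-- The class of `A^#`. -/
@[reducible] def icl : ICl G := ⟨clA A, inv h, clA_conj, mul h, two h⟩

theorem se : @SE G (G ⧸ M) _ (icl h) _ := by
  let _ := icl h
  refine ⟨fun {a} ha α β => ?_, fun {a} ha => ?_⟩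
  · induction α using QuotientGroup.induction_on with | H g => ?_
    induction β using QuotientGroup.induction_on with | H g' => ?_
    intro e e'
    obtain ⟨k, hk, h1⟩ := fix h ha.mem e
    obtain ⟨k', hk', h2⟩ := fix h ha.mem e'
    have h4 := ti h h2 (P4.conj_ne_one ha.ne _) (x := k * g⁻¹ * (k' * g'⁻¹)⁻¹)
      (by convert h1 using 1; group)
    rw [mul_inv_rev, inv_inv, mul_assoc k, mul_mem_cancel_left hk, ← mul_assoc,
      mul_mem_cancel_right (inv_mem hk')] at h4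
    exact QuotientGroup.eq.2 h4
  · obtain ⟨b, hb, -, g, rfl⟩ := ha.mem
    exact ⟨(g : G ⧸ M), smul_mk_eq_iff.2 (by simpa [mul_assoc] using le h hb)⟩

omit h in
theorem cent_idx (hc : A ≤ 𝐂(A)) (el : IsElementaryAbelian 2 A) (sc : SC ⊤ A) (h3 : I3 G)
    (h4 : 𝐨(A) = 4) {a : G} (ha : a ∈ A) (a1 : a ≠ 1) : ¬ 3 ∣ 𝐍(A).relIndex 𝐂[a] := by
  have ia : Inv a := ⟨a1, by rw [← pow_two]; exact el.2 a ha⟩
  have AC : A ≤ 𝐂[a] := mem_cent_iff_cent1.1 (hc ha)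
  have ZA : zpowers a ≤ A := zpowers_le.2 ha
  have := H1.normal_subgroupOf_of_le (P5.Mx.cent1_le_norm_zpowers a)
  have c2 : 𝐨(H1.bar 𝐂[a] (zpowers a) A) = 2 := by
    have := H1.card_mul_relIndex ZA
    rw [ia.card_zpowers, h4] at this
    rw [H1.card_bar AC]
    omega
  obtain ⟨t, ht, ot⟩ := exists_mem_orderOf_eq_prime Nat.prime_two c2.symm.dvd
  have e : zpowers t = H1.bar 𝐂[a] (zpowers a) A := H1.eq_of_le_of_card_le (zpowers_le.2 ht)
    (by rw [c2, Nat.card_zpowers, ot])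
  have it : Inv t := ⟨fun e => by simp [e] at ot, by rw [← pow_two, ← ot, pow_orderOf_eq_one]⟩
  have eu : H1.unbar 𝐂[a] (zpowers a) (zpowers t) = A := by rw [e, H1.unbar_bar_of_le ZA AC]
  refine fun hd => i3_isolated ((h3.subgroup _).of_surjective _ H1.qmk_surjective) it
    (fun g hg => ?_) (hd.trans ?_)
  · obtain ⟨b, hb, rfl⟩ := H1.mem_bar.1 ht
    obtain ⟨g, rfl⟩ := H1.qmk_surjective g
    refine (it.mem_zpowers_iff.1 ?_).resolve_left (it.conj _).ne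
    have p2 := isPGroup_sup it.isPGroup (it.conj (H1.qmk 𝐂[a] (zpowers a) g)).isPGroup
      ((zpowers_le.2 (mem_cent1.2 hg.symm.eq)).trans (P5.Mx.cent1_le_norm_zpowers _))
    rw [← map_inv, ← map_mul, ← map_mul] at p2 ⊢
    rw [← H1.coe_mem_unbar, eu]
    exact sc _ le_top (H1.isPGroup_unbar ia.isPGroup p2) (eu.ge.trans (H1.unbar_mono le_sup_left))
      b hb g trivial (H1.coe_mem_unbar.2 (mem_sup_right (mem_zpowers _)))
  · have a2 := H1.le_unbar (ZA.trans AC) 𝐂[t]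
    rw [← relIndex_top_right, ← H1.bar_top, ← H1.bar_unbar 𝐂[t], H1.relIndex_bar (ZA.trans AC)
      (H1.unbar_le _) le_rfl, sup_eq_left.2 a2, sup_eq_left.2 (ZA.trans AC)]
    refine relIndex_dvd_of_le_left _ ?_
    rw [← eu]
    refine H1.le_normalizer_unbar (H1.unbar_le _) ?_
    rw [H1.bar_unbar]
    exact P5.Mx.cent1_le_norm_zpowers t

/-- The strongly closed subgroup is not a four-group. -/
theorem not_four (h3 : I3 G) (h4 : 𝐨(A) = 4) : False := by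
  let _ := icl h
  have se := se h
  obtain ⟨a, ha, a1⟩ := (A.bot_or_exists_ne_one).resolve_left fun e => by simp [e] at h4
  have ia : ∀ b ∈ A, b ≠ 1 → In b := fun b hb b1 => ⟨⟨b1, sq h hb⟩, mem_clA hb b1⟩
  have st : stabilizer G ((1 : G) : G ⧸ M) = M := by rw [stab_mk, conj_one]
  have hF : ∀ γ : G ⧸ M, γ ∈ Fx (G ⧸ M) (⊤ : Subgroup G) := fun γ => by
    induction γ using QuotientGroup.induction_on with | H g => ?_
    exact ⟨_, mem_top _, (ia a ha a1).conj g,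
      smul_mk_eq_iff.2 (by simpa [mul_assoc] using le h ha)⟩
  have := nontrivial_quot h.ne
  obtain ⟨β, hβ⟩ := exists_ne ((1 : G) : G ⧸ M)
  have cj : ∀ c, In c → c ∈ M → ∃ y ∈ M, y * a * y⁻¹ = c := fun c hc hM => by
    obtain ⟨y, hy, e⟩ := se.exists_conj_St2 (N := ⊤) (ia a ha a1) hc (st.ge (le h ha)) (st.ge hM)
      hβ.symm (mem_top _) (mem_top _) (hF β)
    exact ⟨y, st.le hy.2.1, e⟩
  have e1 : Iv G ((1 : G) : G ⧸ M) ∩ (⊤ : Subgroup G) = {c | ∃ y ∈ M, y * a * y⁻¹ = c} := by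
    ext c
    refine ⟨fun hc => cj c hc.1.1 (st.le hc.1.2), ?_⟩
    rintro ⟨y, hy, rfl⟩
    exact ⟨⟨(ia a ha a1).conj y, st.ge (mul_mem (mul_mem hy (le h ha)) (inv_mem hy))⟩, mem_top _⟩
  have e2 := se.not_three_dvd h3 (hF β) (hF _) hβ
  rw [e1, ncard_class] at e2
  have e3 : {c | ∃ y ∈ 𝐍(A), y * a * y⁻¹ = c} = (A : Set G) \ {1} := by
    ext c
    refine ⟨?_, fun hc => ?_⟩
    · rintro ⟨y, hy, rfl⟩
      exact ⟨cjm hy ha, P4.conj_ne_one a1 y⟩
    · obtain ⟨y, -, rfl⟩ := cj c (ia c hc.1 hc.2) (le h hc.1)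
      obtain ⟨d, hd, e⟩ := ti' h ha hc.1
      exact ⟨_, e, by rw [← mem_cent1_iff_conj.1 hd]; group⟩
  have e4 := ncard_class 𝐍(A) a
  rw [e3, Set.ncard_sdiff_singleton_of_mem (one_mem A), ← Nat.card_coe_set_eq,
    SetLike.coe_sort_coe, h4, ← inf_relIndex_right] at e4
  have e5 := relIndex_mul_relIndex (𝐂[a] ⊓ 𝐍(A)) 𝐍(A) M inf_le_right h.nrm
  rw [← relIndex_mul_relIndex (𝐂[a] ⊓ 𝐍(A)) 𝐂[a] M inf_le_left (h.cent a ha a1), ← e4,
    inf_relIndex_left] at e5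
  exact (Nat.prime_three.dvd_mul.1 (e5 ▸ dvd_mul_right 3 _)).elim
    (cent_idx (cm h) h.el h.sc h3 h4 ha a1) e2

end C4

theorem exists_nin0 (hs : IsSimpleGroup G) (h3 : I3 G) (hk : KC.{u} (Nat.card G))
    (h : P18.CHyp A W) : ∃ _ : ICl G, Nin0 G (G ⧸ (W ⊔ 𝐍(A))) := by
  have c : C4 A (W ⊔ 𝐍(A)) := ⟨h.el, h.sc, h.ne, le_sup_right, h.cent⟩
  have h8 : 8 ≤ 𝐨(A) := by
    obtain ⟨k, hk⟩ := exists_card_eq_pow Nat.prime_two (elemAb_isPGroup h.el)
    have h4 := h.four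
    have h5 := mt (c.not_four h3) id
    rw [hk] at h4 h5 ⊢
    rcases k with _ | _ | _ | k
    · omega
    · omega
    · omega
    · exact Nat.pow_le_pow_right two_pos (by omega : 3 ≤ k + 1 + 1 + 1)
  let _ := c.icl
  refine ⟨inferInstance, c.se, hs, h3, hk, nontrivial_quot h.ne, fun α => ?_⟩
  induction α using QuotientGroup.induction_on with | H g => ?_
  rw [stab_mk]
  exact ⟨_, Pt.conj (A := A) ⟨h.el, h8, fun a ha a1 => ⟨⟨a1, c.sq ha⟩, mem_clA ha a1⟩,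
    fun a ha hc => c.mem_of (c.two_sup ha.sq (elemAb_isPGroup h.el) hc) le_sup_right
      ha.mem (mem_sup_left (mem_zpowers a)), c.le, sup_le_sup (le_Od ⟨le_sup_left,
        sup_le (le_norm_self W) h.nrm⟩ h.odd) (le_inf le_sup_right le_rfl)⟩ g⟩

end Cfsg.Agent.P14.C
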