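/-
P18: a proper subgroup that contains the centralizer of an element of a strongly closed
four-group does not fuse its involutions.
-/
import Cfsg.Agent.P18.CS
import Cfsg.Agent.P18.U0

set_option autoImplicit false

namespace Cfsg.Agent.P18

open Subgroup Cfsg Cfsg.Agent Cfsg.Agent.FT Cfsg.Agent.P14
open Cfsg.Agent.P14.St (I3)

universe u

theorem t0 {G : Type u} [Group G] [Finite G] (h3 : I3 G) {A : Subgroup G} (f4 : U.F4 A)
    (el : IsElementaryAbelian 2 A) (sc : SC ⊤ A) (M : Subgroup G) (hM : M ≠ ⊤) (t : G) (ht : t ∈ A)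
    (t1 : t ≠ 1) (hC : 𝐂[t] ≤ M) : M ⊓ 𝐍(A) ≤ 𝐂(A) := fun x hx => by
  by_contra hc
  have cj : ∀ a ∈ A, a ≠ 1 → ∃ g ∈ M, g * t * g⁻¹ = a := fun a ha a1 =>
    (f4.exists_conj hx.2 hc ht t1 ha a1).imp fun g hg => ⟨zpowers_le.2 hx.1 hg.1, hg.2⟩
  refine C.C4.not_four ⟨el, sc, hM, fun n hn => ?_, fun a ha a1 => ?_⟩ h3 f4.card
  · obtain ⟨g, hg, e⟩ := cj _ (U.F4.conj_mem hn ht) (P4.conj_ne_one t1 n)
    refine (mul_mem_cancel_left (inv_mem hg)).1 (hC (mem_cent1_iff_conj.2 ?_))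
    calc g⁻¹ * n * t * (g⁻¹ * n)⁻¹ = g⁻¹ * (n * t * n⁻¹) * g := by group
      _ = t := by rw [← e]; group
  · obtain ⟨g, hg, rfl⟩ := cj a ha a1
    rw [cent1_conj]
    exact conj_le_of_mem hC hg

end Cfsg.Agent.P18
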