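/-
P18, chapter W: abelian Sylow 2-subgroups.
-/
import Cfsg.Agent.P18.Defs
import Cfsg.Agent.P18.N1
import Cfsg.Agent.P12.Fin2

set_option autoImplicit false
set_option linter.unusedSectionVars false

namespace Cfsg.Agent.P18

open Subgroup Cfsg Cfsg.Agent Cfsg.Agent.FT Cfsg.Agent.P7
open Cfsg.Agent.P14.St (I3)
open Cfsg.Agent.L (mkSL2)
open scoped commutatorElement

universe u

variable {G : Type u} [Group G] [Finite G]

theorem l2_three (h3 : I3 G) {L : Subgroup G} {q : ℕ} (h : IsL2 L q) : ∃ f, q = 3 ^ (2 * f + 1) := by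
  obtain ⟨F, _, π, hπ, hq⟩ := h.cov
  haveI := hπ.finite
  obtain ⟨i, j, w, hV, tri, w3, -⟩ := hπ.exists_quat
  have w1 : π w ≠ 1 := fun e => tri.not_commute hV (e ▸ Commute.one_left _)
  rcases hπ.cases w1 with ⟨h1, -⟩ | ⟨-, h1⟩
  · obtain ⟨k, -, -, -, h2, -⟩ := hπ.exists_inv w1 h1
    exact absurd (h3 _ k w3 (h2 _ (hπ.self_mem w))) w1
  let _ := Fintype.ofFinite F
  obtain ⟨p, _, n, hp, hn⟩ := FiniteField.card' F
  rw [← Nat.card_eq_fintype_card, hq] at hn
  haveI := Fact.mk Nat.prime_three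
  have h2 := orderOf_dvd_card_of_mem (hπ.self_mem w)
  rw [orderOf_eq_prime w3 w1, h1, hq, hn] at h2
  obtain rfl := (Nat.prime_dvd_prime_iff_eq Nat.prime_three hp).1 (Nat.prime_three.dvd_of_dvd_pow h2)
  obtain ⟨f, hf⟩ := odd_exp hn h.mod
  exact ⟨f, hf ▸ hn⟩

theorem not_eac (hs : IsSimpleGroup G) (na : ¬ IsMulCommutative G) (h3 : I3 G) : ¬ L.EAC G := by
  intro he
  obtain ⟨n, hn, -, F, _, _, hF, ⟨e⟩⟩ := P12.eac_psl hs na he (by
    by_contra h
    haveI := feit_thompson G (Nat.odd_iff.2 (by omega))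
    exact na ⟨⟨IsSimpleGroup.comm_iff_isSolvable.2 inferInstance⟩⟩)
  have h2 : (2 : F) = 0 := by
    have h1 := FiniteField.cast_card_eq_zero F
    rw [hF, Nat.cast_pow] at h1
    exact pow_eq_zero_iff (by omega) |>.1 h1
  let x : Matrix.SpecialLinearGroup (Fin 2) F := mkSL2 0 (-1) 1 (-1) (by ring)
  let g : Matrix.SpecialLinearGroup (Fin 2) F := mkSL2 0 1 1 0 (by linear_combination -h2)
  have h4 : x ^ 3 = 1 := by
    rw [pow_succ, pow_two]
    refine sl_ext ?_ ?_ ?_ ?_ <;> simp only [sle, x] <;> ring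
  have h5 : g * x * g⁻¹ = x⁻¹ := by
    refine sl_ext ?_ ?_ ?_ ?_ <;> simp only [sle, x, g]
    · linear_combination h2
    · linear_combination -h2
    · linear_combination h2
    · ring
  have h6 := h3.of_surjective e.toMonoidHom e.surjective (QuotientGroup.mk' _ x)
    (QuotientGroup.mk' _ g) (by rw [← map_pow, h4, map_one])
    (by rw [← map_inv, ← map_mul, ← map_mul, h5, map_inv])
  obtain ⟨r, -, h7⟩ := Matrix.SpecialLinearGroup.mem_center_iff.1
    ((QuotientGroup.eq_one_iff x).1 h6)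
  have h8 := congrFun (congrFun h7 1) 0
  simp [x, mkSL2] at h8

theorem wStmt : WStmt.{u} := by
  intro G _ _ hs na h3 ab
  rcases walterAll hs na ab with h | ⟨q, h⟩ | h | ⟨t, L, h, -⟩ | ⟨t, L, U, q, h⟩
  · exact absurd h (not_eac hs na h3)
  · obtain ⟨f, rfl⟩ := l2_three h3 h
    exact ⟨f, h⟩
  · exact absurd h.1 (not_eac hs na h3)
  · obtain ⟨f, e⟩ := l2_three h3 h.l2
    have : 3 ∣ 5 := e ▸ dvd_pow_self 3 (by omega)
    omega
  exfalso
  obtain ⟨n, hn⟩ := h.pow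
  haveI := Fact.mk Nat.prime_two
  have h1 : U ≤ zpowers t ⊔ L := h.exact ▸ mem_cent_iff_cent1.1 (N.cent_of_two h3 (IsPGroup.of_card
    (n := n * 3) (by rw [h.cardU, hn, pow_mul])) h.tB (k := 1) (by
      rw [pow_one, ← h.inv, pow_orderOf_eq_one]; exact one_mem _))
  obtain ⟨F, _, π, hπ, hq⟩ := h.l2.cov
  obtain ⟨k, l, e⟩ := exists_ep h.l2.mod
  have h2 := (Subgroup.card_dvd_of_le h1).trans (H1.card_sup_dvd
    (zpowers_le.2 (h.normal.2 (self_mem_cent1 t))))
  rw [h.cardU, Nat.card_zpowers, h.inv, hπ.cardL hq e, ← mul_assoc, pow_succ,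
    Nat.mul_dvd_mul_iff_right (by have := h.big; omega)] at h2
  have h4 := Nat.eq_one_of_dvd_coprimes ((Nat.coprime_two_right.2 e.oddq).mul_right
    (e.cop_qk.mul_right e.cop_ql)) dvd_rfl ((dvd_pow_self q two_ne_zero).trans h2)
  have := h.big
  omega

end Cfsg.Agent.P18
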