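/-
P18, chapter B4: assembly.
-/
import Cfsg.Agent.P18.B4b
import Cfsg.Agent.P18.B4d2
import Cfsg.Agent.P18.B6
import Cfsg.Agent.P18.BG
import Cfsg.Agent.P18.BS
import Cfsg.Agent.P18.T0
import Cfsg.Agent.P18.W
import Cfsg.Agent.P18.P

set_option autoImplicit false
set_option linter.unusedSectionVars false

namespace Cfsg.Agent.P18.B4

open Subgroup Cfsg Cfsg.Agent Cfsg.Agent.FT
open Cfsg.Agent.P14 (cmr)
open Cfsg.Agent.H2.ZC (oc)
open Cfsg.Agent.H7.SC (od)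

universe u

variable {G : Type u} [Group G] [Finite G]

theorem card_four {A S : Subgroup G} (h : Gl A S) (h4 : 𝐨(A) ≤ 4) : 𝐨(A) = 4 := by
  obtain ⟨⟨z, hz⟩, h1⟩ := ne_bot_iff_exists_ne_one.1 h.ne
  have h1' : z ≠ 1 := fun e => h1 (Subtype.ext e)
  by_contra h8
  have a1 : 𝐂[z].relIndex 𝐍(A) ≤ 𝐨(A) :=
    H2.relIndex_centralizer_le_card fun g hg => cmr hg hz
  have a2 : ¬ 2 ∣ 𝐂[z].relIndex 𝐍(A) := fun e => (h.syl.of_le h.nrm le_top).ndvd
    (e.trans (relIndex_dvd_of_le_left _ ((BS.cen h h4).trans (cent_le_cent1 hz))))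
  obtain ⟨k, hk⟩ := exists_card_eq_pow Nat.prime_two h.pg
  have a4 : 𝐨(A) ≤ 2 ^ 1 := hk ▸ Nat.pow_le_pow_right two_pos (by
    by_contra e
    have := Nat.pow_le_pow_right two_pos (by omega : 2 ≤ k)
    omega)
  have a5 := H2.relIndex_pos 𝐂[z] 𝐍(A)
  have hc : 𝐍(A) ≤ 𝐂[z] := relIndex_eq_one.1 (by omega)
  obtain ⟨P, hP⟩ := h.syl.exists_sylow_top Nat.prime_two
  have h2 := P1.zstar_sylow P (orderOf_eq_prime (h.el.2 z hz) h1') (hP.ge (h.le hz))
    fun g hg => by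
      obtain ⟨m, hm, e⟩ := h.elt (h.le hz) (hP.le hg)
      rw [e]
      exact mem_cent1_iff_conj.1 (hc hm)
  rcases h.sim.eq_bot_or_eq_top_of_normal (pPrimeCore 2 G) inferInstance with h3 | h3
  · refine h.cent_ne h1' (top_le_iff.1 fun g _ => ?_)
    have := h2 g
    rw [h3, mem_bot, commutatorElement_eq_one_iff_mul_comm] at this
    exact mem_cent1.2 this
  · have := H1.inf_eq_bot_of_coprime' (H1.coprime_card_of_isPGroup h.pg
      (L.coprime_card_pPrimeCore (G := G) 2))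
    rw [h3, top_inf_eq] at this
    exact absurd this h.ne

theorem b4_of (hc : B4cStmt.{u}) : B4Stmt.{u} := by
  intro G _ _ A S h h4 hs
  haveI := h.sim
  have c4 := card_four h h4
  have cen := BS.cen h h4
  have f4 : U.F4 A := ⟨c4, fun _ => h.sq, fun e => (h.syl.of_le h.nrm le_top).ndvd
    (e.trans (relIndex_dvd_of_le_left _ cen))⟩
  have hsq : ∀ T, IsSyl 2 T ⊤ → A ≤ T → A ≤ sqs T := fun T hT hA a ha =>
    BS.transfer (hT.of_le (two_le_cent f4 h.sc hT.pgrp hA) le_top) (hA ha)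
      (cent_comm.1 le_rfl ha) (BS.sqs_mono cen (hs ha)) (h.sq ha)
  have b2 := b2Stmt G A S h h4
  have loc : ∀ T, IsSyl 2 T ⊤ → A ≤ T → ∀ X : Subgroup G, X ≠ ⊤ → T ≤ X →
      X ≤ od X ⊔ X ⊓ 𝐍(A) := fun T hT hA X hX TX => b2 X hX (hA.trans TX) fun act => by
    obtain ⟨W, d, l⟩ := lf h h4 hX (hT.of_le TX le_top) hA act
    exact h.ne (eq_bot_iff.2 ((le_inf le_rfl ((hsq T hT hA).trans
      (l.sqs_le f4 (two_le_cent f4 h.sc hT.pgrp hA)))).trans l.disj.le))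
  have locA : ∀ a ∈ A, a ≠ 1 → 𝐂[a] ≤ oc a ⊔ 𝐂[a] ⊓ 𝐍(A) := fun a ha a1 =>
    loc S h.syl h.le _ (h.cent_ne a1) (cen.trans (cent_le_cent1 ha))
  by_contra n
  have ex : ∀ t ∈ 𝐂(A), t * t = 1 → t ∉ A → ∃ a ∈ A, Ai A (a * t) := fun t tc tt tA => by
    by_contra! k
    refine n ⟨_, chyp_of h c4.ge (wc_cop ⟨h.el, c4⟩ ((pow_two t).trans tt) tA tc (fun e he e1 => ?_)
      fun a ha a1 g hg => f4.mem_cent_of_commute hg.2 ha a1 (mem_cent1_iff_commute.1 hg.1).symm)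
      fun a ha a1 => (locA a ha a1).trans (sup_le_sup_left inf_le_right _)⟩
    obtain ⟨a, ha, z, hz, rfl⟩ := (mem_sup_of_norm (zpowers_le.2 (cent_le_norm A tc))).1 he
    rcases (P7.mem_zpowers_invol tt).1 hz with rfl | rfl
    · rw [mul_one] at e1 ⊢
      exact locA a ha e1
    have c := mul_mem (h.cc ha) tc
    refine b2 _ (h.cent_ne e1) (mem_cent_iff_cent1.1 c) fun act => k a ha ⟨?_, ?_, c, act⟩
    · rw [(show Commute z a from (tc a ha).symm).mul_mul_mul_comm, h.sq ha, tt, one_mul]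
    · rwa [mul_mem_cancel_left ha]
  by_cases e : ∀ t ∈ S, t * t = 1 → t ∈ A
  · have ab := U.uStmt h.i3 h.syl (fun x => ⟨fun hx => ⟨h.le hx, h.sq hx⟩, fun hx => e x hx.1 hx.2⟩)
      cen c4
    obtain ⟨s, t, v, e'⟩ := l3_syl (wStmt G h.sim h.nc h.i3 fun P hP => by
      obtain ⟨g, -, k⟩ := h.syl.exists_le_conj Nat.prime_two hP le_top
      exact isMulComm_of_le k (isMulComm_iff_le_cent.2
        (conj_le_cent_iff.2 (isMulComm_iff_le_cent.1 ab)))) h.syl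
    have : S ≤ A := by
      rw [e', closure_le]
      rintro x (rfl | rfl)
      · exact e x (e'.ge (subset_closure (by simp))) v.tt
      · exact e x (e'.ge (subset_closure (by simp))) v.ss
    refine h.ne (eq_bot_iff.2 (hs.trans ((closure_le _).2 ?_)))
    rintro _ ⟨x, hx, rfl⟩
    exact h.sq (this hx)
  push Not at e
  obtain ⟨t, ht, tt, tA⟩ := e
  obtain ⟨a, -, h0⟩ := ex t (cen ht) tt tA
  obtain ⟨T, Z, W, Q, d, c, w4, max⟩ := exists_ac h f4 b2 hsq h0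
  obtain ⟨k, hk⟩ := exists_card_eq_pow Nat.prime_two
    ((elemAb_isPGroup c.el).to_le (le_sup_right.trans c.sup.le))
  have k0 : k ≠ 0 := fun e => c.ne (card_eq_one.1 (by rw [hk, e, pow_zero]))
  have k2 : k ≤ 2 := by
    by_contra e
    have := Nat.pow_le_pow_right two_pos (by omega : 3 ≤ k)
    omega
  rcases (by omega : k = 1 ∨ k = 2) with rfl | rfl
  · refine hc G A T Z W Q d c hk fun u hu uu uA => ?_
    obtain ⟨b, hb, h1⟩ := ex u (c.cen hu) uu uA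
    refine (max _ h1 (T ⊓ 𝐂[u]) (fun x hx => mem_cent1_comm.1 (mul_mem (mem_cent1_comm.1
      (cent_le_cent1 hb (c.cen hx.1))) (mem_cent1_comm.1 hx.2)))
      (c.gl.syl.pgrp.to_le inf_le_left)).trans ?_
    rw [← c.sup, H1.card_sup_of_inf_eq_bot ((cent_comm.1 ((le_sup_right.trans c.sup.le).trans
      (c.ZQ.trans (c.QS.trans c.cen)))).trans (cent_le_norm W)) c.disj, c4, hk]
    norm_num
  · obtain ⟨rfl, full⟩ := b4d G A T Z W Q d c hk
    exact b6 c.gl f4 c.cen (loc Q c.gl.syl c.gl.le)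
      (fun M hM t ht t1 hC => t0 h.i3 f4 h.el h.sc M hM t ht t1 hC) c.ZQ c.sup c.disj c.el hk
      (commutator_le.2 c.com) full c.dW c.dA c.dn c.key

end Cfsg.Agent.P18.B4
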