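/-
P18, chapter B4 (c): the case `|W| = 2`, by Thompson's transfer lemma.
-/
import Cfsg.Agent.P18.B4D
import Cfsg.Agent.H8.ThompsonTransfer

set_option autoImplicit false
set_option linter.unusedSectionVars false
set_option linter.style.haveILetI false

namespace Cfsg.Agent.P18

open Subgroup Cfsg Cfsg.Agent Cfsg.Agent.FT
open scoped commutatorElement

universe u

namespace B4c

variable {G : Type u} [Group G] [Finite G]

theorem br1 {v q : G} : ⁅q, v⁆ = 1 ↔ q ∈ 𝐂[v] :=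
  commutatorElement_eq_one_iff_mul_comm.trans (mem_cent1.symm.trans mem_cent1_comm)

theorem br_mul (x y t : G) : ⁅x * y, t⁆ = x * ⁅y, t⁆ * x⁻¹ * ⁅x, t⁆ := by
  simp only [commutatorElement_def]; group

theorem br_conj (g v q : G) : ⁅g * v * g⁻¹, g * q * g⁻¹⁆ = g * ⁅v, q⁆ * g⁻¹ := by
  simp only [commutatorElement_def]; group

/-- The elements whose commutator with `t` lies in `M`. -/
def st (t : G) (M : Subgroup G) : Subgroup G where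
  carrier := {s | s ∈ 𝐍(M) ∧ ⁅s, t⁆ ∈ M}
  one_mem' := ⟨one_mem _, by simp⟩
  mul_mem' := fun {x y} hx hy => ⟨mul_mem hx.1 hy.1, by
    rw [br_mul]; exact mul_mem ((mem_normalizer_iff.1 hx.1 _).1 hy.2) hx.2⟩
  inv_mem' := fun {x} hx => ⟨inv_mem hx.1, by
    have := (mem_normalizer_iff''.1 hx.1 _).1 (inv_mem hx.2)
    convert this using 1
    simp only [commutatorElement_def]; group⟩

/-- The configuration. -/
structure Cc (A S Z Q : Subgroup G) (d e : G) : Prop where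
  f4 : U.F4 A
  sc : P14.SC ⊤ A
  syl : IsSyl 2 S ⊤
  cen : S ≤ 𝐂(A)
  hZ : A ⊔ zpowers e = Z
  eA : e ∉ A
  iZ : A.relIndex Z = 2
  el : IsElementaryAbelian 2 Z
  ZQ : Z ≤ Q
  QS : Q ≤ S
  sylQ : IsSyl 2 Q 𝐍(Z)
  sylZ : IsSyl 2 Z 𝐂[e]
  idx : Z.relIndex Q = 4
  com : ∀ x ∈ Q, ∀ y ∈ Q, ⁅x, y⁆ ∈ A
  sq : ∀ x ∈ Q, x * x ∈ A
  dQ : d ∈ 𝐍(Q)
  de : d ∈ 𝐂[e]
  dA : d ∈ 𝐍(A)
  dn : d ∉ 𝐂(A)
  inv : ∀ t ∈ S, t * t = 1 → t ∉ A → 𝐨((S ⊓ 𝐂[t] : Subgroup G)) ≤ 8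

namespace Cc

variable {A S Z Q : Subgroup G} {d e : G} (c : Cc A S Z Q d e)
include c

theorem AZ : A ≤ Z := c.hZ ▸ le_sup_left

theorem AQ : A ≤ Q := c.AZ.trans c.ZQ

theorem eZ : e ∈ Z := c.hZ ▸ mem_sup_right (mem_zpowers e)

theorem eQ : e ∈ Q := c.ZQ c.eZ

theorem zz {z : G} (h : z ∈ Z) : z * z = 1 := pow_two z ▸ (H5.elemAb_iff.1 c.el).2 z h

theorem cm {s a : G} (hs : s ∈ S) (ha : a ∈ A) : a * s = s * a := mem_cent.1 (c.cen hs) a ha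

theorem fx {s a : G} (hs : s ∈ S) (ha : a ∈ A) : s * a * s⁻¹ = a := by
  rw [← c.cm hs ha, mul_inv_cancel_right]

theorem mulZ {z : G} (h : z ∈ Z) (h' : z ∉ A) : z * e ∈ A :=
  (mul_mem_iff_of_index_two c.iZ (a := ⟨z, h⟩) (b := ⟨e, c.eZ⟩)).2 (iff_of_false h' c.eA)

theorem cardQ : 𝐨(Q) = 32 := by
  have h1 := H1.card_inf_mul_relIndex A Z
  have h2 := H1.card_inf_mul_relIndex Z Q
  rw [inf_eq_left.2 c.AZ, c.iZ, c.f4.card] at h1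
  rw [inf_eq_left.2 c.ZQ, c.idx, ← h1] at h2
  exact h2.symm

theorem ph_mul {x y t : G} (hx : x ∈ S) (h1 : ⁅x, t⁆ ∈ A) (h2 : ⁅y, t⁆ ∈ A) :
    ⁅x * y, t⁆ = ⁅x, t⁆ * ⁅y, t⁆ := by rw [br_mul, c.fx hx h2, (c.f4.comm h2 h1).eq]

theorem ker {x : G} (hx : x ∈ Q) (h : ⁅x, e⁆ = 1) : x ∈ Z :=
  (c.sylZ.eq_of_le Nat.prime_two (le_inf c.ZQ c.sylZ.le) inf_le_right
    (c.sylQ.pgrp.to_le inf_le_left)).le (mem_inf.2 ⟨hx, br1.1 h⟩)

theorem ker2 {x y : G} (hx : x ∈ Q) (hy : y ∈ Q) (h : ⁅x, e⁆ = ⁅y, e⁆) : x⁻¹ * y ∈ Z := by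
  refine c.ker (mul_mem (inv_mem hx) hy) (mul_left_cancel (a := ⁅x, e⁆) ?_)
  rw [← c.ph_mul (c.QS hx) (c.com _ hx _ c.eQ) (c.com _ (mul_mem (inv_mem hx) hy) _ c.eQ),
    mul_inv_cancel_left, mul_one, h]

theorem sqA {x a : G} (hx : x ∈ S) (ha : a ∈ A) : x * a * (x * a) = x * x := by
  rw [mul_assoc, ← mul_assoc a, c.cm hx ha, mul_assoc, c.f4.sq a ha, mul_one]

theorem brA {x a : G} (t : G) (ht : t ∈ S) (ha : a ∈ A) : ⁅x * a, t⁆ = ⁅x, t⁆ := by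
  rw [br_mul, br1.2 (mem_cent1.2 (c.cm ht ha).symm), mul_one, mul_inv_cancel, one_mul]

/-- An element with trivial norm commutes with its conjugate. -/
theorem tri_comm {ρ x : G} (h1 : ρ ∈ 𝐍(A)) (h2 : ρ ∉ 𝐂(A)) (hx : x ∈ Q) (hy : ρ * x * ρ⁻¹ ∈ Q)
    (h : x * (ρ * x * ρ⁻¹) * (ρ * (ρ * x * ρ⁻¹) * ρ⁻¹) ∈ A) : ρ * x * ρ⁻¹ ∈ 𝐂[x] := by
  rw [← br1]
  by_contra n
  refine (c.f4.tri h1 h2 (c.com _ hy _ hx) n).1 ?_
  rw [← br_conj]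
  generalize ρ * x * ρ⁻¹ = y at *
  generalize ρ * y * ρ⁻¹ = w at *
  have e1 : w = (x * y)⁻¹ * (x * y * w) := by group
  rw [e1, c.brA y (c.QS hy) h]
  calc _ = (x * y)⁻¹ * ⁅y, x⁆ * (x * y)⁻¹⁻¹ := by simp only [commutatorElement_def]; group
    _ = _ := c.fx (inv_mem (c.QS (mul_mem hx hy))) (c.com _ hy _ hx)

theorem phd (x : G) : ⁅d * x * d⁻¹, e⁆ = d * ⁅x, e⁆ * d⁻¹ := by
  rw [← br_conj, mem_cent1_iff_conj.1 c.de]

theorem dq {x : G} (hx : x ∈ Q) : d * x * d⁻¹ ∈ Q := (mem_normalizer_iff.1 c.dQ x).1 hx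

theorem ex_x : ∃ x ∈ Q, x ∉ Z ∧ d * x * d⁻¹ ∈ 𝐂[x] := by
  obtain ⟨x, hx, hz⟩ := not_forall₂.1 fun h : Q ≤ Z => by
    have := c.idx
    rw [relIndex_eq_one.2 h] at this
    omega
  have h1 := c.dq hx
  have h2 := c.dq h1
  have p := fun {y : G} (hy : y ∈ Q) => c.com y hy e c.eQ
  have h3 : x * (d * x * d⁻¹) * (d * (d * x * d⁻¹) * d⁻¹) ∈ Z := by
    refine c.ker (mul_mem (mul_mem hx h1) h2) ?_
    rw [c.ph_mul (c.QS (mul_mem hx h1)) (p (mul_mem hx h1)) (p h2), c.ph_mul (c.QS hx) (p hx) (p h1),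
      c.phd (d * x * d⁻¹), c.phd, (c.f4.tri c.dA c.dn (p hx) fun r => hz (c.ker hx r)).2]
    exact c.f4.sq _ (mul_mem (p hx) (U.F4.conj_mem c.dA (p hx)))
  by_cases h : x * (d * x * d⁻¹) * (d * (d * x * d⁻¹) * d⁻¹) ∈ A
  · exact ⟨x, hx, hz, c.tri_comm c.dA c.dn hx h1 h⟩
  have hxe := mul_mem hx c.eQ
  refine ⟨x * e, hxe, fun r => hz ((mul_mem_cancel_right c.eZ).1 r),
    c.tri_comm c.dA c.dn hxe (c.dq hxe) ?_⟩
  have e0 : ∀ u, d * (u * e) * d⁻¹ = d * u * d⁻¹ * e := fun u => by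
    rw [← conj_mul, mem_cent1_iff_conj.1 c.de]
  rw [e0, e0]
  have h4 := mul_mem (c.com _ c.eQ _ h1) (c.mulZ h3 h)
  generalize d * (d * x * d⁻¹) * d⁻¹ = w at *
  generalize d * x * d⁻¹ = y at *
  rw [← c.fx (c.QS hx) (c.com _ c.eQ _ h1)] at h4
  convert h4 using 1
  rw [commutatorElement_def, inv_eq_of_mul_eq_one_right (c.zz c.eZ)]
  calc _ = x * e * y * e * w * e := by group
    _ = _ := by group

/-- The abelian subgroup `R` of index 2 in `Q`. -/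
theorem ex_R : ∃ R : Subgroup G, A ≤ R ∧ R ≤ Q ∧ R ≤ 𝐂(R) ∧ (∀ q ∈ Q, q * e ∈ R ∨ q ∈ R) ∧
    (∃ g ∈ 𝐍(A), ∀ r ∈ R, ⁅r, e⁆ = g * (r * r) * g⁻¹) ∧
    ∃ x ∈ R, ∃ y ∈ R, x ∉ A ∧ y ∉ A ∧ x * y ∉ A := by
  obtain ⟨x, hx, hz, hc⟩ := c.ex_x
  have h1 := c.dq hx
  have p := fun {y : G} (hy : y ∈ Q) => c.com y hy e c.eQ
  have n1 : ⁅x, e⁆ ≠ 1 := fun r => hz (c.ker hx r)
  have n2 := (c.f4.tri c.dA c.dn (p hx) n1).1
  have n3 : d * ⁅x, e⁆ * d⁻¹ ≠ 1 := fun r => n1 (by simpa using r)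
  have pm := c.ph_mul (c.QS hx) (p hx) (p h1)
  obtain ⟨R, r1, r2, r3, r4, r5⟩ : ∃ R : Subgroup G, A ≤ R ∧ R ≤ Q ∧ R ≤ 𝐂(R) ∧ x ∈ R ∧
      d * x * d⁻¹ ∈ R := by
    have k : ∀ y ∈ Q, A ≤ 𝐂[y] := fun y hy => mem_cent_iff_cent1.1 (c.cen (c.QS hy))
    refine ⟨A ⊔ zpowers x ⊔ zpowers (d * x * d⁻¹), le_sup_left.trans le_sup_left,
      sup_le (sup_le c.AQ (zpowers_le.2 hx)) (zpowers_le.2 h1), ?_,
      mem_sup_left (mem_sup_right (mem_zpowers _)), mem_sup_right (mem_zpowers _)⟩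
    rw [cent_sup, cent_sup, cent_zpowers, cent_zpowers]
    exact le_inf (le_inf ((sup_le (sup_le c.AQ (zpowers_le.2 hx)) (zpowers_le.2 h1)).trans
      (c.QS.trans c.cen)) (sup_le (sup_le (k _ hx) (zpowers_le.2 (self_mem_cent1 _)))
        (zpowers_le.2 hc))) (sup_le (sup_le (k _ h1) (zpowers_le.2 (mem_cent1_comm.1 hc)))
        (zpowers_le.2 (self_mem_cent1 _)))
  have eR : e ∉ R := fun h => n1 (br1.2 (cent_le_cent1 h (r3 r4)))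
  have dec : ∀ q ∈ Q, ∃ u, (u = 1 ∨ u = x ∨ u = d * x * d⁻¹ ∨ u = x * (d * x * d⁻¹)) ∧ u ∈ R ∧
      u⁻¹ * q ∈ Z := fun q hq => by
    rcases c.f4.mem_cases (p hx) (U.F4.conj_mem c.dA (p hx)) n1 n3 n2.symm (p hq) with h | h | h | h
    · exact ⟨1, by simp, one_mem _, c.ker2 (one_mem _) hq (by simp [h])⟩
    · exact ⟨x, by simp, r4, c.ker2 hx hq h.symm⟩
    · exact ⟨_, by simp, r5, c.ker2 h1 hq (by rw [h, c.phd])⟩
    · exact ⟨_, by simp, mul_mem r4 r5, c.ker2 (mul_mem hx h1) hq (by rw [h, pm, c.phd])⟩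
  have two : ∀ q ∈ Q, q * e ∈ R ∨ q ∈ R := fun q hq => by
    obtain ⟨u, -, u1, u2⟩ := dec q hq
    by_cases h : u⁻¹ * q ∈ A
    · exact .inr (by simpa using mul_mem u1 (r1 h))
    · exact .inl (by simpa [mul_assoc] using mul_mem u1 (r1 (c.mulZ u2 h)))
  have xx : x * x ≠ 1 := fun h => by
    have a1 := c.inv x (c.QS hx) h fun r => hz (c.AZ r)
    have a2 := card_le_of_le (le_inf (r2.trans c.QS) (r3.trans (cent_le_cent1 r4)))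
    have a3 := H1.card_inf_mul_relIndex R Q
    rw [inf_eq_left.2 r2, relIndex_eq_two_iff_exists_notMem_and.2 ⟨e, c.eQ, eR, two⟩, c.cardQ] at a3
    omega
  obtain ⟨g, hg, g1⟩ := c.f4.exists_conj c.dA c.dn (c.sq x hx) xx (p hx) n1
  have g2 : ⁅d * x * d⁻¹, e⁆ = g * (d * x * d⁻¹ * (d * x * d⁻¹)) * g⁻¹ := by
    obtain ⟨k, rfl⟩ := mem_zpowers_iff.1 hg
    rw [c.phd, ← g1]
    group
  refine ⟨R, r1, r2, r3, two, ⟨g, zpowers_le.2 c.dA hg, fun r hr => ?_⟩, x, r4, _, r5,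
    fun h => hz (c.AZ h), fun h => n3 (c.phd x ▸ br1.2 (c.sylZ.le (c.AZ h))),
    fun h => c.f4.mul_ne_one (U.F4.conj_mem c.dA (p hx)) n2.symm
      (c.phd x ▸ pm ▸ br1.2 (c.sylZ.le (c.AZ h)))⟩
  obtain ⟨u, u0, u1, u2⟩ := dec r (r2 hr)
  have u3 : u⁻¹ * r ∈ A := by_contra fun h =>
    eR ((mul_mem_cancel_left (mul_mem (inv_mem u1) hr)).1 (r1 (c.mulZ u2 h)))
  rw [← mul_inv_cancel_left u r, c.sqA (c.QS (r2 u1)) u3, c.brA e (c.QS c.eQ) u3]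
  rcases u0 with rfl | rfl | rfl | rfl
  · simp
  · exact g1.symm
  · exact g2
  · rw [pm, g2, ← g1, conj_mul, (mem_cent1_iff_commute.1 hc).mul_mul_mul_comm]

theorem idx4 {t : G} (h : ∀ s ∈ S, ⁅s, t⁆ ∈ A) : 𝐂[t].relIndex S ≤ 4 := by
  let f : S →* G := MonoidHom.mk' (fun s => ⁅(s : G), t⁆) fun a b =>
    c.ph_mul a.2 (h _ a.2) (h _ b.2)
  have e1 : f.ker = 𝐂[t].subgroupOf S := Subgroup.ext fun s => br1
  rw [relIndex, ← e1, index_ker, ← c.f4.card]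
  exact card_le_of_le (by rintro _ ⟨s, rfl⟩; exact h _ s.2)

theorem N0_le : S ⊓ H1.commStab S A ≤ 𝐍(Z) := comm_le_right_iff.1 (commutator_le.2
  fun x hx z hz => commutatorElement_inv z x ▸ inv_mem (c.AZ (hx.2.2 z (c.QS (c.ZQ hz)))))

/-- Two commuting elements that are central modulo `A`. -/
theorem ex_pair : ∃ x ∈ S ⊓ H1.commStab S A, ∃ y ∈ S ⊓ H1.commStab S A, y ∈ 𝐂[x] ∧
    x ∉ A ∧ y ∉ A ∧ x * y ∉ A := by
  have SN : S ≤ 𝐍(A) := c.cen.trans (cent_le_norm A)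
  by_cases hS : S ≤ Q
  · obtain ⟨R, -, r2, r3, -, -, x, hx, y, hy, h⟩ := c.ex_R
    have k : R ≤ S ⊓ H1.commStab S A := fun r hr => mem_inf.2 ⟨c.QS (r2 hr), SN (c.QS (r2 hr)),
      fun g hg => c.com g (hS hg) r (r2 hr)⟩
    exact ⟨x, k hx, y, k hy, cent_le_cent1 hx (r3 hy), h⟩
  have NQ : S ⊓ H1.commStab S A ≤ Q := (le_inf inf_le_left c.N0_le).trans
    (c.sylQ.eq_of_le Nat.prime_two (le_inf c.QS c.sylQ.le) inf_le_right
      (c.syl.pgrp.to_le inf_le_left)).le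
  have ni : ∀ t ∈ S ⊓ H1.commStab S A, t * t = 1 → t ∈ A := fun t ht tt => by_contra fun n => by
    have a1 := c.inv t ht.1 tt n
    have a2 := c.idx4 ht.2.2
    have a3 := H1.card_inf_mul_relIndex 𝐂[t] S
    rw [inf_comm] at a3
    exact hS (H1.eq_of_le_of_card_le c.QS (by rw [c.cardQ, ← a3]; nlinarith)).ge
  obtain ⟨ρ, r1, r2⟩ := not_forall₂.1 fun h : 𝐍(A) ⊓ 𝐍(S) ≤ 𝐂(A) => c.dn ((sup_le le_rfl h)
    (((c.syl.of_le c.cen le_top).frattini Nat.prime_two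
      ⟨cent_le_norm A, H1.normalizer_le_normalizer_centralizer A⟩).ge c.dA))
  have cj : ∀ x ∈ S ⊓ H1.commStab S A, ρ * x * ρ⁻¹ ∈ S ⊓ H1.commStab S A := fun x hx => by
    have := (mem_normalizer_iff.1 r1.2 x).1 hx.1
    refine mem_inf.2 ⟨this, SN this, fun g hg => ?_⟩
    rw [show g = ρ * (ρ⁻¹ * g * ρ) * ρ⁻¹ by group, br_conj]
    exact U.F4.conj_mem r1.1 (hx.2.2 _ ((mem_normalizer_iff''.1 r1.2 g).1 hg))
  obtain ⟨x, hx, xA⟩ : ∃ x ∈ S ⊓ H1.commStab S A, x ∉ A := by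
    obtain ⟨L, ⟨l1, l2, l3⟩, hm⟩ := Set.exists_min_image
      {L : Subgroup G | L ≤ S ∧ S ≤ 𝐍(L) ∧ ¬ L ≤ A} (fun L => 𝐨(L)) (Set.toFinite _)
      ⟨S, le_rfl, le_norm_self S, fun h => c.eA (h (c.QS c.eQ))⟩
    haveI := isNilpotent_of_isPGroup Nat.prime_two c.syl.pgrp
    have m1 : ⁅L, S⁆ < L := Agent.L.commutator_lt_of_isNilpotent l1 l2 fun e => l3 (e ▸ bot_le)
    have m3 : ⁅L, S⁆ ≤ A := by_contra fun e => (H1.card_lt_of_lt m1).not_ge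
      (hm _ ⟨m1.le.trans l1, H1.le_normalizer_commutator l2 (le_norm_self S), e⟩)
    obtain ⟨x, hx, xA⟩ := not_forall₂.1 l3
    exact ⟨x, mem_inf.2 ⟨l1 hx, SN (l1 hx), fun g hg => commutatorElement_inv x g ▸
      inv_mem (m3 (commutator_mem_commutator hx hg))⟩, xA⟩
  have hy := cj x hx
  have hw := cj _ hy
  have p := fun {y : G} (hy : y ∈ S ⊓ H1.commStab S A) => c.com y (NQ hy) e c.eQ
  have ne : ∀ u ∈ S ⊓ H1.commStab S A, ∀ v ∈ S ⊓ H1.commStab S A, u * u ≠ v * v →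
      ⁅u, e⁆ ≠ ⁅v, e⁆ := fun u hu v hv h r => h (by
    have := c.ker2 (NQ hu) (NQ hv) r
    rw [← c.sqA hu.1 (ni _ (mul_mem (inv_mem hu) hv) (c.zz this)), mul_inv_cancel_left])
  have x1 : x * x ≠ 1 := fun h => xA (ni x hx h)
  have xs := c.sq x (NQ hx)
  obtain ⟨t1, t2⟩ := c.f4.tri r1.1 r2 xs x1
  have y1 : ρ * (x * x) * ρ⁻¹ ≠ 1 := fun h => x1 (by simpa using h)
  have n1 := ne x hx 1 (one_mem _) (by simpa using x1)
  have n2 := ne _ hy 1 (one_mem _) (by rw [conj_mul]; simpa using x1)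
  have n3 := ne _ hw 1 (one_mem _) (by rw [conj_mul, conj_mul]; simpa using x1)
  have n4 := ne x hx _ hy (by rw [conj_mul]; exact t1.symm)
  have n5 := ne _ hw x hx (by rw [conj_mul, conj_mul, t2]; simpa using x1)
  have n6 := ne _ hw _ hy (by rw [conj_mul, conj_mul, t2]; simpa using x1)
  rw [commutatorElement_one_left] at n1 n2 n3
  have pm := c.ph_mul hx.1 (p hx) (p hy)
  have n7 := (((c.f4.mem_cases (p hx) (p hy) n1 n2 n4 (p hw)).resolve_left n3).resolve_left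
    n5).resolve_left n6
  have hN := mul_mem (mul_mem hx hy) hw
  refine ⟨x, hx, _, hy, c.tri_comm r1.1 r2 (NQ hx) (NQ hy) (ni _ hN (c.zz (c.ker (NQ hN) ?_))), xA,
    fun h => n2 (br1.2 (c.sylZ.le (c.AZ h))),
    fun h => n3 (n7.trans (pm ▸ br1.2 (c.sylZ.le (c.AZ h))))⟩
  rw [c.ph_mul (mul_mem hx hy).1 (p (mul_mem hx hy)) (p hw), pm, n7]
  exact c.f4.sq _ (mul_mem (p hx) (p hy))

/-- The automizer of `A` is abelian. -/
theorem act {g n a : G} (hg : g ∈ 𝐍(A)) (hn : n ∈ 𝐍(A)) (ha : a ∈ A) :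
    g * (n * a * n⁻¹) * g⁻¹ = n * (g * a * g⁻¹) * n⁻¹ := by
  have k : ∀ h ∈ 𝐂(A), ∀ b ∈ A, h * b * h⁻¹ = b := fun h hh b hb =>
    mem_cent1_iff_conj.1 (cent_le_cent1 hb hh)
  by_cases h : n ∈ 𝐂(A)
  · rw [k n h a ha, k n h _ (U.F4.conj_mem hg ha)]
  by_cases a1 : a = 1
  · simp [a1]
  obtain ⟨m, hm, e1⟩ := c.f4.exists_conj hn h ha a1 (U.F4.conj_mem hg ha) (by simpa using a1)
  have h1 := c.f4.mem_cent_of_commute (mul_mem (inv_mem (zpowers_le.2 hn hm)) hg) ha a1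
    (mem_cent1_iff_commute.1 (mem_cent1_comm.1 (mem_cent1_iff_conj.2 (by
      calc _ = m⁻¹ * (g * a * g⁻¹) * m := by group
        _ = _ := by rw [← e1]; group))))
  obtain ⟨j, rfl⟩ := mem_zpowers_iff.1 hm
  rw [← e1]
  calc _ = n ^ j * ((n ^ j)⁻¹ * g * (n * a * n⁻¹) * ((n ^ j)⁻¹ * g)⁻¹) * (n ^ j)⁻¹ := by group
    _ = _ := by rw [k _ h1 _ (U.F4.conj_mem hn ha)]; group

theorem move {y : G} (h : y * e * y⁻¹ ∈ S) : ∃ n ∈ 𝐍(A), (S ⊓ H1.commStab S A) ^ᵍ n ≤ Q ∧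
    n * (y * e * y⁻¹) * n⁻¹ ∈ Z ∧ n * (y * e * y⁻¹) * n⁻¹ ∉ A := by
  have l : A ⊔ zpowers (y * e * y⁻¹) ≤ S := sup_le (c.AQ.trans c.QS) (zpowers_le.2 h)
  have s1 := c.sylZ.conj y
  rw [← cent1_conj] at s1
  obtain ⟨b, hb, e1⟩ := s1.exists_conj_le Nat.prime_two (c.syl.pgrp.to_le l)
    (sup_le (mem_cent_iff_cent1.1 (c.cen h)) (zpowers_le.2 (self_mem_cent1 _)))
  rw [le_conj_iff, conj_conj] at e1
  have k1 : y⁻¹ * b ∈ 𝐍(A) := mem_norm_of_conj_le fun x hx => by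
    obtain ⟨a, ha, rfl⟩ := mem_conj'.1 hx
    exact c.sc S le_top c.syl.pgrp (c.AQ.trans c.QS) a ha _ trivial
      (c.QS (c.ZQ (e1 (conj_mem_conj (mem_sup_left ha) _))))
  have k2 : y⁻¹ * b * (y * e * y⁻¹) * (y⁻¹ * b)⁻¹ = e := by
    calc _ = y⁻¹ * (b * (y * e * y⁻¹) * b⁻¹) * y := by group
      _ = _ := by rw [mem_cent1_iff_conj.1 hb]; group
  have k3 : S ⊓ H1.commStab S A ≤ 𝐍(A ⊔ zpowers (y * e * y⁻¹)) := comm_le_right_iff.1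
    (commutator_le.2 fun x hx z hz =>
      commutatorElement_inv z x ▸ inv_mem (mem_sup_left (hx.2.2 z (l hz))))
  rw [← conj_le_norm_iff (g := y⁻¹ * b), conj_sup, conj_eq_of_mem_norm k1, ← zpowers_conj, k2,
    c.hZ] at k3
  obtain ⟨m, hm, e2⟩ := c.sylQ.exists_conj_le Nat.prime_two
    ((isPGroup_map_iff (conj_injective _)).2 (c.syl.pgrp.to_le inf_le_left)) k3
  have k4 : m ∈ 𝐍(A) := c.sc.norm_le le_top c.sylZ.pgrp c.AZ (mem_inf.2 ⟨trivial, hm⟩)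
  have k5 : m * (y⁻¹ * b) * (y * e * y⁻¹) * (m * (y⁻¹ * b))⁻¹ = m * e * m⁻¹ := by
    nth_rewrite 2 [← k2]
    group
  refine ⟨m * (y⁻¹ * b), mul_mem k4 k1, conj_conj _ m _ ▸ e2, ?_⟩
  rw [k5]
  exact ⟨(mem_normalizer_iff.1 hm e).1 c.eZ, fun r => c.eA ((mem_normalizer_iff.1 k4 e).2 r)⟩

theorem val : ∃ x ∈ S ⊓ H1.commStab S A, ∃ v ∈ A, v ≠ 1 ∧
    ∀ y : G, y * e * y⁻¹ ∈ S → ⁅x, y * e * y⁻¹⁆ = v := by
  obtain ⟨R, r1, r2, r3, r4, ⟨g, hg, r5⟩, -⟩ := c.ex_R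
  obtain ⟨x, hx, y, hy, hc, xA, yA, xyA⟩ := c.ex_pair
  have r6 : ∀ r ∈ R, r ∈ 𝐂[e] → r ∈ A := fun r hr h => by_contra fun n => by
    obtain ⟨u, hu, uz, -⟩ := c.ex_x
    have eR := (mul_mem_cancel_left hr).1 (r1 (c.mulZ (c.ker (r2 hr) (br1.2 h)) n))
    exact uz (c.ker hu (br1.2 (cent_le_cent1 eR (r3 ((r4 u hu).elim
      (mul_mem_cancel_right eR).1 id)))))
  have key : ∀ k : G, k * e * k⁻¹ ∈ S → x * x ∈ A ∧ ⁅x, k * e * k⁻¹⁆ ≠ 1 ∧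
      ⁅x, k * e * k⁻¹⁆ = g * (x * x) * g⁻¹ := fun k hk => by
    obtain ⟨n, n1, n2, n3, n4⟩ := c.move hk
    have x1 := n2 (conj_mem_conj hx n)
    have y1 := n2 (conj_mem_conj hy n)
    have nA := fun u => (mem_normalizer_iff.1 n1 u).2
    have xR : n * x * n⁻¹ ∈ R := (r4 _ x1).resolve_left fun h => by
      have k1 : ∀ u, u ∈ 𝐂[x] → n * u * n⁻¹ ∈ R → u ∈ A := fun u hu hR => nA u (r6 _ hR (by
        have a1 : n * x * n⁻¹ ∈ 𝐂[n * u * n⁻¹] := by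
          rw [cent1_conj]; exact conj_mem_conj (mem_cent1_comm.1 hu) n
        exact mem_cent1_comm.1 ((mul_mem_cancel_left a1).1 (cent_le_cent1 hR (r3 h)))))
      refine (r4 _ y1).elim (fun h' => xyA (k1 _ (mul_mem (self_mem_cent1 x) hc) ?_))
        fun h' => yA (k1 y hc h')
      have a2 := mul_mem h h'
      rw [← conj_mul]
      generalize n * x * n⁻¹ = u at *
      generalize n * y * n⁻¹ = w at *
      refine (mul_mem_cancel_left (r1 (c.com _ c.eQ _ y1))).1 ?_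
      rw [← c.fx (c.QS x1) (c.com _ c.eQ _ y1), commutatorElement_def,
        inv_eq_of_mul_eq_one_right (c.zz c.eZ)]
      convert a2 using 1
      group
    have xs : x * x ∈ A := nA _ (by rw [← conj_mul]; exact c.sq _ x1)
    have e1 : n * ⁅x, k * e * k⁻¹⁆ * n⁻¹ = ⁅n * x * n⁻¹, e⁆ := by
      rw [← br_conj, ← commutatorElement_inv, ← commutatorElement_inv e,
        ← c.brA (x := e) _ (c.QS x1) (c.mulZ n3 n4), ← mem_cent1.1 (c.sylZ.le n3), ← mul_assoc e,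
        c.zz c.eZ, one_mul]
    refine ⟨xs, fun r => xA (nA x (r6 _ xR (br1.1 (by rw [← e1, r]; simp)))), ?_⟩
    rw [r5 _ xR, conj_mul, c.act hg n1 xs] at e1
    simpa using e1
  have h1 := key 1 (by simpa using c.QS c.eQ)
  exact ⟨x, hx, _, U.F4.conj_mem hg h1.1, h1.2.2 ▸ h1.2.1, fun k hk => (key k hk).2.2⟩

theorem transfer : ∃ N : Subgroup G, N.Normal ∧ N.index = 2 := by
  obtain ⟨x, hx, v, hv, v1, h⟩ := c.val
  obtain ⟨a, ha, a1, av⟩ := c.f4.exists_ne v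
  have mz : ∀ u, u ∈ zpowers a ↔ u = 1 ∨ u = a := fun u => P7.mem_zpowers_invol (c.f4.sq a ha)
  have vi := c.f4.inv_eq hv
  have nm : ∀ y : G, y * e * y⁻¹ ∉ S ⊓ st x (zpowers a) := fun y r => by
    have := r.2.2
    rw [← commutatorElement_inv, h y r.1, vi, mz] at this
    exact this.elim v1 av.symm
  have SN : S ≤ 𝐍(zpowers a) :=
    (c.cen.trans (cent_anti (zpowers_le.2 ha))).trans (cent_le_norm _)
  have eS := c.QS c.eQ
  have ev : ⁅e, x⁆ = v := by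
    have := h 1 (by simpa using eS)
    rw [← commutatorElement_inv, ← vi, ← this]; simp
  have i2 : (S ⊓ st x (zpowers a)).relIndex S = 2 := by
    refine relIndex_eq_two_iff_exists_notMem_and.2 ⟨e, eS, by simpa using nm 1, fun b hb => ?_⟩
    have pm := c.ph_mul hb (hx.2.2 b hb) (hx.2.2 e eS)
    rcases c.f4.mem_cases ha hv a1 v1 av (hx.2.2 b hb) with r | r | r | r
    · exact .inr (mem_inf.2 ⟨hb, SN hb, (mz _).2 (.inl r)⟩)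
    · exact .inr (mem_inf.2 ⟨hb, SN hb, (mz _).2 (.inr r)⟩)
    · exact .inl (mem_inf.2 ⟨mul_mem hb eS, SN (mul_mem hb eS), (mz _).2 (.inl (by
        rw [pm, r, ev, c.f4.sq v hv]))⟩)
    · exact .inl (mem_inf.2 ⟨mul_mem hb eS, SN (mul_mem hb eS), (mz _).2 (.inr (by
        rw [pm, r, ev, mul_assoc, c.f4.sq v hv, mul_one]))⟩)
  obtain ⟨N, h1, h2, -⟩ := H8.exists_normal_index_two_of_not_conj (S ⊓ st x (zpowers a))
    (k := S.index) (Nat.not_even_iff_odd.1 fun r => c.syl.ndvd (by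
      rw [relIndex_top_right]; exact r.two_dvd))
    (by rw [← relIndex_mul_index (inf_le_left : _ ≤ S), i2]) (by rw [pow_two, c.zz c.eZ]) nm
  exact ⟨N, h1, h2⟩

end Cc

end B4c

theorem b4c : B4.B4cStmt.{u} := by
  intro G _ _ A S Z W Q d h hW hi
  haveI := h.gl.sim
  obtain ⟨e, he, e1⟩ := (W.bot_or_exists_ne_one).resolve_left h.ne
  have eA : e ∉ A := fun r => e1 (mem_bot.1 (h.disj ▸ mem_inf.2 ⟨r, he⟩))
  have eZ : e ∈ Z := h.sup ▸ mem_sup_right he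
  have AZ : A ≤ Z := h.sup ▸ le_sup_left
  have eW : zpowers e = W := H1.eq_of_le_of_card_le (zpowers_le.2 he) (by
    have := H1.card_lt_of_lt (bot_lt_iff_ne_bot.2 (zpowers_ne_bot.2 e1))
    rw [card_bot] at this
    omega)
  have h1 := card_sup_mul_card_inf (A := A) (B := W)
    ((le_sup_right.trans (h.sup.le.trans (h.ZQ.trans (h.QS.trans h.cen)))).trans (cent_le_norm A))
  have h2 := H1.card_inf_mul_relIndex A Z
  rw [h.sup, h.disj, card_bot, h.f4.card, hW] at h1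
  rw [inf_eq_left.2 AZ, h.f4.card] at h2
  obtain ⟨N, n1, n2⟩ := B4c.Cc.transfer ⟨h.f4, h.gl.sc, h.gl.syl, h.cen, eW ▸ h.sup, eA, by omega,
    h.el, h.ZQ, h.QS, h.sylQ, h.sylZ e eZ eA, h.idx, h.com, h.sq, h.dQ, cent_le_cent1 he h.dW,
    h.dA, h.dn, hi⟩
  rcases n1.eq_bot_or_eq_top with rfl | rfl
  · rw [index_bot] at n2
    have := card_le_card_group A
    rw [h.f4.card] at this
    omega
  · simp at n2

end Cfsg.Agent.P18
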