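/-
P18, chapter C: maximality and case A (port of `P14/C4`).
-/
import Cfsg.Agent.P18.C3

set_option autoImplicit false
set_option linter.unusedSectionVars false

namespace Cfsg.Agent.P14.C

open Subgroup Cfsg Cfsg.Agent Cfsg.Agent.FT MulAction Cfsg.Agent.P6
open scoped commutatorElement

universe u v

variable {G : Type u} [Group G] [Finite G] [ICl G] {Ω : Type v} [MulAction G Ω]

namespace Nin

variable (h : Nin G Ω)
include h

/-- The point stabilizers of the minimal group are maximal: no proper subgroup contains a point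
stabilizer properly. -/
theorem eq_top {α : Ω} {M : Subgroup G} (hM : stabilizer G α ≤ M) {g : G}
    (hg : g ∈ M) (hne : g • α ≠ α) : M = ⊤ := by
  by_contra hM1
  obtain ⟨a, ha, ea⟩ := h.all α
  have hα : α ∈ Fx Ω M := ⟨a, hM ea, ha, ea⟩
  have hnt : (Fx Ω M).Nontrivial := ⟨_, smul_mem_Fx' hg hα, α, hα, hne⟩
  have hrk : Rk2 M := (h.rk2_stab α).mono hM
  obtain ⟨L, n, hbt⟩ := h.ih M hM1 hrk hnt
  have hst : ∀ δ ∈ Fx Ω M, stabilizer G δ ≤ M := fun δ hδ => by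
    obtain ⟨k, hk, rfl⟩ := h.toSE.exists_smul_Fx hα hδ
    rw [stabilizer_smul']; exact conj_le_of_mem hM hk
  -- `M` is strongly embedded
  have hse : SE G (G ⧸ M) := by
    refine ⟨fun {c} hc x y hx hy => ?_, fun {c} hc => ?_⟩
    · obtain ⟨x, rfl⟩ := QuotientGroup.mk_surjective x
      obtain ⟨y, rfl⟩ := QuotientGroup.mk_surjective y
      have hx' : x⁻¹ * c * x ∈ M := by
        have := QuotientGroup.eq.1 (show ((c * x : G) : G ⧸ M) = x from hx).symm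
        rwa [← mul_assoc] at this
      have hy' : y⁻¹ * c * y ∈ M := by
        have := QuotientGroup.eq.1 (show ((c * y : G) : G ⧸ M) = y from hy).symm
        rwa [← mul_assoc] at this
      obtain ⟨k, hk, e⟩ := h.toSE.exists_conj hnt (hc.conj' x) (hc.conj' y) hx' hy'
      obtain ⟨δ, eδ⟩ := h.ex (hc.conj' x)
      have : x⁻¹ * y * k ∈ M := hst δ ⟨_, hx', hc.conj' x, eδ⟩ (h.toSE.cent1_le (hc.conj' x) eδ
        (mem_cent1_iff_conj.2 (by
          calc x⁻¹ * y * k * (x⁻¹ * c * x) * (x⁻¹ * y * k)⁻¹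
              = x⁻¹ * y * (k * (x⁻¹ * c * x) * k⁻¹) * (x⁻¹ * y)⁻¹ := by group
            _ = _ := by rw [e]; group)))
      exact QuotientGroup.eq.2 ((mul_mem_cancel_right hk).1 this)
    · obtain ⟨k, rfl⟩ := h.isConj ha hc
      refine ⟨(k : G ⧸ M), QuotientGroup.eq.2 ?_⟩
      have : (k * a * k⁻¹ * k)⁻¹ * k = a⁻¹ := by group
      show (k * a * k⁻¹ * k)⁻¹ * k ∈ M
      rw [this]
      exact inv_mem (hM ea)
  have hstM : stabilizer G ((1 : G) : G ⧸ M) = M := stabilizer_quotient M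
  obtain ⟨u, hu, huM⟩ : ∃ u : G, In u ∧ u ∉ M := by
    by_contra hc
    push Not at hc
    have := h.simple
    have h1 : (normalClosure {a}) ≤ M := by
      rw [normalClosure, closure_le]
      intro x hx
      obtain ⟨b, hb, e⟩ := Group.mem_conjugatesOfSet_iff.1 hx
      obtain ⟨k, rfl⟩ := isConj_iff.1 e
      rw [hb]
      exact hc _ (ha.conj k)
    rcases (normalClosure_normal (s := {a})).eq_bot_or_eq_top with e | e
    · exact ha.ne (mem_bot.1 (e ▸ subset_normalClosure rfl))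
    · exact hM1 (top_le_iff.1 (e ▸ h1))
  have hne1 : ((1 : G) : G ⧸ M) ≠ u • ((1 : G) : G ⧸ M) := fun e =>
    huM (hstM ▸ (mem_stabilizer_iff.2 e.symm))
  obtain ⟨D, hD⟩ : ∃ D, D = Od (⊤ ⊓ St2 G ((1 : G) : G ⧸ M) (u • ((1 : G) : G ⧸ M))) :=
    ⟨_, rfl⟩
  have hDo : Odd 𝐨(D) := hD ▸ odd_Od _
  have hDM : D ≤ M := hD ▸ (Od_normal _).1.trans (inf_le_right.trans (inf_le_left.trans hstM.le))
  have hDt : ∀ b ∈ M, ∀ c ∈ M, In b → In c → ∃ d ∈ D, d * b * d⁻¹ = c := by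
    intro b hb c hc hbi hci
    obtain ⟨d, hd, e⟩ := hse.exists_conj_Od (N := ⊤) hbi hci (hstM.ge hb) (hstM.ge hc) hne1
      (mem_top _) (mem_top _) (smul_mem_Fx' (mem_top u) ⟨b, mem_top _, hbi, hstM.ge hb⟩)
    exact ⟨d, hD ▸ hd, e⟩
  obtain ⟨ε, hε, hne2, hfix⟩ := hbt.exists_fixed h.toSE hα (P := D ⊓ stabilizer G α)
    (odd_of_le inf_le_left hDo) (inf_le_left.trans hDM) inf_le_right
  obtain ⟨b, hbM, hb, eb⟩ := id hε
  obtain ⟨d, hd, e⟩ := hDt a (hM ea) b hbM ha hb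
  have ed : d • α = ε := h.toSE.smul_eq_of_conj ha ea (by rw [e, eb])
  have hdn : d ∈ 𝐍(D ⊓ stabilizer G α) := by
    rw [← conj_eq_self_iff, conj_inf, conj_eq_of_mem hd, ← stabilizer_smul', ed]
    refine (H1.eq_of_le_of_card_le (le_inf inf_le_left hfix) ?_).symm
    rw [← ed, stabilizer_smul']
    conv_lhs => rw [← conj_eq_of_mem hd, ← conj_inf, card_conj]
  have h3 := le_stab_smul hdn hfix
  have h4 : d • ε ≠ ε := fun e => hne2 (smul_left_cancel d (e.trans ed.symm))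
  have h5 : d • ε ≠ α := fun e =>
    hne2 (eq_of_swap_of_odd (odd_orderOf_of_mem hDo hd) ed e).symm
  obtain ⟨c, hcM, hc, ec, ec2⟩ := hbt.exists_cent h.se (X := D ⊓ stabilizer G α)
    (inf_le_left.trans hDM) hα hε (smul_mem_Fx' (hDM hd) hε) hne2.symm h5.symm h4.symm
    inf_le_right hfix h3
  have h6 : ∀ c' : G, In c' → c' • α = α → c' * c⁻¹ ∈ Od M := by
    intro c' hc' ec'
    obtain ⟨k, hk, e⟩ := hDt c hcM c' (hM ec') hc hc'
    have ek : k • α = α := h.toSE.smul_eq_of_conj hc ec (by rw [e, ec'])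
    have := ec2 k ⟨hk, ek⟩
    rwa [commutatorElement_def, e] at this
  obtain ⟨x, hx, y, hy, hxi, hyi, hxy, hcm⟩ := h.rk2_stab α
  refine (hxi.mul hyi hxy hcm).not_mem_of_odd (odd_Od M) ?_
  have := mul_mem (h6 x hxi hx) (inv_mem (h6 y hyi hy))
  rwa [show x * c⁻¹ * (y * c⁻¹)⁻¹ = x * y⁻¹ by group, hyi.inv_eq] at this

theorem caseA {p : ℕ} (hp : p.Prime) (hp2 : p ≠ 2) (hnw : ¬ NW G Ω p)
    {α : Ω} {A : Subgroup G} (sa : Pt (stabilizer G α) A)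
    (hch : (∃ i, 𝐨(A) = 2 ^ p ^ i) → ∀ r : ℕ, r.Prime → r ≠ 2 → r ≠ p → NW G Ω r)
    {R : Subgroup G} {β : Ω} (hne : α ≠ β) (hR : IsPGroup p R) (hRD : R ≤ St2 G α β)
    (hmax : ∀ δ ε : Ω, δ ≠ ε → ∀ X : Subgroup G, IsPGroup p X → X ≤ St2 G δ ε → 𝐨(X) ≤ 𝐨(R)) :
    IsSyl p R (stabilizer G α) := by
  by_contra hA
  have hRα : R ≤ stabilizer G α := hRD.trans inf_le_left
  have hRβ : R ≤ stabilizer G β := hRD.trans inf_le_right
  have hsyl : ∀ δ ε : Ω, δ ≠ ε → R ≤ stabilizer G δ → R ≤ stabilizer G ε →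
      IsSyl p R (St2 G δ ε) := fun δ ε hn h1 h2 =>
    isSyl_of_maximal hp (le_inf h1 h2) hR fun Q hRQ hQ hQp =>
      (H1.eq_of_le_of_card_le hRQ (hmax δ ε hn Q hQp hQ)).symm
  have hRs := hsyl α β hne hRα hRβ
  have htr : ∀ δ ε : Ω, R ≤ stabilizer G δ → R ≤ stabilizer G ε → δ ∈ Fx Ω 𝐍(R) →
      ε ∈ Fx Ω 𝐍(R) := fun δ ε h1 h2 h3 => by
    by_cases e : δ = ε
    · exact e ▸ h3
    · obtain ⟨v, hv, -, rfl⟩ := h.exists_swap_norm hp hp2 e (hsyl δ ε e h1 h2)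
      exact smul_mem_Fx' hv h3
  obtain ⟨u, huN, hu, eu⟩ := h.exists_swap_norm hp hp2 hne hRs
  obtain ⟨R1, hlt, hR1α, hR1N, hR1⟩ := exists_gt_of_not_isSyl hp hR hRα hA
  have hRo := odd_of_isPGroup hp hp2 hR
  have hR1o := odd_of_isPGroup hp hp2 hR1
  have hm := h.dvd_m hp hp2 hnw α
  have hR0 : R ≠ ⊥ := hRs.ne_bot hp ((h.ncard_Iv' hu eu hne α ▸ hm).trans (relIndex_dvd_card' _ _))
  have noBT : ∀ M : Subgroup G, M ≠ ⊤ → Rk2 M → α ∈ Fx Ω M → β ∈ Fx Ω M → ¬ R1 ≤ M := by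
    intro M hM hrk h1 h2 h3
    obtain ⟨L, n, hbt⟩ := h.ih M hM hrk ⟨α, h1, β, h2, hne⟩
    obtain ⟨ε, -, hn, hf⟩ := hbt.exists_fixed h.toSE h1 hR1o h3 hR1α
    have := hmax α ε hn.symm R1 hR1 (le_inf hR1α hf)
    have := H1.card_lt_of_lt hlt
    omega
  have hrk : ¬ Rk2 𝐍(R) := fun hrk => by
    obtain ⟨γ, eγ⟩ := h.ex hu
    have h1 : γ ∈ Fx Ω 𝐍(R) := ⟨u, huN, hu, eγ⟩
    have h2 := h.toSE.le_stab_of_rk2 hrk hRo le_rfl h1
    exact noBT _ (h.norm_ne_top_of_odd hR0 hRo) hrk (htr γ α h2 hRα h1) (htr γ β h2 hRβ h1) hR1N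
  obtain ⟨γ, hγ, hγ1⟩ : ∃ γ : Ω, R ≤ stabilizer G γ ∧ γ ∈ Fx Ω 𝐍(R) := by
    obtain ⟨g, hg, hgβ⟩ : ∃ g ∈ R1, g • β ≠ β := by
      by_contra hc
      push Not at hc
      have := hmax α β hne R1 hR1 (le_inf hR1α hc)
      have := H1.card_lt_of_lt hlt
      omega
    have hg' := le_stab_smul (hR1N hg) hRβ
    have n2 : α ≠ g • β := fun e => hne (smul_left_cancel g ((hR1α hg).trans e))
    obtain ⟨v, hvN, hv, ev⟩ := h.exists_swap_norm hp hp2 hgβ.symm (hsyl _ _ hgβ.symm hRβ hg')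
    obtain ⟨t, htN, ht, et⟩ := h.exists_swap_norm hp hp2 n2 (hsyl _ _ n2 hRα hg')
    obtain ⟨y, hy, e⟩ := exists_fix_of_swaps hrk hv hu ht hvN huN htN ev (hu.smul_eq eu) et
    exact ⟨_, le_stab_smul ((Od_normal _).1 hy) hRβ, v, hvN, hv, e⟩
  obtain ⟨a, haN, ha, ea⟩ := htr γ α hγ hRα hγ1
  obtain ⟨b, hbN, hb, eb⟩ := htr γ β hγ hRβ hγ1
  have h1 : ∀ (δ : Ω) (c g : G), c ∈ 𝐍(R) → In c → c • δ = δ → g ∈ 𝐍(R) → g • δ = δ →
      ⁅g, c⁆ ∈ Od (stabilizer G δ) := fun δ c g hcN hc ec hgN eg =>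
    h.comm_mem_of_odd eg ec hc (by
      rw [commutatorElement_def, hc.inv_eq]
      exact odd_mul_of_not_rk2 hrk (mul_mem (mul_mem hgN hcN) (inv_mem hgN)) hcN (hc.conj g) hc)
  have hW := Od_normal (stabilizer G α)
  have hO := Od_normal (St2 G α β)
  have hC := Cb_normal (stabilizer G α)
  have h2 : R ⊓ Od (stabilizer G α) ≠ ⊥ := fun e => by
    refine hRs.ndvd ((h.ncard_Iv ha ea hne ▸ hm).trans (relIndex_dvd_of_le_left _ fun x hx => ?_))
    rw [mem_cent1, eq_comm, ← commutatorElement_eq_one_iff_mul_comm, ← mem_bot, ← e]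
    refine ⟨?_, h1 α a x haN ha ea (le_norm_self R hx) (hRα hx)⟩
    rw [commutatorElement_def, mul_assoc, mul_assoc, ← mul_assoc a]
    exact mul_mem hx ((mem_normalizer_iff.1 haN _).1 (inv_mem hx))
  have h3 : ∀ c ∈ stabilizer G α, In c → (∀ x ∈ R, ⁅x, c⁆ ∈ Od (stabilizer G α)) →
      a⁻¹ * c ∈ Od (stabilizer G α) := by
    intro c ec hc hcR
    obtain ⟨d, hd, rfl⟩ := h.exists_conj_D ha hc ea ec hne
    obtain ⟨V, hV⟩ : ∃ V, V = St2 G α β ⊓ H1.unbar (stabilizer G α) (Od (stabilizer G α))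
      𝐂[pr (stabilizer G α) ⟨_, ec⟩] := ⟨_, rfl⟩
    have hmem : ∀ x ∈ St2 G α β, x ∈ V ↔ ⁅x, d * a * d⁻¹⁆ ∈ Od (stabilizer G α) := fun x hx => by
      rw [hV, mem_inf, H1.mem_unbar, ← pr_comm_iff hx.1 ec]
      exact ⟨fun ⟨_, _, e⟩ => (mem_cent1.1 e).symm, fun e => ⟨hx, hx.1, mem_cent1.2 e.symm⟩⟩
    have hVD : V ≤ St2 G α β := hV ▸ inf_le_left
    have k1 := hRs.of_le (fun x hx => (hmem x (hRD hx)).2 (hcR x hx)) hVD
    have k2 : R ^ᵍ d ≤ V := fun x hx => by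
      refine (hmem x (conj_le_of_mem hRD hd hx)).2 ?_
      obtain ⟨y, hy, rfl⟩ := mem_conj'.1 hx
      exact conj_comm_mem (hW.2 hd.1) (h1 α a y haN ha ea (le_norm_self R hy) (hRα hy))
    obtain ⟨k, hk, e⟩ := k1.exists_conj_eq hp (k1.of_card_eq hp k2 (card_conj R d))
    rw [conj_conj, conj_eq_self_iff] at e
    have k3 := h1 α a (k * d) haN ha ea e (mul_mem (hVD hk).1 hd.1)
    have k4 := (hmem k (hVD hk)).1 hk
    have k5 := (mem_normalizer_iff.1 (hW.2 (inv_mem ea)) _).1 (mul_mem (inv_mem k3) k4)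
    have k6 := inv_mem k5
    convert k6 using 1
    simp only [commutatorElement_def]
    group
  have h4 : ∀ r : ℕ, r.Prime → r ≠ 2 → r ≠ p → NW G Ω r := hch (by
    obtain ⟨k, hk, e⟩ := sa.card_eq (D := R ⊔ Od (St2 G α β))
      ((sup_le hRD hO.1).trans inf_le_left) (odd_sup hRo (odd_Od _) (hRD.trans hO.2))
      (fun x ex y ey hx hy => by
        obtain ⟨d, hd, e⟩ := h.exists_conj_Od hx hy ex ey hne
        exact ⟨d, mem_sup_right hd, e⟩) le_sup_left ha ea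
      (fun x hx => h1 α a x haN ha ea (le_norm_self R hx) (hRα hx)) h3
    obtain ⟨n, hn⟩ := exists_card_eq_pow hp hR
    obtain ⟨i, -, hi⟩ := (Nat.dvd_prime_pow hp).1 (hn ▸ hk)
    exact ⟨i, hi ▸ e⟩)
  obtain ⟨B, sb⟩ := h.pt β
  have hOβ : Od (St2 G α β) ≤ stabilizer G β := hO.1.trans inf_le_right
  have htβ : ∀ x ∈ stabilizer G β, ∀ y ∈ stabilizer G β, In x → In y →
      ∃ d ∈ Od (St2 G α β), d * x * d⁻¹ = y := by
    rw [St2_comm]; exact h.trans_Od hne.symm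
  have h5' : Cb (stabilizer G α) ⊓ Od (St2 G α β) ≤ Cb (stabilizer G β) := by
    by_contra hc
    obtain ⟨x, hx, r, hr, hxr, hf⟩ := sb.exists_fpf hOβ (odd_Od _) htβ
      (inf_normal hC (hO.1.trans inf_le_left)) hc
    have hxD := hO.1 hx.2
    have hx1 : x ≠ 1 := fun e => hf b eb hb (by rw [e, commutatorElement_one_left]; exact one_mem _)
    have hr2 : r ≠ 2 := by
      rintro rfl
      exact hx1 (eq_one_of_odd_of_mem hxr (mem_zpowers x) (odd_orderOf_of_mem (odd_Od _) hx.2))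
    have hrp : r ≠ p := by
      rintro rfl
      obtain ⟨d, hd, hl⟩ := hRs.exists_conj_le hr hxr (zpowers_le.2 hxD)
      have hd2 : d⁻¹ ∈ stabilizer G β := inv_mem (mem_inf.1 hd).2
      have k1 := hl (conj_mem_conj (mem_zpowers x) d)
      have k2 := conj_comm_mem ((Od_normal _).2 hd2)
        (h1 β b _ hbN hb eb (le_norm_self R k1) (hRβ k1))
      refine hf _ (conj_fix' eb hd2) (hb.conj d⁻¹) ?_
      convert k2 using 2
      group
    have hnr := h4 r hr hr2 hrp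
    obtain ⟨w, hw, hl⟩ := hnr.cent_lift hr hxr (odd_Od _) ha ea hW.1 (hW.2 ea)
      ((zpowers_le.2 hxD.1).trans hW.2) fun y hy => ((zpowers_le.2 hx.1) hy).2 a ea ha
    obtain ⟨c, hcx, hci, ec⟩ := h.L1 hr hr2 hnr hxr ⟨α, w * a * w⁻¹, hl, ha.conj w,
      conj_fix' ea (hW.1 hw)⟩ (zpowers_le.2 hxD.2)
    refine hf c ec hci ?_
    rw [commutatorElement_eq_one_iff_mul_comm.2 (mem_cent.1 hcx x (mem_zpowers x))]
    exact one_mem _
  have h5 : R ⊓ Cb (stabilizer G α) ≤ Cb (stabilizer G β) := by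
    intro x hx
    refine ⟨hRβ hx.1, fun c ec hc => ?_⟩
    obtain ⟨o, ho, rfl⟩ := htβ b eb c ec hb hc
    have k1 := h1 β b x hbN hb eb (le_norm_self R hx.1) (hRβ hx.1)
    have k2 : ⁅x, o⁆ ∈ Cb (stabilizer G β) := h5' ⟨comm_le_left_iff.2 hC.2
      (commutator_mem_commutator hx.2 (hO.1 ho).1), comm_le_right_iff.2 hO.2
      (commutator_mem_commutator (hRD hx.1) ho)⟩
    have k3 := k2.2 _ ec hc
    have k5 := mul_mem ((mem_normalizer_iff.1 ((Od_normal _).2 (mul_mem k2.1 (hOβ ho))) _).1 k1) k3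
    convert k5 using 1
    simp only [commutatorElement_def]
    group
  have h6 : u ∈ 𝐍(R ⊓ Cb (stabilizer G α)) := by
    rw [← conj_eq_self_iff]
    refine (H1.eq_of_le_of_card_le ?_ (card_conj _ u).le).symm
    rw [conj_inf, conj_eq_of_mem_norm huN, ← Cb_stab_smul, eu]
    exact le_inf inf_le_left h5
  have hNN : 𝐍(R) ⊓ stabilizer G α ≤ 𝐍(R ⊓ Cb (stabilizer G α)) :=
    H1.le_normalizer_inf inf_le_left (inf_le_right.trans hC.2)
  have haN' := hNN ⟨haN, ea⟩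
  have hα' : α ∈ Fx Ω 𝐍(R ⊓ Cb (stabilizer G α)) := ⟨a, haN', ha, ea⟩
  refine noBT _ (h.norm_ne_top_of_odd (fun e => h2 (eq_bot_iff.2
    ((inf_le_inf_left R (Od_le_Cb _)).trans e.le))) (odd_of_le inf_le_left hRo)) ?_ hα'
    (eu ▸ smul_mem_Fx' h6 hα') ((le_inf hR1N hR1α).trans hNN)
  obtain ⟨c, ec, hc, hca⟩ : ∃ c ∈ stabilizer G α, In c ∧ a⁻¹ * c ∉ Od (stabilizer G α) := by
    obtain ⟨x, hx, y, hy, hxi, hyi, hxy, hcm⟩ := h.rk2_stab α
    by_contra hc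
    push Not at hc
    have := mul_mem (inv_mem (hc x hx hxi)) (hc y hy hyi)
    rw [show (a⁻¹ * x)⁻¹ * (a⁻¹ * y) = x⁻¹ * y by group, hxi.inv_eq] at this
    exact (hxi.mul hyi hxy hcm).not_mem_of_odd (odd_Od _) this
  obtain ⟨d, hd, rfl⟩ := h.exists_conj_D ha hc ea ec hne
  have hDW := inf_normal hC (K := St2 G α β) inf_le_left
  have k1 := hRs.inf_normal hp hDW
  rw [← inf_assoc, inf_eq_left.2 (inf_le_left.trans hRD)] at k1
  have k2 := k1.frattini hp hDW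
  obtain ⟨w, hw, e, he, rfl⟩ := (mem_sup_of_norm (inf_le_left.trans hDW.2)).1 (k2.symm ▸ hd)
  refine sa.rk2_of_not_mem ha (ha.conj e) ea (conj_fix' ea he.1.1) (fun k3 => hca ?_) haN'
    (mul_mem (mul_mem he.2 haN') (inv_mem he.2))
  have k4 := (mem_normalizer_iff.1 (hW.2 (inv_mem ea)) _).1
    (hw.1.2 _ (conj_fix' ea he.1.1) (ha.conj e))
  have k5 := mul_mem k4 k3
  convert k5 using 1
  simp only [commutatorElement_def]
  group

end Nin

end Cfsg.Agent.P14.C
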