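/-
P18, chapter C: double transitivity (port of `P14/C5`).
-/
import Cfsg.Agent.P18.C4

set_option autoImplicit false
set_option linter.unusedSectionVars false

namespace Cfsg.Agent.P14.C

open Subgroup Cfsg Cfsg.Agent Cfsg.Agent.FT MulAction Cfsg.Agent.P6
open scoped commutatorElement

universe u v

variable {G : Type u} [Group G] [Finite G] [ICl G] {Ω : Type v} [MulAction G Ω]

namespace Nin

variable (h : Nin G Ω)
include h

/-- (T1) -/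
theorem T1 {r : ℕ} (hr : r.Prime) (h2 : r ≠ 2) (hnw : NW G Ω r) {X : Subgroup G}
    (hX : IsPGroup r X) (h1 : Fx Ω 𝐂(X) = ∅) {δ ε ζ : Ω} (hδ : X ≤ stabilizer G δ)
    (hε : X ≤ stabilizer G ε) (hζ : X ≤ stabilizer G ζ) (n1 : δ ≠ ε) (n2 : δ ≠ ζ)
    (hc : X ⊓ Cb (stabilizer G δ) ≠ ⊥) : ε = ζ := by
  by_contra n3
  have hW := Od_normal (stabilizer G δ)
  have hX0 : IsPGroup r (X ⊓ Cb (stabilizer G δ) : Subgroup G) := hX.to_le inf_le_left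
  have hXn : X ≤ 𝐍((X ⊓ Cb (stabilizer G δ) : Subgroup G)) :=
    H1.le_normalizer_inf (le_norm_self X) (hδ.trans (Cb_normal _).2)
  have lift : ∀ a : G, In a → a • δ = δ → ∃ o ∈ Od (stabilizer G δ),
      o * a * o⁻¹ ∈ 𝐂((X ⊓ Cb (stabilizer G δ) : Subgroup G)) := fun a ha ea =>
    hnw.cent_lift hr hX0 (odd_Od _) ha ea hW.1 (hW.2 ea) ((inf_le_left.trans hδ).trans hW.2)
      fun x hx => hx.2.2 a ea ha
  obtain ⟨a, ea, b, eb, ha, hb, hab, hcm⟩ := h.rk2_stab δ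
  obtain ⟨o, ho, ao⟩ := lift a ha ea
  obtain ⟨w, hw, bw⟩ := lift b hb eb
  obtain ⟨A, hA⟩ := h.pt δ
  have hrk : Rk2 𝐂((X ⊓ Cb (stabilizer G δ) : Subgroup G)) :=
    hA.rk2_of_not_mem (ha.conj o) (hb.conj w) (conj_fix' ea (hW.1 ho)) (conj_fix' eb (hW.1 hw))
      (fun k => (ha.mul hb hab hcm).not_mem_of_odd (odd_Od (stabilizer G δ)) (by
        have k1 := mul_mem (mul_mem (inv_mem ho) k) hw
        have k2 := (mem_normalizer_iff.1 (hW.2 (inv_mem ea)) _).1 (mul_mem (inv_mem hw) ho)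
        have k3 := mul_mem k2 k1
        rw [← ha.inv_eq]
        convert k3 using 1
        group)) ao bw
  have hF : ∀ γ : Ω, X ≤ stabilizer G γ → γ ∈ Fx Ω 𝐍((X ⊓ Cb (stabilizer G δ) : Subgroup G)) :=
    fun γ hγ => Fx_mono (cent_le_norm _) (h.L1 hr h2 hnw hX0
      ⟨δ, _, ao, ha.conj o, conj_fix' ea (hW.1 ho)⟩ (inf_le_left.trans hγ))
  obtain ⟨L, n, hbt⟩ := h.ih _ (h.norm_ne_top_of_le hc (inf_le_left.trans hδ))
    (hrk.mono (cent_le_norm _)) ⟨δ, hF δ hδ, ε, hF ε hε, n1⟩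
  obtain ⟨c, hcN, hci, ec, k⟩ := hbt.exists_cent h.se hXn (hF δ hδ) (hF ε hε) (hF ζ hζ) n1 n2 n3
    hδ hε hζ
  have hO := hbt.od_fix h.se (hF δ hδ)
  obtain ⟨y, hy, e⟩ := hnw.cent_lift hr hX (odd_Od _) hci ec hO ((Od_normal _).2 hcN)
    (hXn.trans (Od_normal _).2) k
  have : δ ∈ Fx Ω 𝐂(X) := ⟨_, e, hci.conj y, conj_fix' ec (hO hy)⟩
  rw [h1] at this
  exact this

theorem syl_fix {α : Ω} {A : Subgroup G} (hA : Pt (stabilizer G α) A) {n l : ℕ} (hl : l.Prime)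
    (l2 : l ≠ 2) (hd : l ∣ 2 ^ n - 1) (ho : ∀ d, 0 < d → l ∣ 2 ^ d - 1 → n ≤ d)
    (cA : 𝐨(A) = 2 ^ n) (hnw : NW G Ω l) {β : Ω} (hne : α ≠ β) {R : Subgroup G}
    (hR : IsSyl l R (St2 G α β)) {γ : Ω} (n1 : α ≠ γ) (hγ : R ≤ stabilizer G γ) : γ = β := by
  by_contra n2
  have hRα : R ≤ stabilizer G α := hR.le.trans inf_le_left
  have hRβ : R ≤ stabilizer G β := hR.le.trans inf_le_right
  have hq := h.sub_one_dvd hA
  have hF : Fx Ω 𝐂(R) = ∅ := by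
    by_contra hc
    obtain ⟨a, haR, ha, ea⟩ := h.L1 hl l2 hnw hR.pgrp (Set.nonempty_iff_ne_empty.2 hc) hRα
    rw [h.ncard_Iv ha ea hne, cA] at hq
    exact hR.ndvd ((hd.trans hq).trans (relIndex_dvd_of_le_left _ (mem_cent_iff_cent1.1 haR)))
  obtain ⟨X, ⟨hX, hRX, δ, ε, ζ, hδ, hε, hζ, m1, m2, m3⟩, hmax⟩ := exists_max_card
    (P := fun X : Subgroup G => IsPGroup l X ∧ R ≤ X ∧
      ∃ δ ε ζ : Ω, X ≤ stabilizer G δ ∧ X ≤ stabilizer G ε ∧ X ≤ stabilizer G ζ ∧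
        δ ≠ ε ∧ δ ≠ ζ ∧ ε ≠ ζ) ⟨R, hR.pgrp, le_rfl, α, γ, β, hRα, hγ, hRβ, n1, hne, n2⟩
  have h1 : Fx Ω 𝐂(X) = ∅ := Set.eq_empty_of_subset_empty (hF ▸ Fx_mono (cent_anti hRX))
  rcases hRX.eq_or_lt with rfl | hlt
  · obtain ⟨v, hvN, hv, -⟩ := h.exists_swap_norm hl l2 hne hR
    refine m3 (h.L2' hl l2 hnw hX h1 (fun Y hlt hY α β γ k1 k2 k3 k4 k5 => ?_) hv hvN hδ hε hζ
      m1 m2)
    by_contra k6
    have := hmax Y ⟨hY, hlt.le, α, β, γ, k1, k2, k3, k4, k5, k6⟩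
    have := H1.card_lt_of_lt hlt
    omega
  · refine m3 (h.T1 hl l2 hnw hX h1 hδ hε hζ m1 m2 fun hc => ?_)
    obtain ⟨g, rfl⟩ := h.trans α δ
    have hB := hA.conj g
    rw [← stabilizer_smul'] at hB
    have k1 := hB.card_dvd hl l2 ho ((card_conj A g).trans cA) hX hδ hc
    rw [card_conj] at k1
    obtain ⟨a, ha, ea⟩ := h.all α
    rw [h.ncard_Iv ha ea hne] at hq
    have k2 : 𝐨(X) ∣ 𝐨(St2 G α β) := (k1.trans hq).trans (relIndex_dvd_card' _ _)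
    obtain ⟨i, hi⟩ := exists_card_eq_pow hl hX
    have k3 : 𝐨(X) ≤ 𝐨(R) := by
      rw [hR.card_eq_pow_factorization hl, hi]
      exact Nat.pow_le_pow_right hl.pos
        ((hl.pow_dvd_iff_le_factorization (card_ne_zero _)).1 (hi ▸ k2))
    have := H1.card_lt_of_lt hlt
    omega

theorem tr2_of_nw {α : Ω} {A : Subgroup G} (hA : Pt (stabilizer G α) A) {n l : ℕ} (hl : l.Prime)
    (l2 : l ≠ 2) (hd : l ∣ 2 ^ n - 1) (ho : ∀ d, 0 < d → l ∣ 2 ^ d - 1 → n ≤ d)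
    (cA : 𝐨(A) = 2 ^ n) (hnw : NW G Ω l) {β γ : Ω} (h1 : α ≠ β) (h2 : α ≠ γ) :
    ∃ g ∈ stabilizer G α, g • β = γ := by
  have key : ∀ β : Ω, α ≠ β → ∀ P, IsSyl l P (St2 G α β) → IsSyl l P (stabilizer G α) := by
    intro β hne P hP
    by_contra hn
    obtain ⟨Y, lt, hY, hn, hp⟩ := exists_gt_of_not_isSyl hl hP.pgrp (hP.le.trans inf_le_left) hn
    refine lt.ne' (hP.eq_of_le hl lt.le (le_inf hY fun y hy => ?_) hp)
    refine h.syl_fix hA hl l2 hd ho cA hnw hne hP (fun e => hne ?_)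
      (le_stab_smul (hn hy) (hP.le.trans inf_le_right))
    exact smul_left_cancel y ((hY hy).trans e)
  obtain ⟨P, hP⟩ := exists_isSyl hl (St2 G α β)
  obtain ⟨P', hP'⟩ := exists_isSyl hl (St2 G α γ)
  obtain ⟨g, hg, e⟩ := (key γ h2 P' hP').exists_conj_eq hl (key β h1 P hP)
  refine ⟨g, hg, h.syl_fix hA hl l2 hd ho cA hnw h2 hP'
    (fun e => h1 (smul_left_cancel g (hg.trans e))) ?_⟩
  rw [← e, stabilizer_smul']
  exact conj_mono (hP.le.trans inf_le_right) g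

theorem exists_syl {p : ℕ} (hp : p.Prime) (hp2 : p ≠ 2) (hnw : ¬ NW G Ω p) {n : ℕ}
    (hn : ∀ (α : Ω) (A : Subgroup G), Pt (stabilizer G α) A → 𝐨(A) = 2 ^ n)
    (hch : (∃ i, n = p ^ i) → ∀ r : ℕ, r.Prime → r ≠ 2 → r ≠ p → NW G Ω r) :
    ∃ (R : Subgroup G) (α β : Ω), α ≠ β ∧ R ≤ stabilizer G β ∧ IsSyl p R (stabilizer G α) := by
  have := h.two
  obtain ⟨α0, β0, hne0⟩ := exists_pair_ne Ω
  obtain ⟨R, ⟨hR, α, β, hne, hRD⟩, hmax⟩ := exists_max_card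
    (P := fun R : Subgroup G => IsPGroup p R ∧ ∃ α β : Ω, α ≠ β ∧ R ≤ St2 G α β)
    ⟨⊥, IsPGroup.of_bot, α0, β0, hne0, bot_le⟩
  obtain ⟨A, hA⟩ := h.pt α
  exact ⟨R, α, β, hne, hRD.trans inf_le_right, h.caseA hp hp2 hnw hA
    (fun ⟨i, hi⟩ => hch ⟨i, Nat.pow_right_injective le_rfl ((hn α A hA).symm.trans hi)⟩) hne hR hRD
    fun δ ε hn X hX hXD => hmax X ⟨hX, δ, ε, hn, hXD⟩⟩

theorem exists_n : ∃ n, Odd n ∧ 3 ≤ n ∧
    ∀ (α : Ω) (A : Subgroup G), Pt (stabilizer G α) A → 𝐨(A) = 2 ^ n := by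
  obtain ⟨α, -⟩ := h.two
  obtain ⟨A, hA⟩ := h.pt α
  obtain ⟨n, h1, h2, h3⟩ := h.card_A hA
  refine ⟨n, h1, h2, fun β B hB => ?_⟩
  obtain ⟨g, rfl⟩ := h.trans α β
  have hA' := hA.conj g
  rw [← stabilizer_smul'] at hA'
  have key : ∀ A B : Subgroup G, Pt (stabilizer G (g • α)) A → Pt (stabilizer G (g • α)) B →
      H1.bar (stabilizer G (g • α)) (Od (stabilizer G (g • α))) A ≤
        H1.bar (stabilizer G (g • α)) (Od (stabilizer G (g • α))) B := by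
    intro A B hA hB z hz
    by_cases z1 : z = 1
    · rw [z1]; exact one_mem _
    obtain ⟨a, haH, -, ha, rfl⟩ := hA.exists_lift hz z1
    exact hB.mem_bar ha haH
  rw [← hB.card_bar, le_antisymm (key _ _ hB hA') (key _ _ hA' hB), hA'.card_bar, card_conj, h3]

/-- Case B for a doubly transitive group. -/
theorem caseB_easy (tr2 : ∀ α β γ : Ω, α ≠ β → α ≠ γ → ∃ g ∈ stabilizer G α, g • β = γ)
    {p : ℕ} (hp : p.Prime) (hp2 : p ≠ 2) (hnw : ¬ NW G Ω p) {R : Subgroup G} {α β : Ω}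
    (hne : α ≠ β) (hRβ : R ≤ stabilizer G β) (hR : IsSyl p R (stabilizer G α)) : False := by
  obtain ⟨u, huN, hu, eu⟩ := h.exists_swap_norm hp hp2 hne
    (hR.of_le (le_inf hR.le hRβ) inf_le_left)
  have hR' : IsSyl p R (stabilizer G β) := by
    have := hR.conj u
    rwa [conj_eq_of_mem_norm huN, ← stabilizer_smul', eu] at this
  have hW := Od_normal (stabilizer G α)
  have key : ∀ X : Subgroup G, X ≤ stabilizer G α → stabilizer G α ≤ 𝐍(X) →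
      X ≤ stabilizer G β → X = ⊥ := fun X h1 h2 h3 => eq_bot_iff.2 fun x hx =>
    h.eq_one_of_fix fun γ => by
      by_cases e : α = γ
      · exact e ▸ h1 hx
      obtain ⟨g, hg, rfl⟩ := tr2 α β γ hne e
      exact le_stab_smul (h2 hg) h3 hx
  have hXn : stabilizer G α ≤ 𝐍(H2.pPrimeCoreOf p (Od (stabilizer G α))) := by
    rw [pPrimeCoreOf_eq hp]; exact hW.2.trans (norm_le_norm_piCoreOf _ _)
  have h1 : H2.pPrimeCoreOf p (Od (stabilizer G α)) = ⊥ :=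
    key _ ((pPrimeCoreOf_normal p _).1.trans hW.1) hXn (h.le_stab_of_syl hp hp2 hnw
      (hR'.inf_normal hp (Od_normal _))
      ((Nat.Prime.coprime_iff_not_dvd hp).2 (not_dvd_card_pPrimeCoreOf hp _)).symm
      ((inf_le_left.trans hR.le).trans hXn))
  have hT := hR.inf_normal hp hW
  have h2 : pCoreOf p (Od (stabilizer G α)) = ⊥ :=
    key _ ((pCoreOf_normal p _).1.trans hW.1) (by
      rw [pCoreOf_eq hp]; exact hW.2.trans (norm_le_norm_piCoreOf _ _))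
      (((hT.pCoreOf_le hp).trans inf_le_left).trans hRβ)
  have h3 := cent_pCoreOf_le hp (feit_thompson _ (odd_Od (stabilizer G α))) h1
  rw [h2, cent_bot, inf_top_eq] at h3
  exact h.syl_ne_bot hp hp2 hnw hT (eq_bot_iff.2 (hT.le.trans h3))

theorem iComm_of_tr2 (tr2 : ∀ α β γ : Ω, α ≠ β → α ≠ γ → ∃ g ∈ stabilizer G α, g • β = γ) :
    IComm G Ω := by
  by_contra hc
  obtain ⟨n, -, h3, hn⟩ := h.exists_n
  obtain ⟨p, hp, hp2, hnw, hch⟩ : ∃ p : ℕ, p.Prime ∧ p ≠ 2 ∧ ¬ NW G Ω p ∧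
      ((∃ i, n = p ^ i) → ∀ r : ℕ, r.Prime → r ≠ 2 → r ≠ p → NW G Ω r) := by
    obtain ⟨r, hr, hr2, hnr⟩ : ∃ r : ℕ, r.Prime ∧ r ≠ 2 ∧ ¬ NW G Ω r := by
      by_contra h2
      push Not at h2
      exact hc (h.iComm_of_nw h2)
    by_contra h2
    push Not at h2
    obtain ⟨⟨i, hi⟩, s, hs, hs2, hsr, hns⟩ := h2 r hr hr2 hnr
    obtain ⟨⟨j, hj⟩, -⟩ := h2 s hs hs2 hns
    have h4 : j ≠ 0 := by rintro rfl; rw [pow_zero] at hj; omega
    exact hsr ((Nat.prime_dvd_prime_iff_eq hs hr).1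
      (hs.dvd_of_dvd_pow (hi ▸ hj ▸ dvd_pow_self s h4)))
  obtain ⟨R, α, β, hne, hRβ, hR⟩ := h.exists_syl hp hp2 hnw hn hch
  exact h.caseB_easy tr2 hp hp2 hnw hne hRβ hR

end Nin

theorem Nin.mc (hB : CaseB3.{u}) {Ω : Type u} [MulAction G Ω] (h : Nin G Ω) : Nc G Ω := by
  obtain ⟨n, hn, h3, hA⟩ := h.exists_n
  obtain ⟨l, hl, l2, hd, ho⟩ := exists_zsig hn (by omega)
  have hnw : NW G Ω l := by
    by_contra hnw
    obtain ⟨R, α, β, hne, hRβ, hR⟩ := h.exists_syl hl l2 hnw hA fun ⟨i, hi⟩ => by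
      have := Fact.mk hl
      have k1 : l ∣ 2 ^ (l - 1) - 1 := by
        rw [← ZMod.natCast_eq_zero_iff, Nat.cast_sub Nat.one_le_two_pow, sub_eq_zero]
        push_cast
        refine ZMod.pow_card_sub_one_eq_one fun e => l2 ?_
        exact (Nat.prime_dvd_prime_iff_eq hl Nat.prime_two).1
          ((ZMod.natCast_eq_zero_iff 2 l).1 (by simpa using e))
      have k2 := ho _ (by have := hl.two_le; omega) k1
      have k3 : i ≠ 0 := by rintro rfl; rw [pow_zero] at hi; omega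
      have k4 : l ≤ l ^ i := Nat.le_self_pow k3 l
      have := hl.two_le
      omega
    exact hB G Ω h (fun α M g k1 k2 k3 => h.eq_top k1 k2 k3) l hl l2 hnw (not_dvd_sq_add_one hl l2 hn hd) R α β hne
      hRβ hR
  have tr2 : ∀ α β γ : Ω, α ≠ β → α ≠ γ → ∃ g ∈ stabilizer G α, g • β = γ := fun α β γ h1 h2 => by
    obtain ⟨A, hP⟩ := h.pt α
    exact h.tr2_of_nw hP hl l2 hd ho (hA α A hP) hnw h1 h2
  have hc := h.iComm_of_tr2 tr2
  exact ⟨h, hc, tr2, fun r hr r2 X hX h1 δ hδ => h.L1 hr r2 (hc.nw hr r2) hX h1 hδ,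
    fun hall r hr r2 X hX h1 δ ε ζ k1 k2 k3 k4 k5 =>
      h.L2 hall hr r2 (hc.nw hr r2) hX h1 k1 k2 k3 k4 k5⟩

end Cfsg.Agent.P14.C
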