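/-
P18, chapter C, piece BT: groups with trivial odd core.
-/
import Cfsg.Agent.P18.CL

set_option autoImplicit false
set_option linter.unusedSectionVars false

namespace Cfsg.Agent.P14.C

open Subgroup Cfsg Cfsg.Agent Cfsg.Agent.FT MulAction Cfsg.Agent.P6
open Cfsg.Agent.H2 (CompIn SnIn)
open Cfsg.Agent.P14.St (I3)
open scoped commutatorElement

universe u v

variable {G : Type u} [Group G] [Finite G] [ICl G] {Ω : Type v} [MulAction G Ω]

omit [ICl G] in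
/-- The central quotient of a quasisimple group is not commutative. -/
theorem cq_not_comm {K : Subgroup G} (qs : IsQuasisimple K) :
    ¬ IsMulCommutative (K ⧸ center K) := fun e => by
  have := H1.isSolvable_of_isMulCommutative (X := center K) inferInstance
  have := H1.isSolvable_of_isMulCommutative e
  exact H2.QS.not_isSolvable qs
    (Group.isSolvable_of_ker_le_range (center K).subtype (cq K) (by simp))

omit [ICl G] in
theorem KC.cq (h : KC.{u} (Nat.card G + 1)) (h3 : I3 G) {K : Subgroup G} (qs : IsQuasisimple K) :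
    ¬ 3 ∣ Nat.card (K ⧸ center K) ∨ L3 (K ⧸ center K) :=
  h _ (Nat.lt_succ_of_le (Nat.le_of_dvd Nat.card_pos
    ((card_quotient_dvd_card _).trans (card_subgroup_dvd_card K))))
    ((h3.subgroup K).of_surjective _ cq_surj) qs.2 (cq_not_comm qs)

omit [ICl G] in
theorem not_three_of_cq {K : Subgroup G} {p : ℕ} (hp : p.Prime) (p3 : p ≠ 3)
    (hZ : IsPGroup p (K ⊓ 𝐂(K) : Subgroup G)) (h : ¬ 3 ∣ Nat.card (K ⧸ center K)) :
    ¬ 3 ∣ 𝐨(K) := fun e => by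
  have c1 : Nat.card (K ⧸ center K) = (K ⊓ 𝐂(K)).relIndex K := by
    rw [inf_relIndex_left, ← card_top, ← relIndex_cent_up, up_top]
  rw [← H1.card_mul_relIndex (inf_le_left : K ⊓ 𝐂(K) ≤ K), ← c1] at e
  obtain ⟨k, hk⟩ := exists_card_eq_pow hp hZ
  refine (Nat.prime_three.dvd_mul.1 e).elim (fun e => p3 ?_) h
  exact ((Nat.prime_dvd_prime_iff_eq Nat.prime_three hp).1
    (Nat.prime_three.dvd_of_dvd_pow (hk ▸ e))).symm

/-- The situation in `N / O(N)`. -/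
structure Co3 (G : Type u) (Ω : Type v) [Group G] [Finite G] [ICl G] [MulAction G Ω] : Prop
    extends SE G Ω where
  od : Od (⊤ : Subgroup G) = ⊥
  two : (Fx Ω (⊤ : Subgroup G)).Nontrivial
  rk2 : Rk2 (⊤ : Subgroup G)
  i3 : I3 G
  kh : KC.{u} (Nat.card G + 1)

namespace Co3

variable (h : Co3 G Ω)
include h

theorem conj {a b : G} (ha : In a) (hb : In b) : ∃ g, g * a * g⁻¹ = b :=
  (h.toSE.exists_conj h.two ha hb (mem_top _) (mem_top _)).imp fun _ e => e.2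

theorem other (δ : Ω) : ∃ b : G, In b ∧ b • δ ≠ δ := by
  obtain ⟨α, ⟨a, -, ha, ea⟩, β, ⟨b, -, hb, eb⟩, hne⟩ := h.two
  by_contra hc
  push Not at hc
  exact hne ((h.uniq ha ea (hc a ha)).trans (h.uniq hb eb (hc b hb)).symm)

theorem not_mem_core {a : G} (ha : In a) : a ∉ pCoreOf 2 (⊤ : Subgroup G) := fun hm => by
  obtain ⟨δ, e⟩ := h.ex ha
  obtain ⟨b, hb, e'⟩ := h.other δ
  obtain ⟨g, rfl⟩ := h.conj ha hb
  exact e' (h.toSE.fix_of_commute ha e (ha.comm_of_two hb (H2.isPGroup_pCoreOf 2 ⊤) hm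
    (cjm ((pCoreOf_normal 2 ⊤).2 (mem_top g)) hm)))

theorem mem_cent_core {a : G} (ha : In a) : a ∈ 𝐂(pCoreOf 2 (⊤ : Subgroup G)) := fun x hx => by
  obtain ⟨S, hS, hA⟩ := exists_isSyl_ge (M := ⊤) Nat.prime_two ha.isPGroup le_top
  have aS := hA (mem_zpowers a)
  have xS := hS.pCoreOf_le Nat.prime_two hx
  by_contra hn
  refine h.not_mem_core (ha.mul (ha.conj x) (fun e => hn (eq_mul_inv_iff_mul_eq.1 e).symm)
    (ha.comm_of_two (ha.conj x) hS.pgrp aS (cjm (le_normalizer xS) aS))) ?_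
  have := cmr ((pCoreOf_normal 2 ⊤).2 (mem_top a)) hx
  rwa [commutatorElement_def, ha.inv_eq, mul_assoc, mul_assoc, ← mul_assoc x] at this

theorem fit : fittingOf (⊤ : Subgroup G) = pCoreOf 2 ⊤ := fittingOf_eq_pCoreOf Nat.prime_two h.od

theorem ex_comp {a : G} (ha : In a) : ∃ K, CompIn ⊤ K ∧ a ∉ 𝐂(K) := by
  by_contra hc
  push Not at hc
  refine h.not_mem_core ha ?_
  have h1 := h.mem_cent_core ha
  rw [← h.fit] at h1 ⊢
  refine H2.inf_centralizer_fstarOf_le_fittingOf ⊤ ⟨mem_top _, ?_⟩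
  rw [H2.fstarOf_eq, cent_sup, H2.layerOf_eq_sSup]
  exact ⟨mem_cent_iff_cent1.2 (sSup_le fun K hK => mem_cent_iff_cent1.1 (hc K hK)), h1⟩

theorem ex_in {a : G} (ha : In a) {Y : Subgroup G} (hY : SnIn ⊤ Y) (hn : a ∈ 𝐍(Y))
    (hc : a ∉ 𝐂(Y)) : ∃ b ∈ Y, In b := by
  by_contra hb
  push Not at hb
  have hn' : zpowers a ≤ 𝐍(Y) := zpowers_le.2 hn
  have key : ∀ c ∈ Y ⊔ zpowers a, In c → c * a ∈ Y := fun c hc ic => by
    obtain ⟨y, hy, z, hz, rfl⟩ := (mem_sup_of_norm hn').1 hc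
    rcases ha.toInv.mem_zpowers_iff.1 hz with rfl | rfl
    · exact absurd ic (hb _ (by simpa using hy))
    · rwa [mul_assoc, ha.sq, mul_one]
  have nr : ¬ Rk2 (Y ⊔ zpowers a) := by
    rintro ⟨b, h1, c, h2, ib, ic, hne, hcm⟩
    refine hb _ ?_ (ib.mul ic hne hcm)
    have := mul_mem (key b h1 ib) (inv_mem (key c h2 ic))
    rwa [mul_inv_rev, mul_assoc, mul_inv_cancel_left, ic.inv_eq] at this
  refine hc fun y hy => commutatorElement_eq_one_iff_mul_comm.1 ?_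
  have h1 := comm_mem_Od nr (mem_sup_right (mem_zpowers a)) ha (mem_sup_left hy)
  have h2 : Od (Y ⊔ zpowers a) ⊓ Y ≤ Od ⊤ :=
    ((SnIn.of_normal inf_le_right (H1.le_normalizer_inf
      (le_sup_left.trans (Od_normal _).2) (le_norm_self Y))).trans hY).le_pPrimeCoreOf
      (Nat.coprime_two_right.2 ((odd_Od _).of_dvd_nat (FT.card_dvd_of_le inf_le_left)))
  exact mem_bot.1 (h.od ▸ h2 ⟨h1, cml hn hy⟩)

theorem not_mem_cent {a : G} (ha : In a) {K : Subgroup G} (hK : CompIn ⊤ K) (h1 : a ∈ K) :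
    a ∉ 𝐂(K) := fun e => h.not_mem_core ha (h.fit ▸ hK.inf_centralizer_le_fittingOf ⟨h1, e⟩)

theorem ex_mem : ∃ K, CompIn (⊤ : Subgroup G) K ∧ ∃ b ∈ K, In b := by
  obtain ⟨α, -⟩ := h.two.nonempty
  obtain ⟨a, ha, -⟩ := h.other α
  obtain ⟨K, hK, hc⟩ := h.ex_comp ha
  have n := H2.le_normalizer_layerOf (⊤ : Subgroup G)
  obtain ⟨b, h1, hb⟩ := h.ex_in ha (H2.snIn_layerOf ⊤) (n (mem_top a))
    fun e => hc (cent_anti hK.le_layerOf e)
  obtain ⟨g, rfl⟩ := h.conj hb ha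
  exact ⟨K, hK, h.ex_in ha hK.1 (hK.layerOf_le_normalizer (cjm (n (mem_top g)) h1)) hc⟩

theorem normal {K : Subgroup G} (hK : CompIn ⊤ K) {b : G} (hb : In b) (h1 : b ∈ K) (g : G) :
    g ∈ 𝐍(K) := by
  have key : ∀ {J J' : Subgroup G} {a c : G} {δ : Ω}, CompIn ⊤ J → CompIn ⊤ J' → In a → a ∈ J →
      c ∈ J' → a • δ = δ → c • δ ≠ δ → J' = J := fun hJ hJ' ha aJ cJ e e' => by
    by_contra hn
    exact e' (h.toSE.fix_of_commute ha e (hJ'.le_centralizer_of_ne hJ hn cJ _ aJ))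
  obtain ⟨δ, e⟩ := h.ex hb
  have c1 := comp_conj hK (mem_top g)
  refine conj_eq_self_iff.1 ?_
  by_cases e' : (g * b * g⁻¹) • δ = δ
  · obtain ⟨c, hc, e2⟩ := h.other δ
    obtain ⟨x, rfl⟩ := h.conj hb hc
    have c2 := comp_conj hK (mem_top x)
    exact (key c1 c2 (hb.conj g) (conj_mem_conj h1 g) (conj_mem_conj h1 x) e' e2).symm.trans
      (key hK c2 hb h1 (conj_mem_conj h1 x) e e2)
  · exact key hK c1 hb h1 (conj_mem_conj h1 g) e e'

theorem ex_normal : ∃ K, CompIn (⊤ : Subgroup G) K ∧ ⊤ ≤ 𝐍(K) ∧ ∀ a, In a → a ∈ K := by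
  obtain ⟨K, hK, b, h1, hb⟩ := h.ex_mem
  refine ⟨K, hK, fun g _ => h.normal hK hb h1 g, fun a ha => ?_⟩
  obtain ⟨g, rfl⟩ := h.conj hb ha
  exact cjm (h.normal hK hb h1 g) h1

/-- The component that contains the class is a Suzuki group. -/
theorem sz {K T : Subgroup G} (hK : CompIn ⊤ K) (h2 : ∀ a, In a → a ∈ K) (hT : IsSyl 2 T K) :
    ∃ Zh n r, SzT K T Zh n r := by
  have hZ : IsPGroup 2 (K ⊓ 𝐂(K) : Subgroup G) :=
    (H2.isPGroup_pCoreOf 2 ⊤).to_le (h.fit ▸ hK.inf_centralizer_le_fittingOf)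
  refine zStmt G K T hK.2 hZ (not_three_of_cq Nat.prime_two (by decide) hZ
    ((h.kh.cq h.i3 hK.2).resolve_right fun l3 => ?_)) (kh_thm _) hT
  obtain ⟨a, -, b, -, ha, hb, hne, hc⟩ := h.rk2
  obtain ⟨α, ea⟩ := h.ex ha
  have eb := h.toSE.fix_of_commute ha ea hc
  have n1 : ∀ c (hc : In c), cq K ⟨c, h2 c hc⟩ ≠ 1 := fun c hc e =>
    h.not_mem_cent hc hK (h2 c hc) (cq_eq_one.1 e)
  have s1 : ∀ c (hc : In c), cq K ⟨c, h2 c hc⟩ * cq K ⟨c, h2 c hc⟩ = 1 := fun c hc => by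
    rw [← map_mul, ← map_one (cq K)]
    exact congrArg _ (Subtype.ext hc.sq)
  have v : P5.V4 (cq K ⟨a, h2 a ha⟩) (cq K ⟨b, h2 b hb⟩) :=
    ⟨n1 a ha, n1 b hb, fun e => n1 _ (ha.mul hb hne hc) (by
      rw [← s1 b hb]; nth_rw 1 [← e]; rw [← map_mul]; rfl), s1 a ha, s1 b hb, by
      rw [Commute, SemiconjBy, ← map_mul, ← map_mul]
      exact congrArg _ (Subtype.ext hc)⟩
  obtain ⟨x, x3, x1, -⟩ := l3.tri v
  obtain ⟨x, rfl⟩ := cq_surj x
  have x2 : (x : G) • α = α := by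
    rw [← map_inv, ← map_mul, ← map_mul, eq_comm, cq_eq] at x1
    refine h.toSE.smul_eq_of_conj ha ea (h.toSE.fix_of_commute hb eb ?_)
    have := mem_cent.1 x1 b (h2 b hb)
    push_cast at this
    rw [mul_inv_cancel_left] at this
    conv_lhs => rw [this]
    group
  have x4 : 3 ∣ 𝐨((K ⊓ stabilizer G α : Subgroup G)) := by
    have e : orderOf (cq K x) = 3 := orderOf_eq_prime x3 fun e => v.ts (by simpa [e] using x1)
    exact (e ▸ orderOf_map_dvd (cq K) x).trans (orderOf_coe x ▸ orderOf_dvd_card_of_mem ⟨x.2, x2⟩)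
  obtain ⟨c, ic, ec⟩ := h.other α
  obtain ⟨β, eβ⟩ := h.ex ic
  have hβ : β ∈ Fx Ω K := ⟨c, h2 c ic, ic, eβ⟩
  have nβ : α ≠ β := fun e => ec (e ▸ eβ)
  have e1 : Iv G α ∩ K = {c | ∃ y ∈ K ⊓ stabilizer G α, y * a * y⁻¹ = c} := by
    ext d
    refine ⟨fun hd => ?_, ?_⟩
    · obtain ⟨y, hy, e⟩ := h.toSE.exists_conj_St2 ha hd.1.1 ea hd.1.2 nβ (h2 a ha) hd.2 hβ
      exact ⟨y, ⟨hy.1, hy.2.1⟩, e⟩
    · rintro ⟨y, hy, rfl⟩
      exact ⟨⟨ha.conj y, conj_fix' ea hy.2⟩, h2 _ (ha.conj y)⟩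
  have e2 := h.toSE.not_three_dvd h.i3 hβ ⟨a, h2 a ha, ha, ea⟩ nβ.symm
  rw [e1, ncard_class, ← inf_relIndex_right] at e2
  rw [← H1.card_mul_relIndex (inf_le_right : 𝐂[a] ⊓ (K ⊓ stabilizer G α) ≤ _)] at x4
  obtain ⟨y, hy, e3⟩ := exists_mem_orderOf_eq_prime Nat.prime_three
    ((Nat.prime_three.dvd_mul.1 x4).resolve_right e2)
  refine l3.not_dvd v ?_
  have e4 : orderOf (cq K ⟨y, hy.2.1⟩) = 3 := orderOf_eq_prime (by
    rw [← map_pow, ← map_one (cq K)]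
    exact congrArg _ (Subtype.ext (e3 ▸ pow_orderOf_eq_one y))) fun e => by
    have := orderOf_eq_of_prime_of_mem Nat.prime_two hZ ⟨hy.2.1, cq_eq_one.1 e⟩ (e3 ▸ Nat.prime_three)
    omega
  refine e4 ▸ orderOf_dvd_card_of_mem (mem_cent1.2 ?_)
  rw [← map_mul, ← map_mul]
  exact congrArg _ (Subtype.ext (mem_cent1.1 hy.1))

/-- The component has trivial centre. -/
theorem cent_eq_bot {K T Zh : Subgroup G} {n r : ℕ} (hK : CompIn ⊤ K) (z : SzT K T Zh n r) {b : G}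
    (hb : In b) (h1 : b ∈ T) : K ⊓ 𝐂(K) = ⊥ ∧ ∀ y ∈ Zh, y = 1 ∨ In y := by
  have BT : ctB z.syl.pgrp ≤ T := fun x hx => hx.1
  have b0 : ∀ x ∈ ctB z.syl.pgrp, x ∈ 𝐂(K) → x = 1 := fun x hx e =>
    hx.2.resolve_right fun hi => h.not_mem_cent hi hK (z.le hx.1) e
  have b1 : ctB z.syl.pgrp ≤ Zh := fun x hx => (z.zh x).2 ⟨hx.1, by
    rcases hx.2 with rfl | hi
    · simp
    · rw [hi.sq]; exact one_mem _⟩
  have b2 : 𝐍(T) ≤ 𝐍(ctB z.syl.pgrp) := fun d hd => mem_norm_of_conj_le fun x hx => by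
    obtain ⟨y, hy, rfl⟩ := mem_conj'.1 hx
    exact ⟨cjm hd hy.1, hy.2.imp (fun e => by simp [e]) fun hi => hi.conj d⟩
  have b3 : Zh ≤ ctB z.syl.pgrp ⊔ K ⊓ 𝐂(K) := fun y hy => by
    by_cases e : y ∈ 𝐂(K)
    · exact mem_sup_right ⟨z.le (z.zle hy), e⟩
    have hB : b ∈ ctB z.syl.pgrp := ⟨h1, Or.inr hb⟩
    obtain ⟨d, hd, -, e'⟩ := z.trZ b (b1 hB) (h.not_mem_cent hb hK (z.le h1)) y hy e
    rw [← mul_inv_cancel_left (d * b * d⁻¹) y]
    exact mul_mem (mem_sup_left (cjm (b2 hd.2) hB)) (mem_sup_right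
      ⟨z.le (mul_mem (inv_mem (cjm hd.2 h1)) (z.zle hy)), e'⟩)
  have b4 : ctB z.syl.pgrp ≤ 𝐂(T) := fun x hx t ht =>
    commutatorElement_eq_one_iff_mul_comm.1 (b0 _ (cmr (b2 (le_normalizer ht)) hx)
      (z.cen (commutator_mem_commutator ht (b1 hx))))
  have b5 : ∀ x ∈ ctB z.syl.pgrp, x = 1 ∨ In x := fun x hx => hx.2
  generalize ctB z.syl.pgrp = B at BT b0 b1 b2 b3 b4 b5
  suffices e : K ⊓ 𝐂(K) = ⊥ from ⟨e, fun y hy => b5 y (by simpa [e] using b3 hy)⟩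
  have v9 : Zh ≤ 𝐂(T) := b3.trans (sup_le b4 (inf_le_right.trans (cent_anti z.le)))
  suffices w1 : ⁅T, T⁆ ≤ B from eq_bot_iff.2 fun x hx => b0 x
    (w1 (ct_cent_le_der (H2.isQuasisimple_subgroup_iff.1 z.qs).1 z.syl ⟨z.zle (z.cle hx), hx.2⟩))
    hx.2
  by_contra e
  obtain ⟨J, j1, j2, j3⟩ := exists_two (z.syl.pgrp.to_le (sup_le z.der_le_zh b1 |>.trans z.zle))
    (right_lt_sup.2 e)
  have j4 : J ≤ Zh := j2.trans (sup_le z.der_le_zh b1)
  have j5 : T ≤ 𝐍(J) := (cent_comm.1 (j4.trans v9)).trans (cent_le_norm J)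
  have j7 : K ⊓ 𝐍(T) ≤ 𝐍(J) := by
    refine comm_le_left_iff.1 (le_trans ?_ j1)
    rw [commutator_comm]
    refine (commutator_mono le_rfl (j4.trans b3)).trans (H1.commutator_sup_le (le_norm_self B)
      ((inf_le_right.trans (cent_anti (BT.trans z.le))).trans (cent_le_norm B))
      (comm_le_right_iff.2 (inf_le_right.trans b2)) ?_)
    exact (comm_eq_bot_iff.2 (inf_le_left.trans (cent_comm.1 inf_le_right))).le.trans bot_le
  obtain ⟨m, hm⟩ := even_codim z.syl.pgrp j5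
    (j3 ▸ relIndex_le_of_le_right le_sup_left (H2.relIndex_pos _ _).ne')
  have j8 : Zh ≤ H1.commStab T J := H1.le_commStab_iff.2 ⟨z.zle.trans j5,
    (comm_eq_bot_iff.2 (cent_comm.1 v9)).le.trans bot_le⟩
  rcases z.eq_or j8 (fun g hg => mem_norm_of_conj_le fun x hx => by
    obtain ⟨y, hy, rfl⟩ := mem_conj'.1 hx
    refine ⟨mul_mem (mul_mem (j7 hg) hy.1) (inv_mem (j7 hg)), fun u hu => ?_⟩
    have := cjm (j7 hg) (hy.2 _ (cjm (inv_mem hg.2) hu))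
    convert this using 1
    simp only [commutatorElement_def]; group) with e' | e'
  · rw [← inf_relIndex_left, le_antisymm e' (le_inf z.zle j8), z.cardT] at hm
    have := Nat.pow_right_injective le_rfl hm
    have := z.odd
    rw [Nat.odd_iff] at this
    omega
  · rw [relIndex_eq_one.2 (sup_le (H1.le_commStab_iff.1 e').2 j1)] at j3
    omega

end Co3

end Cfsg.Agent.P14.C
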