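/-
P18, chapter C, case B: components.
-/
import Cfsg.Agent.P18.CT1

set_option autoImplicit false
set_option linter.unusedSectionVars false

namespace Cfsg.Agent.P14.C

open Subgroup Cfsg Cfsg.Agent Cfsg.Agent.FT Cfsg.Agent.H2 Cfsg.Agent.P6
open Cfsg.Agent.P7 (IsL2 LM l2Api l2Four)
open scoped commutatorElement Pointwise

universe u

variable {G : Type u} [Group G] [Finite G]

omit [Finite G] in
theorem aut_conj (b : MulAut G) (g : G) : b * MulAut.conj g * b⁻¹ = MulAut.conj (b g) := by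
  ext x; simp

/-- A `p`-group of automorphisms of `PSL₂(3 ^ f)`. -/
theorem L3.aut (h : L3 G) {p : ℕ} (hp : p.Prime) (p2 : p ≠ 2) (p3 : p ≠ 3)
    {A : Subgroup (MulAut G)} (hA : IsPGroup p A) :
    (∃ P1 P2 : Subgroup G, IsPGroup 3 P1 ∧ IsPGroup 3 P2 ∧ P1 ⊔ P2 = ⊤ ∧
      (∀ a ∈ A, ∀ x ∈ P1, a x ∈ P1) ∧ ∀ a ∈ A, ∀ x ∈ P2, a x ∈ P2) ∨
    ((∃ w : G, w ≠ 1 ∧ w * w = 1 ∧ ∀ a ∈ A, a w = w) ∧
      (IsElementaryAbelian p A → ¬ IsCyclic A → ∀ V : Subgroup (MulAut G), Odd 𝐨(V) → A ≤ V →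
        (∀ y ∈ A, y ≠ 1 → ∀ w : G, w * w = 1 → y w = w → MulAut.conj w ∈ 𝐍(V)) → False)) := by
  obtain ⟨f, h⟩ := h
  obtain ⟨I, hI⟩ : ∃ I, I = (MulAut.conj : G →* _).range := ⟨_, rfl⟩
  have inj : Function.Injective (MulAut.conj : G →* _) := (injective_iff_map_eq_one _).2
    fun g e => mem_bot.1 (h.inf_cent ▸ ⟨mem_top g, fun x _ =>
      (mul_inv_eq_iff_eq_mul.1 (DFunLike.congr_fun e x)).symm⟩)
  have nI : I.Normal := hI ▸ ⟨by rintro _ ⟨g, rfl⟩ b; exact ⟨_, (aut_conj b g).symm⟩⟩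
  have cI : ∀ b ∈ 𝐂(I), b = 1 := fun b hb => MulEquiv.ext fun g => inj (by
    rw [← aut_conj, ← mem_cent.1 hb _ (hI ▸ ⟨g, rfl⟩), mul_inv_cancel_right]; rfl)
  have l2 : IsL2 I (3 ^ (2 * f + 1)) := by
    obtain ⟨F, _, _, hF, ⟨e⟩⟩ := h.iso
    exact ⟨⟨F, _, _, hF, ⟨hI ▸ (MonoidHom.ofInjective inj).symm.trans (topEquiv.symm.trans e)⟩⟩,
      h.mod, h.five⟩
  have lm : LM (I ⊔ A) I 1 (3 ^ (2 * f + 1)) :=
    ⟨l2, ⟨le_sup_left, le_normalizer_of_normal⟩, mul_one 1, by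
      rw [zpowers_one_eq_bot]
      exact eq_bot_iff.2 fun b hb => cI b hb.2, by
      rw [zpowers_one_eq_bot, sup_bot_eq, relIndex_sup_left]
      exact (odd_of_isPGroup hp p2 hA).of_dvd_nat (relIndex_dvd_card _ _)⟩
  obtain ⟨s, hs, s0, hs0, v⟩ := l2Four _ _ _ l2
  obtain ⟨F⟩ := l2Api _ _ _ _ _ s s0 lm v hs hs0
  by_cases hd : p ∣ 3 ^ (2 * f + 1) + 1
  · refine Or.inr ⟨?_, fun hE nc V hV AV hn => FL.core3 F hp p2 p3 hd hE nc le_sup_right hV AV ?_⟩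
    · obtain ⟨w, hw, w1, ww, e⟩ := FL.core2 F hp p2 p3 hd hA le_sup_right
      obtain ⟨w, rfl⟩ := hI ▸ hw
      refine ⟨w, fun e => w1 (by rw [e, map_one]), inj (by rw [map_mul, ww, map_one]),
        fun a ha => inj ?_⟩
      rw [← aut_conj, ← mem_cent1.1 (e ha), mul_inv_cancel_right]
    · intro y hy y1 g hg gg gy
      obtain ⟨w, rfl⟩ := hI ▸ hg
      refine hn y hy y1 w (inj (by rw [map_mul, gg, map_one])) (inj ?_)
      rw [← aut_conj, mem_cent1.1 gy, mul_inv_cancel_right]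
  · obtain ⟨P1, P2, h1, h2, e, n1, n2⟩ := FL.core1 F hp p3 hd hA le_sup_right
    have key : ∀ P : Subgroup (MulAut G), A ≤ 𝐍(P) → ∀ a ∈ A, ∀ x ∈ P.comap MulAut.conj,
        a x ∈ P.comap MulAut.conj := fun P n a ha x hx => by
      rw [mem_comap, ← aut_conj]
      exact cjm (n ha) hx
    refine Or.inl ⟨P1.comap MulAut.conj, P2.comap MulAut.conj, h1.comap_of_injective _ inj,
      h2.comap_of_injective _ inj, map_injective inj ?_, key _ n1, key _ n2⟩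
    rw [Subgroup.map_sup, map_comap_eq_self (hI ▸ e ▸ le_sup_left),
      map_comap_eq_self (hI ▸ e ▸ le_sup_right), e, hI, MonoidHom.range_eq_map]

/-- The conjugates of an `r`-subgroup of a component generate an `r`-group. -/
theorem orb_prod {X K T S : Subgroup G} {r : ℕ} (hr : r.Prime) (hK : CompIn X K) (hTX : T ≤ X)
    (hS : S ≤ K) (pS : IsPGroup r S) (hn : T ⊓ 𝐍(K) ≤ 𝐍(S)) :
    ∃ W, S ≤ W ∧ IsPGroup r W ∧ T ≤ 𝐍(W) := by
  obtain ⟨W, hW⟩ : ∃ W, W = sSup {A : Subgroup G | ∃ d ∈ T, A = S ^ᵍ d} := ⟨_, rfl⟩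
  have hle : ∀ d ∈ T, S ^ᵍ d ≤ W := fun d hd => hW ▸ le_sSup ⟨d, hd, rfl⟩
  refine ⟨W, (conj_one S).ge.trans (hle 1 (one_mem T)), ?_, fun t ht => mem_norm_of_conj_le ?_⟩
  · have := Fact.mk hr
    rw [hW]
    refine prop_sSup_of_normal (fun A => IsPGroup r A) IsPGroup.of_bot
      (fun A B h1 _ hA hB => IsPGroup.to_sup_of_normal_right' hA hB h1) (B := W) ?_
    rintro _ ⟨d, hd, rfl⟩
    refine ⟨hle d hd, hW ▸ sSup_le ?_, pS.map _⟩
    rintro _ ⟨e, he, rfl⟩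
    by_cases h : K ^ᵍ e = K ^ᵍ d
    · have h2 : d⁻¹ * e ∈ 𝐍(K) := by rw [← conj_eq_self_iff, ← conj_conj, h, conj_conj_inv]
      have h4 := conj_eq_of_mem_norm (hn (mem_inf.2 ⟨mul_mem (inv_mem hd) he, h2⟩))
      rw [← conj_inv_conj (S ^ᵍ e) d, conj_conj S, h4]
      exact le_norm_self _
    · exact ((conj_mono hS e).trans (((comp_conj hK (hTX he)).le_centralizer_of_ne
        (comp_conj hK (hTX hd)) h).trans (cent_anti (conj_mono hS d)))).trans (cent_le_norm _)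
  · rw [← conj_le_conj_iff (g := t⁻¹), conj_conj_inv]
    conv_lhs => rw [hW]
    refine sSup_le ?_
    rintro _ ⟨d, hd, rfl⟩
    rw [le_conj_iff, inv_inv, conj_conj]
    exact hle _ (mul_mem ht hd)

/-- Lifting an `r`-subgroup of the central quotient. -/
theorem lift_syl {K : Subgroup G} {r : ℕ} (hr : r.Prime) {P : Subgroup (K ⧸ center K)}
    (hP : IsPGroup r P) : ∃ S ≤ K, IsPGroup r S ∧ dn K S = P ∧
      ∀ x : 𝐍(K), (∀ y ∈ P, act K x y ∈ P) → (x : G) ∈ 𝐍(S) := by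
  obtain ⟨S, hS⟩ := exists_isSyl hr (up P)
  have SK := hS.le.trans (up_le P)
  have e : dn K S = P := St.map_of_isSyl cq_surj hr hP ((isSyl_map_iff K.subtype_injective).1 (by
    rwa [subgroupOf_map_subtype, inf_eq_left.2 SK]))
  refine ⟨S, SK, hS.pgrp, e, fun x hx => ?_⟩
  rw [← hS.pCoreOf_eq hr (by
    rw [← e, up_dn SK]
    exact sup_le (le_norm_self S) ((inf_le_right.trans (cent_anti SK)).trans (cent_le_norm S)))]
  refine normalizer_le_normalizer_pCoreOf r _ (mem_norm_of_conj_le fun y hy => ?_)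
  obtain ⟨y, hy', rfl⟩ := mem_conj'.1 hy
  lift y to K using up_le _ hy'
  have := hx _ (coe_mem_up.1 hy')
  rw [act_cq] at this
  exact coe_mem_up.2 this

/-- Lifting an involution of the central quotient. -/
theorem lift_inv {K : Subgroup G} (hZ : Odd 𝐨((K ⊓ 𝐂(K) : Subgroup G))) {w : K ⧸ center K}
    (ww : w * w = 1) : ∃ s : K, cq K s = w ∧ (s : G) * s = 1 ∧
      ∀ x : 𝐍(K), act K x w = w → (x : G) ∈ 𝐂[(s : G)] := by
  obtain ⟨t, rfl⟩ := cq_surj w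
  obtain ⟨m, hm⟩ := hZ
  have h1 : ((t ^ (2 * m + 1) : K) : G) * (t ^ (2 * m + 1) : K) = 1 := by
    rw [← map_mul, cq_eq_one] at ww
    have := pow_card_eq_one' (x := (⟨_, (t * t).2, ww⟩ : (K ⊓ 𝐂(K) : Subgroup G)))
    rw [hm] at this
    push_cast
    rw [← (Commute.refl (t : G)).mul_pow]
    exact congrArg Subtype.val this
  have h2 : cq K (t ^ (2 * m + 1)) = cq K t := by
    rw [map_pow, pow_succ, pow_mul, pow_two, ww, one_pow, one_mul]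
  refine ⟨_, h2, h1, fun x hx => ?_⟩
  rw [← h2] at hx
  generalize t ^ (2 * m + 1) = s at h1 hx
  rw [act_cq, eq_comm, cq_eq] at hx
  have h3 := mem_cent.1 hx s s.2
  have h4 : (s : G)⁻¹ * (x * s * (x : G)⁻¹) = 1 := by
    refine P5.eq_one_of_odd (U := K ⊓ 𝐂(K)) ⟨m, hm⟩ ⟨K.mul_mem (K.inv_mem s.2) (cjm x.2 s.2), hx⟩ ?_
    have h5 := P4.conj_sq h1 x
    push_cast at h3
    generalize (x : G) * s * (x : G)⁻¹ = c at h3 h5
    rw [mul_inv_cancel_left] at h3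
    rw [← mul_assoc]
    nth_rw 2 [P5.inv_eq_of_sq h1]
    rw [← h3, h5]
  rw [inv_mul_eq_one, eq_mul_inv_iff_mul_eq] at h4
  exact mem_cent1.2 h4

/-- A component lies in `D` if `D` contains the centralizers of the elements of a noncyclic
elementary abelian subgroup of an odd order normal subgroup of `D`. -/
theorem comp_le {D V E K : Subgroup G} {p : ℕ} (hp : p.Prime) (p2 : p ≠ 2) (p3 : p ≠ 3)
    (hj : ∀ j : ℕ, ¬ p ∣ (2 ^ j) ^ 2 + 1) (hV : D ≤ 𝐍(V)) (ho : Odd 𝐨(V))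
    (hE : IsElementaryAbelian p E) (nc : ¬ IsCyclic E) (EV : E ≤ V)
    (hc : ∀ x ∈ E, x ≠ 1 → 𝐂[x] ≤ D) (hK : CompIn ⊤ K)
    (hZ : IsPGroup p (K ⊓ 𝐂(K) : Subgroup G)) (ZD : K ⊓ 𝐂(K) ≤ D)
    (h : ¬ 3 ∣ Nat.card (K ⧸ center K) ∨ L3 (K ⧸ center K)) : K ≤ D := by
  have pE := elemAb_isPGroup hE
  have pf := H2.QS.commutator_eq hK.2
  have k1 : ∀ {r : ℕ} {S : Subgroup G}, r.Prime → r ≠ p → S ≤ K → IsPGroup r S →
      E ⊓ 𝐍(K) ≤ 𝐍(S) → ∃ W, S ≤ W ∧ IsPGroup r W ∧ E ≤ 𝐍(W) ∧ W ≤ D := by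
    intro r S hr rp SK pS hn
    obtain ⟨W, w1, w2, w3⟩ := orb_prod hr hK le_top SK pS hn
    refine ⟨W, w1, w2, w3, H1.le_of_forall_centralizer_le hE.1 nc w3 ?_ fun x hx x1 =>
      inf_le_right.trans (hc x hx x1)⟩
    obtain ⟨a, ha⟩ := exists_card_eq_pow hp pE
    obtain ⟨b, hb⟩ := exists_card_eq_pow hr w2
    rw [ha, hb]
    exact Nat.Coprime.pow a b ((Nat.coprime_primes hp hr).2 rp.symm)
  have k2 : ∀ {S : Subgroup G}, S ≤ K → IsPGroup 2 S → E ⊓ 𝐍(K) ≤ 𝐍(S) → ¬ S ≤ 𝐂(K) →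
      E ≤ 𝐂(S) ∧ E ≤ 𝐍(K) := by
    intro S SK pS hn h0
    obtain ⟨W, w1, w2, w3, w4⟩ := k1 Nat.prime_two p2.symm SK pS hn
    have a1 : E ≤ 𝐂(W) := by
      rw [← H1.commutator_eq_bot_iff_le_centralizer', eq_bot_iff]
      exact fun x hx => eq_one_of_odd_of_mem w2 (comm_le_left_iff.2 w3 hx) (odd_orderOf_of_mem ho
        (((commutator_mono w4 EV).trans (comm_le_right_iff.2 hV)) hx))
    have a2 := a1.trans (cent_anti w1)
    obtain ⟨s, hs, hsK⟩ := SetLike.not_le_iff_exists.1 h0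
    refine ⟨a2, fun x hx => comp_norm hK (mem_top x) (SK hs) ?_⟩
    rwa [← mem_cent.1 (a2 hx) s hs, mul_inv_cancel_right]
  by_contra hn
  have k3 : ∀ x ∈ E, x ∈ 𝐂(K) → x = 1 := fun x hx e => by
    by_contra x1
    exact hn ((mem_cent_iff_cent1.1 e).trans (hc x hx x1))
  rcases h with h | h
  · have h3 := not_three_of_cq hp p3 hZ h
    obtain ⟨S0, hS0⟩ := exists_isSyl Nat.prime_two K
    obtain ⟨⟨j, h1⟩, -⟩ := CB.sz_facts hK.2 h3 (kh_thm _) hS0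
    obtain ⟨S, hS, n⟩ := CB.exists_inv_syl hp (pE.to_le (inf_le_left : E ⊓ 𝐍(K) ≤ E)) inf_le_right
      Nat.prime_two hS0 fun e => hj j (e.trans h1)
    obtain ⟨a1, a2⟩ := k2 hS.le hS.pgrp n (CB.syl_not_le hK.2 hS)
    refine nc ((show E = ⊥ from eq_bot_iff.2 fun x hx => k3 x hx ?_) ▸ inferInstance)
    exact (CB.sz_facts hK.2 h3 (kh_thm _) hS).2 x (a2 hx)
      (odd_of_mem (odd_of_isPGroup hp p2 pE) hx) (a1 hx)
  have hZo := odd_of_isPGroup hp p2 hZ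
  rcases h.aut hp p2 p3 (A := (E.subgroupOf 𝐍(K)).map (act K)) (pE.comap_subtype.map _) with
    ⟨P1, P2, h1, h2, e, n1, n2⟩ | ⟨⟨w, w1, ww, e⟩, h4⟩
  · have key : ∀ P : Subgroup (K ⧸ center K), IsPGroup 3 P →
        (∀ a ∈ (E.subgroupOf 𝐍(K)).map (act K), ∀ x ∈ P, a x ∈ P) →
        ∃ S ≤ K, dn K S = P ∧ S ≤ D := fun P hP n => by
      obtain ⟨S, SK, pS, eS, nS⟩ := lift_syl Nat.prime_three hP
      obtain ⟨W, w1, -, -, w4⟩ := k1 Nat.prime_three p3.symm SK pS fun x hx =>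
        nS ⟨x, hx.2⟩ (n _ ⟨⟨x, hx.2⟩, hx.1, rfl⟩)
      exact ⟨S, SK, eS, w1.trans w4⟩
    obtain ⟨S1, a1, rfl, a2⟩ := key P1 h1 n1
    obtain ⟨S2, b1, rfl, b2⟩ := key P2 h2 n2
    refine hn ?_
    rw [← up_top (K := K), ← e, ← dn_sup a1 b1, up_dn (sup_le a1 b1)]
    exact sup_le (sup_le a2 b2) ZD
  obtain ⟨s, rfl, ss, hs⟩ := lift_inv hZo ww
  obtain ⟨-, EK⟩ := k2 (zpowers_le.2 s.2) (P14.two_zp (k := 1) (by rw [pow_one, pow_two, ss]))
    (fun x hx => cent_le_norm _ (cent_zpowers (s : G) ▸ hs ⟨x, hx.2⟩ (e _ ⟨⟨x, hx.2⟩, hx.1, rfl⟩)))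
    fun e => w1 (cq_eq_one.2 (e (mem_zpowers _)))
  refine h4 (H5.elemAb_map _ ?_) (fun c => nc ?_) ((V.subgroupOf 𝐍(K)).map (act K)) ?_
    (map_mono (comap_mono EV)) ?_
  · rw [H5.elemAb_iff] at hE ⊢
    exact ⟨fun a ha b hb => Subtype.ext (hE.1 a ha b hb), fun a ha => Subtype.ext (hE.2 a ha)⟩
  · refine isCyclic_of_injective (((act K).comp (inclusion EK)).codRestrict
      ((E.subgroupOf 𝐍(K)).map (act K)) fun x => mem_map_of_mem _ x.2)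
      ((injective_iff_map_eq_one _).2 fun x hx => Subtype.ext (k3 x x.2 ?_))
    exact (act_eq_one pf (x := inclusion EK x)).1 (congrArg Subtype.val hx)
  · exact ho.of_dvd_nat ((card_map_dvd _ _).trans (card_comap_dvd_of_injective _ _
      (subtype_injective _)))
  · rintro _ ⟨x, hx, rfl⟩ x1 w ww e
    obtain ⟨t, rfl, -, ht⟩ := lift_inv hZo ww
    have a1 : (t : G) ∈ 𝐍(V) := hV (hc x hx
      (fun e => x1 (by rw [show x = 1 from Subtype.ext e, map_one])) (mem_cent1.2 (mem_cent1.1 (ht x e)).symm))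
    have a2 : MulAut.conj (cq K t) = act K ⟨t, le_norm_self K t.2⟩ := by
      ext v
      obtain ⟨v, rfl⟩ := cq_surj v
      rw [act_cq, MulAut.conj_apply, ← map_inv, ← map_mul, ← map_mul]
      rfl
    rw [a2]
    refine mem_norm_of_conj_le fun y hy => ?_
    obtain ⟨_, ⟨y, hy', rfl⟩, rfl⟩ := mem_conj'.1 hy
    rw [← map_inv, ← map_mul, ← map_mul]
    exact mem_map_of_mem _ (mem_subgroupOf.2 (cjm a1 (mem_subgroupOf.1 hy')))

end Cfsg.Agent.P14.C
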