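/-
P18, chapter C: case B.
-/
import Cfsg.Agent.P18.CB1
import Cfsg.Agent.P18.CB2
import Cfsg.Agent.P7.Z4

set_option autoImplicit false
set_option linter.unusedSectionVars false

namespace Cfsg.Agent.P14

open Subgroup Cfsg Cfsg.Agent Cfsg.Agent.FT Cfsg.Agent.H2 MulAction Cfsg.Agent.P6
open scoped commutatorElement Pointwise

universe u

variable {G : Type u} [Group G] [Finite G]

theorem C.fstar_le {H H' W T R : Subgroup G} (h3 : St.I3 G) (kh : C.KC.{u} (𝐨(H) + 1)) {p : ℕ}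
    (hp : p.Prime) (p2 : p ≠ 2) (p3 : p ≠ 3) (hj : ∀ j : ℕ, ¬ p ∣ (2 ^ j) ^ 2 + 1) (hW : W ⊲ H')
    (ho : Odd 𝐨(W)) (hTW : T ≤ W) (hTH : T ≤ H) (hU : C.UE p T H') (hYH : pPrimeCoreOf p H ≤ H')
    (hR : IsSyl p R H) (hRH : R ≤ H') [((pPrimeCoreOf p H).subgroupOf H).Normal] :
    H1.unbar H (pPrimeCoreOf p H) (fstarOf ⊤) ≤ H' := by
  have := Fact.mk hp
  obtain ⟨E, ET, hE, nc, hc⟩ := hU
  have EH := ET.trans hTH
  have hY := pPrimeCoreOf_normal p H
  have hYc := coprime_card_pPrimeCoreOf p H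
  have cop : ∀ x ∈ E, (orderOf x).Coprime 𝐨(pPrimeCoreOf p H) := fun x hx =>
    hYc.symm.coprime_dvd_left (orderOf_dvd_of_pow_eq_one ((H5.elemAb_iff.1 hE).2 x hx))
  refine le_trans ?_ (inf_le_right (a := H))
  rw [← H1.unbar_bar_of_le (Y := H) (le_inf hY.1 hYH) inf_le_left, H1.unbar_le_unbar_iff]
  have hF : fittingOf ⊤ ≤ pCoreOf p (⊤ : Subgroup (H ⧸ (pPrimeCoreOf p H).subgroupOf H)) := by
    refine (fittingOf_le_sup hp _).trans (sup_le le_rfl ?_)
    rw [← H1.bar_top, pPrimeCoreOf_bar hp hY.1 le_rfl hYc, H1.bar_self]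
    exact bot_le
  have hP : pCoreOf p ⊤ ≤ H1.bar H (pPrimeCoreOf p H) (H ⊓ H') := by
    have a1 := hR.bar (Y := H) (N := pPrimeCoreOf p H) hp le_rfl
    rw [H1.bar_top] at a1
    exact (a1.pCoreOf_le hp).trans (H1.bar_mono (le_inf hR.le hRH))
  rw [fstarOf_eq, layerOf_eq_sSup]
  refine sup_le (sSup_le fun K hK => ?_) (hF.trans hP)
  have hZ := hK.inf_centralizer_le_fittingOf.trans hF
  refine C.comp_le (V := H1.bar H (pPrimeCoreOf p H) (H ⊓ W)) (E := H1.bar H (pPrimeCoreOf p H) E)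
    hp p2 p3 hj (H1.bar_le_normalizer (H1.le_normalizer_inf (inf_le_left.trans (le_norm_self H))
      (inf_le_right.trans hW.2))) ((odd_of_le inf_le_right ho).of_dvd_nat (H1.card_bar_dvd _))
    ?_ (fun c => nc ?_) (H1.bar_mono (le_inf EH (ET.trans hTW))) ?_ hK
    ((isPGroup_pCoreOf p ⊤).to_le hZ) (hZ.trans hP)
    ((kh.mono (Nat.succ_le_succ (Nat.le_of_dvd Nat.card_pos (card_quotient_dvd_card _)))).cq
      ((h3.subgroup H).of_surjective _ (QuotientGroup.mk'_surjective _)) hK.2)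
  · refine H5.elemAb_map _ ?_
    rw [H5.elemAb_iff] at hE ⊢
    exact ⟨fun a ha b hb => Subtype.ext (hE.1 a ha b hb), fun a ha => Subtype.ext (hE.2 a ha)⟩
  · refine isCyclic_of_injective (((H1.qmk H (pPrimeCoreOf p H)).comp (inclusion EH)).codRestrict
      (H1.bar H (pPrimeCoreOf p H) E) fun x => mem_map_of_mem _ x.2)
      ((injective_iff_map_eq_one _).2 fun x hx => Subtype.ext (orderOf_eq_one_iff.1 ?_))
    exact Nat.eq_one_of_dvd_coprimes (cop x x.2) dvd_rfl (orderOf_dvd_card_of_mem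
      ((H1.qmk_eq_one_iff (y := inclusion EH x)).1 (congrArg Subtype.val hx)))
  · rintro _ ⟨x, hx, rfl⟩ x1
    exact (P7.Z.cent_bar_le hY.1 x (cop x hx)).trans (H1.bar_mono (inf_le_inf_left H
      (hc x hx fun e => x1 (by rw [show x = 1 from Subtype.ext e, map_one]))))

theorem C.caseB3 : C.CaseB3.{u} := by
  intro G _ _ _ Ω _ h hmax p hp p2 hnw hj R α β hne hRβ hR
  have h0 := h.toNin0
  obtain ⟨u, huN, hu, eu⟩ := h0.exists_swap_norm hp p2 hne
    (hR.of_le (le_inf hR.le hRβ) inf_le_left)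
  have eu' : u • β = α := hu.smul_eq eu
  have hs : stabilizer G β = stabilizer G α ^ᵍ u := by rw [← stabilizer_smul', eu]
  have hR' : IsSyl p R (stabilizer G β) := by
    have := hR.conj u
    rwa [conj_eq_of_mem_norm huN, ← hs] at this
  have huα : u • α ≠ α := eu ▸ hne.symm
  have hlt : ∀ δ : Ω, 𝐨(stabilizer G δ) + 1 ≤ Nat.card G := fun δ => by
    have := H1.card_lt_of_lt (lt_top_iff_ne_top.2 (h0.stab_ne_top δ))
    rwa [card_top] at this
  have p3 : p ≠ 3 := fun e => hnw (e ▸ C.nw_three h0.i3)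
  have inst : ∀ δ : Ω, ((pPrimeCoreOf p (stabilizer G δ)).subgroupOf (stabilizer G δ)).Normal :=
    fun δ => H1.normal_subgroupOf_of_le (le_normalizer_pPrimeCoreOf p _)
  have key : ∀ δ ε : Ω, IsSyl p R (stabilizer G δ) → IsSyl p R (stabilizer G ε) →
      H1.unbar (stabilizer G δ) (pPrimeCoreOf p (stabilizer G δ)) (fstarOf ⊤) ≤ stabilizer G ε ∧
        pPrimeCoreOf p (stabilizer G δ) ≤ stabilizer G ε := fun δ ε a b => by
    have hT := b.inf_normal hp (Od_normal _)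
    have c := h0.le_stab_of_syl hp p2 hnw hT (coprime_card_pPrimeCoreOf p _)
      ((inf_le_left.trans a.le).trans (le_normalizer_pPrimeCoreOf p _))
    exact ⟨C.fstar_le h0.i3 (h0.kh.mono (hlt δ)) hp p2 p3 hj (Od_normal _) (odd_Od _) hT.le
      (inf_le_left.trans a.le) (h0.ue hp p2 hnw hT) c a b.le, c⟩
  have fin : ∀ X : Subgroup G, X ≤ stabilizer G α → stabilizer G α ≤ 𝐍(X) → X ≤ X ^ᵍ u →
      X = ⊥ := fun X a b c => by
    by_contra hc
    refine h0.norm_ne_top_of_le hc a (hmax α _ u b ?_ huα)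
    rw [← conj_eq_self_iff]
    exact (H1.eq_of_le_of_card_le c (card_conj X u).le).symm
  have hY : pPrimeCoreOf p (stabilizer G α) = ⊥ := by
    refine fin _ (pPrimeCoreOf_le p _) (le_normalizer_pPrimeCoreOf p _) ?_
    rw [← pPrimeCoreOf_conj _ _ hp, ← hs]
    exact CB.core_le hp (key β α hR' hR).1 (key α β hR hR').2
  have hY' : pPrimeCoreOf p (stabilizer G β) = ⊥ := by
    rw [hs, pPrimeCoreOf_conj _ _ hp, hY, conj_bot]
  have hF : ∀ δ ε : Ω, IsSyl p R (stabilizer G δ) → IsSyl p R (stabilizer G ε) →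
      pPrimeCoreOf p (stabilizer G δ) = ⊥ → fstarOf (stabilizer G δ) ≤ stabilizer G ε := by
    intro δ ε a b c
    refine le_trans ?_ (key δ ε a b).1
    rw [fstarOf_eq (stabilizer G δ), layerOf_eq_sSup]
    refine sup_le (sSup_le fun K hK => ?_) ?_
    · rw [← H1.bar_le_iff hK.le]
      refine CompIn.le_fstarOf ⟨?_, H2.QS.map _ ((H2.QS.subgroupOf_iff hK.le).2 hK.2) ?_⟩
      · exact snIn_top_iff.2 ((snIn_iff.1 hK.1).2.map (QuotientGroup.mk'_surjective _))
      · intro e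
        have := (H1.bar_eq_bot_iff (N := pPrimeCoreOf p (stabilizer G δ)) hK.le).1 e
        rw [c, le_bot_iff] at this
        exact H2.QS.ne_bot hK.2 this
    · rw [← H1.bar_le_iff (fittingOf_le _)]
      refine (bar_fittingOf_le le_rfl).trans ?_
      rw [H1.bar_top]
      exact fittingOf_le_fstarOf _
  have hE : layerOf (stabilizer G α) = ⊥ := by
    refine fin _ (layerOf_le _) (le_normalizer_layerOf _) ?_
    have := conj_smul_layerOf u (stabilizer G α)
    change layerOf _ ^ᵍ u = layerOf (_ ^ᵍ u) at this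
    rw [this, ← hs]
    exact CB.layer_le ((layerOf_le_fstarOf _).trans (hF α β hR hR' hY)) (hF β α hR' hR hY')
  have hT0 := h0.syl_ne_bot hp p2 hnw (hR.inf_normal hp (Od_normal _))
  have hR0 : R ≠ ⊥ := fun e => hT0 (by rw [e, bot_inf_eq])
  have p5 : 5 ≤ p := by
    have := hp.two_le
    have : p ≠ 4 := by rintro rfl; exact absurd hp (by decide)
    omega
  have := isNilpotent_of_isPGroup hp hR.pgrp
  have hfit : fittingOf (stabilizer G α) = pCoreOf p (stabilizer G α) :=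
    le_antisymm ((fittingOf_le_sup hp _).trans (by rw [hY, sup_bot_eq])) (pCoreOf_le_fittingOf hp _)
  refine zl_ne_bot hR0 (fin _ ((zl_le R).trans hR.le) (St.le_norm_zl hp p5
    h0.i3 ?_ hR) (conj_eq_of_mem_norm (normalizer_le_normalizer_zl R huN)).ge)
  rw [← hfit]
  exact inf_centralizer_fittingOf_le_of_layerOf_eq_bot hE

end Cfsg.Agent.P14
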