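/-
P18, chapter C, piece BT: the action of the Suzuki component.
-/
import Cfsg.Agent.P18.CT1

set_option autoImplicit false
set_option linter.unusedSectionVars false

namespace Cfsg.Agent.P14.C

open Subgroup Cfsg Cfsg.Agent Cfsg.Agent.FT MulAction Cfsg.Agent.P6
open Cfsg.Agent.H2 (CompIn)
open scoped commutatorElement

universe u v

variable {G : Type u} [Group G] [Finite G] [ICl G] {Ω : Type v} [MulAction G Ω]

/-- The normal Suzuki component `K` and its Sylow subgroup `T` at the point `γ`. -/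
structure Pk3 (K T Zh : Subgroup G) (n r : ℕ) (b : G) (γ : Ω) : Prop where
  co : Co3 G Ω
  comp : CompIn ⊤ K
  nrm : ⊤ ≤ 𝐍(K)
  mem : ∀ a, In a → a ∈ K
  z : SzT K T Zh n r
  hb : In b
  bT : b ∈ T
  fix : b • γ = γ

theorem Co3.exists_pk (h : Co3 G Ω) {K : Subgroup G} (hK : CompIn ⊤ K) (h1 : ⊤ ≤ 𝐍(K))
    (h2 : ∀ a, In a → a ∈ K) {γ : Ω} (hγ : γ ∈ Fx Ω (⊤ : Subgroup G)) :
    ∃ T Zh n r b, Pk3 K T Zh n r b γ := by
  obtain ⟨b, -, hb, e⟩ := hγ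
  obtain ⟨T, hT, h3⟩ := exists_isSyl_ge Nat.prime_two hb.isPGroup (zpowers_le.2 (h2 b hb))
  obtain ⟨Zh, n, r, z⟩ := h.sz hK h2 hT
  exact ⟨T, Zh, n, r, b, h, hK, h1, h2, z, hb, h3 (mem_zpowers b), e⟩

namespace Pk3

variable {K T Zh : Subgroup G} {n r : ℕ} {b : G} {γ : Ω} (h : Pk3 K T Zh n r b γ)
include h

theorem eq_one {x : G} (h1 : x ∈ K) (h2 : x ∈ 𝐂(K)) : x = 1 :=
  (h.co.cent_eq_bot h.comp h.z h.hb h.bT).1.le ⟨h1, h2⟩

theorem not_cent {x : G} (h1 : x ∈ T) (h2 : x ≠ 1) : x ∉ 𝐂(K) := fun e => h2 (h.eq_one (h.z.le h1) e)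

theorem mem_zh {x : G} : x ∈ Zh ↔ x ∈ T ∧ x * x = 1 := by
  rw [h.z.zh]
  exact and_congr_right fun hx => ⟨h.eq_one (h.z.le (mul_mem hx hx)), fun e => e ▸ one_mem _⟩

theorem cen : Zh ≤ 𝐂(T) := fun x hx t ht => commutatorElement_eq_one_iff_mul_comm.1
  (h.eq_one (h.z.le (cmr (le_normalizer ht) (h.z.zle hx))) (h.z.cen (commutator_mem_commutator ht hx)))

theorem bZ : b ∈ Zh := h.mem_zh.2 ⟨h.bT, h.hb.sq⟩

theorem inv {t : G} (h1 : t ∈ K) (ht : Inv t) : In t := by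
  obtain ⟨g, -, e⟩ := h.z.syl.exists_conj_le Nat.prime_two ht.isPGroup (zpowers_le.2 h1)
  have := ((h.co.cent_eq_bot h.comp h.z h.hb h.bT).2 _ (h.mem_zh.2
    ⟨e (conj_mem_conj (mem_zpowers t) g), (ht.conj g).sq⟩)).resolve_left (ht.conj g).ne
  simpa [mul_assoc] using this.conj' g

theorem relIndex_cent {U : Subgroup G} (hU : U ≤ K) : 𝐂(K).relIndex U = 𝐨(U) := by
  rw [← inf_relIndex_right, show 𝐂(K) ⊓ U = ⊥ from
    eq_bot_iff.2 fun x hx => mem_bot.2 (h.eq_one (hU hx.2) hx.1), relIndex_bot_left]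

theorem cardZ : 𝐨(Zh) = 2 ^ n := h.relIndex_cent (h.z.zle.trans h.z.le) ▸ h.z.cardZ

theorem cardT : 𝐨(T) = (2 ^ n) ^ 2 := by
  rw [← H1.card_mul_relIndex h.z.zle, h.cardZ, h.z.cardT, pow_two]

theorem norm_le : 𝐍(T) ≤ stabilizer G γ := fun d hd =>
  h.co.toSE.smul_eq_of_conj h.hb h.fix
    (h.co.toSE.fix_of_commute h.hb h.fix (h.cen h.bZ _ (cjm hd h.bT)).symm)

theorem le : T ≤ stabilizer G γ := (le_norm_self T).trans h.norm_le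

theorem trans {δ : Ω} (hδ : δ ∈ Fx Ω (⊤ : Subgroup G)) : ∃ g ∈ K, g • γ = δ := by
  obtain ⟨a, -, ha, e⟩ := hδ
  exact h.co.toSE.exists_smul_Fx ⟨b, h.mem b h.hb, h.hb, h.fix⟩ ⟨a, h.mem a ha, ha, e⟩

theorem inf_le : K ⊓ stabilizer G γ ≤ 𝐍(T) :=
  (h.z.ovr _ (le_inf h.z.le h.le) inf_le_left).resolve_left fun e => by
    obtain ⟨a, ha, e'⟩ := h.co.other γ
    exact e' (e.ge (h.mem a ha)).2

theorem mem_T {x : G} {k : ℕ} (h0 : x ^ 2 ^ k = 1) (h1 : x ∈ K) (h2 : x • γ = γ) : x ∈ T :=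
  zpowers_le.1 (h.z.syl.le_of_norm Nat.prime_two (two_zp h0) (zpowers_le.2 h1)
    (zpowers_le.2 (h.inf_le ⟨h1, h2⟩)))

theorem stab_le : stabilizer G γ ≤ 𝐍(T) := fun g hg => mem_norm_of_conj_le fun x hx => by
  obtain ⟨y, hy, rfl⟩ := mem_conj'.1 hx
  obtain ⟨k, hk⟩ := pow_two_pow h.z.syl.pgrp hy
  exact h.mem_T (k := k) (by rw [conj_pow, hk]; simp) (cjm (h.nrm (mem_top g)) (h.z.le hy))
    (conj_fix' (h.le hy) hg)

theorem free {t : G} (ht : t ∈ T) {δ : Ω} (hδ : δ ∈ Fx Ω (⊤ : Subgroup G)) (hne : δ ≠ γ)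
    (e : t • δ = δ) : t = 1 := by
  by_contra t1
  obtain ⟨g, hg, rfl⟩ := h.trans hδ
  obtain ⟨k, hk⟩ := pow_two_pow h.z.syl.pgrp ht
  have := h.z.ti t ht (h.not_cent ht t1) g⁻¹ (inv_mem hg) (h.mem_T (k := k)
    (by rw [conj_pow, hk]; simp) (cjm (le_normalizer (inv_mem hg)) (h.z.le ht))
    (by simpa using conj_fix (g := g⁻¹) e))
  exact hne (h.norm_le (inv_mem_iff.1 this))

theorem card : (Fx Ω (⊤ : Subgroup G)).ncard = (2 ^ n) ^ 2 + 1 := by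
  have a1 : (Fx Ω (⊤ : Subgroup G)).ncard = (K ⊓ 𝐍(T)).relIndex K := by
    rw [show K ⊓ 𝐍(T) = K ⊓ stabilizer G γ from le_antisymm (inf_le_inf_left K h.norm_le)
      (inf_le_inf_left K h.stab_le), inf_relIndex_left, ← ncard_orbit]
    congr 1
    ext δ
    exact ⟨h.trans, fun ⟨g, _, e⟩ => e ▸ smul_mem_Fx' (mem_top g) ⟨b, mem_top b, h.hb, h.fix⟩⟩
  have a2 : T.relIndex (K ⊓ 𝐍(T)) = 2 ^ n - 1 := by
    have b1 : 𝐂[b] ⊓ (K ⊓ 𝐍(T)) = T := le_antisymm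
      (fun x hx => h.z.cent b h.bT (h.not_cent h.bT h.hb.ne) x hx.2.1 (by
        rw [commutatorElement_eq_one_iff_mul_comm.2 (mem_cent1.1 hx.1).symm]; exact one_mem _))
      (le_inf (mem_cent_iff_cent1.1 (h.cen h.bZ)) (le_inf h.z.le (le_norm_self T)))
    rw [← h.cardZ, ← SetLike.coe_sort_coe, Nat.card_coe_set_eq,
      ← Set.ncard_sdiff_singleton_of_mem (one_mem Zh)]
    nth_rw 1 [← b1]
    rw [inf_relIndex_right, ← ncard_class]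
    congr 1
    ext y
    refine ⟨fun ⟨d, hd, e⟩ => e ▸ ⟨cjm (h.z.nZ (le_normalizer hd.1) hd.2) h.bZ, (h.hb.conj d).ne⟩,
      fun hy => ?_⟩
    obtain ⟨d, hd, -, e⟩ := h.z.trZ b h.bZ (h.not_cent h.bT h.hb.ne) y hy.1
      (h.not_cent (h.z.zle hy.1) hy.2)
    exact ⟨d, hd, inv_mul_eq_one.1 (h.eq_one
      (h.z.le (mul_mem (inv_mem (cjm hd.2 h.bT)) (h.z.zle hy.1))) e)⟩
  have a3 := h.z.cardK
  rw [h.relIndex_cent le_rfl, ← H1.card_mul_relIndex (inf_le_left : K ⊓ 𝐍(T) ≤ K),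
    ← H1.card_mul_relIndex (le_inf h.z.le (le_norm_self T)), h.cardT, a2, ← a1] at a3
  have := h.z.one_lt
  exact Nat.eq_of_mul_eq_mul_left (Nat.mul_pos (by positivity) (by omega)) a3

theorem tr {δ ε : Ω} (hδ : δ ∈ Fx Ω (⊤ : Subgroup G)) (h1 : δ ≠ γ)
    (hε : ε ∈ Fx Ω (⊤ : Subgroup G)) (h2 : ε ≠ γ) : ∃ t ∈ T, t • δ = ε := by
  have a1 : {c | ∃ t ∈ T, t • δ = c} ⊆ Fx Ω (⊤ : Subgroup G) \ {γ} := by
    rintro _ ⟨t, ht, rfl⟩
    exact ⟨smul_mem_Fx' (mem_top t) hδ, fun e => h1 (smul_left_cancel t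
      ((e : t • δ = γ).trans (h.le ht).symm))⟩
  refine (Set.eq_of_subset_of_ncard_le a1 ?_ ((Set.finite_of_ncard_ne_zero
    (by rw [h.card]; omega)).subset Set.diff_subset)).ge ⟨hε, h2⟩
  rw [Set.ncard_sdiff_singleton_of_mem (s := Fx Ω (⊤ : Subgroup G)) ⟨b, mem_top b, h.hb, h.fix⟩,
    h.card, ncard_orbit, ← inf_relIndex_right, show stabilizer G δ ⊓ T = ⊥ from
      eq_bot_iff.2 fun x hx => mem_bot.2 (h.free hx.2 hδ h1 hx.1),
    relIndex_bot_left, h.cardT, Nat.add_sub_cancel]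

theorem fix3 {x : G} (hx : x ∈ K) {δ ε : Ω} (hδ : δ ∈ Fx Ω (⊤ : Subgroup G))
    (hε : ε ∈ Fx Ω (⊤ : Subgroup G)) (h1 : γ ≠ δ) (h2 : γ ≠ ε) (h3 : δ ≠ ε) (e1 : x • γ = γ)
    (e2 : x • δ = δ) (e3 : x • ε = ε) : x = 1 := by
  obtain ⟨t, ht, rfl⟩ := h.tr hδ h1.symm hε h2.symm
  have t1 : t ≠ 1 := fun e => h3 (by rw [e, one_smul])
  have a1 := h.free (mul_mem (inv_mem ht) (cjm (h.stab_le e1) ht)) hδ h1.symm (by
    rw [mul_smul, mul_smul, mul_smul, inv_smul_eq_iff.2 e2.symm, e3, inv_smul_smul])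
  refine h.free (h.z.cent t ht (h.not_cent ht t1) x hx ?_) hδ h1.symm e2
  rw [commutatorElement_def, ← inv_mul_eq_one.1 a1, mul_inv_cancel]
  exact one_mem _

theorem btp : BTp Ω ⊤ K n γ T where
  syl := h.z.syl
  le := h.le
  card := h.cardT
  norm := by rw [h.co.od, sup_bot_eq]; exact inf_le_right.trans h.stab_le
  tr _ a b _ c d := h.tr a b c d
  free _ a _ b c d := h.free a b c d
  cardI := by
    rw [← h.cardZ, ← SetLike.coe_sort_coe, Nat.card_coe_set_eq]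
    exact congrArg _ (Set.ext fun x => h.mem_zh.symm)
  cen t a b := h.cen (h.mem_zh.2 ⟨a, b⟩)

end Pk3

theorem Co3.bt (h : Co3 G Ω) : BT Ω (⊤ : Subgroup G) := by
  obtain ⟨K, hK, h1, h2⟩ := h.ex_normal
  obtain ⟨α, hα⟩ := h.two.nonempty
  obtain ⟨T, Zh, n, r, b, p⟩ := h.exists_pk hK h1 h2 hα
  refine ⟨K, n, ⟨le_top, h1⟩, h.od.le.trans bot_le, fun a _ => h2 a, fun t => p.inv, p.z.odd,
    p.z.three, p.card, fun x hx γ hγ δ hδ ε hε a1 a2 a3 e1 e2 e3 => ?_, fun γ hγ => ?_⟩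
  all_goals obtain ⟨T', Zh', n', r', b', p'⟩ := h.exists_pk hK h1 h2 hγ
  · rw [p'.fix3 hx hδ hε a1 a2 a3 e1 e2 e3]
    exact one_mem _
  · obtain rfl : n = n' := Nat.pow_right_injective le_rfl
      (Nat.pow_left_injective two_ne_zero (Nat.succ_injective (p.card.symm.trans p'.card)))
    exact ⟨T', p'.btp⟩

end Cfsg.Agent.P14.C
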