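/-
P18, chapter C, piece BT: passage to `N / O(N)`.
-/
import Cfsg.Agent.P18.CT2

set_option autoImplicit false
set_option linter.unusedSectionVars false

namespace Cfsg.Agent.P14.C

open Subgroup Cfsg Cfsg.Agent Cfsg.Agent.FT MulAction Cfsg.Agent.P6
open Cfsg.Agent.H1 (qmk unbar)
open Cfsg.Agent.H7.SC (od br od_le od_inf)
open Cfsg.Agent.P14.St (I3)
open scoped commutatorElement

universe u v

variable {G : Type u} [Group G] [Finite G] [ICl G] {Ω : Type v} [MulAction G Ω] {N : Subgroup G}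

theorem Cv.rk2 [ICl (CtQ N)] {Ω' : Type v} [MulAction (CtQ N) Ω'] {ι : Ω' → Ω} (c : Cv N ι)
    (h : Rk2 N) : Rk2 (⊤ : Subgroup (CtQ N)) := by
  obtain ⟨a, aN, b, bN, ha, hb, hne, hc⟩ := h
  refine ⟨_, mem_top _, _, mem_top _, (c.cl _).2 ⟨⟨a, aN⟩, ha, rfl⟩, (c.cl _).2 ⟨⟨b, bN⟩, hb, rfl⟩,
    fun e => (ct_inv (a := ⟨a, aN⟩ * ⟨b, bN⟩) (ha.mul hb hne hc).toInv).ne ?_, ?_⟩
  · rw [map_mul, e, (ct_inv (a := ⟨b, bN⟩) hb.toInv).sq]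
  · rw [← map_mul, ← map_mul]
    exact congrArg _ (Subtype.ext hc)

theorem SE.bt3 (h : SE G Ω) (h3 : I3 G) (kh : KC.{u} (𝐨(N) + 1)) (h1 : Rk2 N)
    (h2 : (Fx Ω N).Nontrivial) : BT Ω N := by
  have hker : (od N).subgroupOf N ≤ (toPermHom N (ctSub Ω N)).ker := fun x hx =>
    Equiv.ext fun δ => Subtype.ext (h.le_stab_of_rk2 h1 (odd_Od N) (Od_normal N).2 δ.2 hx)
  let _ : MulAction (CtQ N) (ctSub Ω N) :=
    MulAction.compHom _ (QuotientGroup.lift _ (toPermHom N (ctSub Ω N)) hker)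
  let _ := ctCl N
  have c : Cv N (fun x : ctSub Ω N => (x : Ω)) :=
    ⟨fun z => ⟨fun e => e.mem, fun e => In.of_mem e⟩, Subtype.val_injective,
      fun α => ⟨fun e => ⟨⟨α, e⟩, rfl⟩, fun ⟨x, e⟩ => e ▸ x.2⟩, fun _ _ => rfl⟩
  obtain ⟨α, hα, β, hβ, hne⟩ := h2
  exact c.bt (Co3.bt ⟨c.se h, H7.SC.od_br N,
    ⟨⟨α, hα⟩, c.mem_Fx _, ⟨β, hβ⟩, c.mem_Fx _, fun e => hne (congrArg Subtype.val e)⟩,
    c.rk2 h1, (h3.subgroup N).of_surjective _ (QuotientGroup.mk'_surjective _),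
    kh.mono (Nat.succ_le_succ (Nat.le_of_dvd Nat.card_pos (card_quotient_dvd_card _)))⟩)

theorem Nin0.nin (h : Nin0 G Ω) : Nin G Ω := ⟨h, fun N hN =>
  h.toSE.bt3 h.i3 (h.kh.mono ((H1.card_lt_of_lt (lt_top_iff_ne_top.2 hN)).trans_eq card_top))⟩

end Cfsg.Agent.P14.C
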