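/-
P18, chapter C: interface of the endgame (port of `P14/EDefs`).
-/
import Cfsg.Agent.P18.C0

set_option autoImplicit false
set_option linter.unusedSectionVars false

namespace Cfsg.Agent.P14

open Subgroup Cfsg Cfsg.Agent Cfsg.Agent.FT MulAction
open Cfsg.Agent.P6 (SE Fx Rk2 IComm St2 Av)

universe u


/-- The strongly embedded situation (analogue of `P6.Nc`). -/
structure Ns (G Ω : Type u) [Group G] [Finite G] [MulAction G Ω] : Prop extends SE G Ω where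
  simple : IsSimpleGroup G
  i3 : St.I3 G
  kh : C.KC.{u} (Nat.card G)
  two : Nontrivial Ω
  comm : IComm G Ω
  eight : ∀ α : Ω, 8 ≤ 𝐨(Av G α)
  L1 : ∀ {r : ℕ}, r.Prime → r ≠ 2 → ∀ {X : Subgroup G}, IsPGroup r X → ∀ {α : Ω} {a : G},
    a ∈ Av G α → a ≠ 1 → a ∈ 𝐂(X) → ∀ {δ : Ω}, X ≤ stabilizer G δ → δ ∈ Fx Ω 𝐂(X)
  L2 : ∀ {r : ℕ}, r.Prime → r ≠ 2 → ∀ {X : Subgroup G}, IsPGroup r X → ∀ {δ ε ζ : Ω},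
    X ≤ stabilizer G δ → X ≤ stabilizer G ε → X ≤ stabilizer G ζ → δ ≠ ε → δ ≠ ζ → ε ≠ ζ →
    ∃ a ∈ Av G δ, a ≠ 1 ∧ a ∈ 𝐂(X)
  bt : ∀ N : Subgroup G, N ≠ ⊤ → Rk2 N → ∀ γ ∈ Fx Ω N, ∀ δ ∈ Fx Ω N, δ ≠ γ →
    (Fx Ω N).ncard = 𝐨((Av G γ ⊓ N : Subgroup G)) ^ 2 + 1 ∧
      ∃ T ≤ N ⊓ stabilizer G γ, IsPGroup 2 T ∧ ∀ ε ∈ Fx Ω N, ε ≠ γ → ∃ s ∈ T, s • δ = ε

variable {G Ω : Type u} [Group G] [Finite G] [MulAction G Ω]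

/-- `Q` is a normal subgroup of `G_α` that is regular on the other points (`P6.Bn`). -/
structure Bp3 (α β : Ω) (Q : Subgroup G) : Prop extends Ns G Ω where
  ne : α ≠ β
  le : Q ≤ 𝐂(Av G α)
  Ale : Av G α ≤ Q
  norm : stabilizer G α ≤ 𝐍(Q)
  tr : ∀ γ, γ ≠ α → ∃ z ∈ Q, z • β = γ
  free : ∀ z ∈ Q, z • β = β → z = 1

/-- `Bp3` and the action of `W = C_D(A)`. -/
structure Bq3 (α β : Ω) (Q : Subgroup G) : Prop extends Bp3 α β Q where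
  wc : ∀ x ∈ St2 G α β ⊓ 𝐂(Av G α), x ≠ 1 →
    Q ⊓ 𝐂[x] = pCoreOf 2 Q ∧ 𝐨(pCoreOf 2 Q) = 𝐨(Av G α) ^ 2

/-- The regular normal subgroup. -/
def E2Stmt3 : Prop := ∀ (G Ω : Type u) [Group G] [Finite G] [MulAction G Ω], Ns G Ω →
  ∀ α β : Ω, α ≠ β → ∃ Q : Subgroup G, Bq3 α β Q

/-- The first case. -/
def E3Stmt3 : Prop := ∀ (G Ω : Type u) [Group G] [Finite G] [MulAction G Ω] (α β : Ω)
  (Q : Subgroup G), Bq3 α β Q → ∀ y ∈ St2 G α β, (orderOf y).Prime →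
  ∀ a ∈ Av G α, a ≠ 1 → a ∈ 𝐂[y] → Rk2 𝐂[y]

/-- The character argument. -/
def E4Stmt3 : Prop := ∀ (G Ω : Type u) [Group G] [Finite G] [MulAction G Ω] (α β : Ω)
  (Q : Subgroup G), Bp3 α β Q → 𝐨(pCoreOf 2 Q) = 𝐨(Av G α) ^ 2 →
  (∀ d ∈ St2 G α β, d ≠ 1 → H7.SC.od Q ⊓ 𝐂[d] = ⊥) →
  ∀ a ∈ Av G α, a ≠ 1 → St2 G α β ⊓ 𝐂[a] = ⊥

end Cfsg.Agent.P14
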