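/-
P18, endgame E2 (a): `G_α = C(A) D` (port of `P14/E2a`).
-/
import Cfsg.Agent.P18.E0
import Cfsg.Agent.P18.CL

set_option autoImplicit false
set_option linter.unusedSectionVars false

namespace Cfsg.Agent.P14

open Subgroup Cfsg Cfsg.Agent Cfsg.Agent.FT MulAction
open Cfsg.Agent.P6
open scoped commutatorElement

universe u

variable {G Ω : Type u} [Group G] [Finite G] [MulAction G Ω]

namespace Ns

variable (h : Ns G Ω)
include h

theorem card_A' (α : Ω) : ∃ n, Odd n ∧ 3 ≤ n ∧ 𝐨(Av G α) = 2 ^ n := by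
  obtain ⟨n, hn, e⟩ := h.card_A α
  have := h.two
  obtain ⟨β, hne⟩ := exists_ne α
  obtain ⟨u, hu, eu⟩ := h.exists_J hne.symm
  have ho : Odd n := C.odd_of_not_three (by
    rw [← e, ← h.ncard_Iv_eq, h.ncard_Iv' hu eu hne.symm α]
    exact C.i3_not_dvd h.i3 (h.se.odd_St2 hne.symm) hu (P6.Min.J_mem_norm hu eu))
  refine ⟨n, ho, ?_, e⟩
  obtain ⟨k, rfl⟩ := ho
  omega

theorem norm_le_St2 {α β : Ω} (hne : α ≠ β) {l : ℕ} (hl : l.Prime) (hd : l ∣ 𝐨(Av G α) - 1)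
    {P : Subgroup G} (hP : IsPGroup l P) (hH : P ≤ stabilizer G α)
    (nc : ∀ a ∈ Av G α, a ≠ 1 → a ∉ 𝐂(P)) : ∃ g ∈ stabilizer G α, P ≤ St2 G α (g • β) ∧
      stabilizer G α ⊓ 𝐍(P) ≤ St2 G α (g • β) := by
  obtain ⟨R, hR⟩ := exists_isSyl hl (St2 G α β)
  obtain ⟨g, hg, e⟩ := (h.syl_stab hne hl hd hR).2.exists_le_conj hl hP hH
  have n1 : α ≠ g • β := fun e => hne (smul_left_cancel g (hg.trans e))
  have hPβ : P ≤ stabilizer G (g • β) := by
    rw [stabilizer_smul']; exact e.trans (conj_mono (hR.le.trans inf_le_right) g)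
  refine ⟨g, hg, le_inf hH hPβ, fun x hx => ⟨hx.1, ?_⟩⟩
  by_contra n2
  obtain ⟨a, ha, a1, hc⟩ := h.L2 hl (h.ne_two_of_dvd hd) hP hH hPβ
    (le_stab_smul hx.2 hPβ) n1 (fun e => n1 (smul_left_cancel x (hx.1.trans e))) (Ne.symm n2)
  exact nc a ha a1 hc

theorem card_lt {Y : Subgroup G} (hY : Y ≠ ⊤) : 𝐨(Y) < Nat.card G :=
  (Nat.le_of_dvd Nat.card_pos (card_subgroup_dvd_card Y)).lt_of_ne fun e =>
    hY (eq_top_of_card_eq _ e)

theorem odd_relIndex_C (α : Ω) : Odd (𝐂(Av G α).relIndex (stabilizer G α)) := by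
  have := h.two
  obtain ⟨β, hne⟩ := exists_ne α
  obtain ⟨n, hn, n3, cA⟩ := h.card_A' α
  obtain ⟨l, hl, l2, hd, ho⟩ := exists_zsig hn (by omega)
  have pA := elemAb_isPGroup (h.elem α)
  rw [← cA] at hd
  have := Fact.mk hl
  have := Fact.mk Nat.prime_two
  have ex : ∀ {P : Subgroup G}, IsPGroup l P → ¬ P ≤ 𝐂(Av G α) →
      ∃ x ∈ P, x ∉ 𝐂(Av G α) ∧ ∃ k, x ^ l ^ k = 1 := fun {P} hP hn => by
    obtain ⟨x, hx, x1⟩ := SetLike.not_le_iff_exists.1 hn
    obtain ⟨k, hk⟩ := hP ⟨x, hx⟩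
    exact ⟨x, hx, x1, k, congrArg Subtype.val hk⟩
  have f1 : ∀ {P Y : Subgroup G}, IsPGroup l P → P ≤ stabilizer G α → ¬ P ≤ 𝐂(Av G α) →
      Y ≤ stabilizer G α → Odd 𝐨((Y ⊓ 𝐍(P) : Subgroup G)) := fun {P Y} hP hH hn hY => by
    obtain ⟨x, hx, x1, k, hk⟩ := ex hP hn
    obtain ⟨g, hg, -, e⟩ := h.norm_le_St2 hne.symm hl hd hP hH fun a ha a1 hc => a1 (by
      have := (zsig_irr hl l2 ho pA cA hk (h.norm_A α (hH hx)) x1 le_rfl (h.norm_A α (hH hx))
        (h.A_ne α)).2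
      exact mem_bot.1 (this ▸ ⟨cent_anti (zpowers_le.2 hx) hc, ha⟩))
    exact odd_of_le ((inf_le_inf_right _ hY).trans e) (h.se.odd_St2
      fun e => hne.symm (smul_left_cancel g (hg.trans e)))
  have fr : ∀ {N Y : Subgroup G}, N ⊲ Y → Y ≤ stabilizer G α → 𝐂(Av G α) ≤ N →
      l ∣ 𝐂(Av G α).relIndex N → Odd (N.relIndex Y) := fun {N Y} hN hY hC hd => by
    obtain ⟨P, hP⟩ := exists_isSyl hl N
    have := f1 hP.pgrp (hP.le.trans (hN.1.trans hY))
      (fun e => hP.ndvd (hd.trans (relIndex_dvd_of_le_left _ e))) hY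
    rw [← hP.frattini hl hN, relIndex_sup_of_norm (inf_le_left.trans hN.2)]
    exact this.of_dvd_nat (relIndex_dvd_card' _ _)
  have key : ∀ m, ∀ Y : Subgroup G, 𝐨(Y) = m → 𝐂(Av G α) ≤ Y → Y ≤ stabilizer G α →
      l ∣ 𝐂(Av G α).relIndex Y → Odd (𝐂(Av G α).relIndex Y) := by
    intro m
    induction m using Nat.strong_induction_on with
    | _ m ih =>
    intro Y hm hC hY hdY
    have lt : 𝐂(Av G α) < Y := hC.lt_of_ne fun e => by
      rw [← e, relIndex_self] at hdY; exact hl.one_lt.ne' (Nat.dvd_one.1 hdY)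
    obtain ⟨N, hN, ch⟩ := exists_chief_below ⟨le_rfl, le_norm_self Y⟩ (hY.trans (h.norm_C α)) lt
    have nN : N ⊲ Y := ⟨ch.lt.le, ch.normV⟩
    rw [← relIndex_mul_relIndex _ _ _ hN ch.lt.le] at hdY ⊢
    by_cases h1 : l ∣ 𝐂(Av G α).relIndex N
    · exact (ih _ (hm ▸ H1.card_lt_of_lt ch.lt) N rfl hN (ch.lt.le.trans hY) h1).mul (fr nN hY hN h1)
    have h2 := (hl.dvd_mul.1 hdY).resolve_left h1
    refine Odd.mul ?_ ?_
    · obtain ⟨T, hT⟩ := exists_isSyl Nat.prime_two N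
      obtain ⟨R, hR⟩ := exists_isSyl hl (Y ⊓ 𝐍(T))
      obtain ⟨x, hx, x1, k, hk⟩ := ex hR.pgrp fun e => hR.ndvd (by
        rw [← hT.frattini Nat.prime_two nN, relIndex_sup_of_norm (inf_le_left.trans nN.2)] at h2
        exact h2.trans (relIndex_dvd_of_le_left _ (e.trans hN)))
      have xA := h.norm_A α (hY (hR.le hx).1)
      obtain ⟨U, hU, U1, -⟩ := H2.inf_centralizer_ne_bot_of_isPGroup hT.pgrp
        (hT.le.trans (nN.1.trans (hY.trans (h.norm_A α)))) (cA ▸ dvd_pow_self 2 (by omega))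
      have e := (zsig_irr (B := Av G α ⊓ 𝐂(T)) hl l2 ho pA cA hk xA x1 inf_le_left
        (inf_normalizer_le_normalizer_inf ⟨xA, H1.le_normalizer_centralizer le_rfl (hR.le hx).2⟩)
        (fun e => U1 (eq_bot_iff.2 (e ▸ hU)))).1
      rw [← Nat.not_even_iff_odd, even_iff_two_dvd]
      exact fun h3 => hT.ndvd (h3.trans (relIndex_dvd_of_le_left _
        (cent_comm.1 (e.ge.trans inf_le_right))))
    have := H1.normal_subgroupOf_of_le nN.2
    have hs := simple_of_chief ch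
    have cq : Nat.card (Y ⧸ N.subgroupOf Y) = N.relIndex Y := rfl
    by_cases hab : IsMulCommutative (Y ⧸ N.subgroupOf Y)
    · have hp : (Nat.card (Y ⧸ N.subgroupOf Y)).Prime := by
        let _ : CommGroup (Y ⧸ N.subgroupOf Y) :=
          { (inferInstance : Group _) with mul_comm := hab.is_comm.comm }
        exact IsSimpleGroup.prime_card
      rw [cq] at hp
      rw [← (Nat.prime_dvd_prime_iff_eq hl hp).1 h2]
      exact hl.odd_of_ne_two l2
    have dG : N.relIndex Y ∣ 𝐨(Y) := relIndex_dvd_card' _ _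
    obtain ⟨y, w, e1, e2, e3⟩ := h.kh.exists_inverted ((Nat.le_of_dvd Nat.card_pos dG).trans_lt
      (h.card_lt fun e => h.stab_ne_top α (top_le_iff.1 (e ▸ hY))))
      ((h.i3.subgroup Y).of_surjective _ (QuotientGroup.mk'_surjective _)) hs hab hl l2
      (fun e => by have := ho 2 two_pos (e ▸ dvd_rfl); omega) h2
    exfalso
    have c0 : N.relIndex (H1.unbar Y N (zpowers y)) = l := by
      rw [← H1.card_bar (H1.unbar_le _), H1.bar_unbar, Nat.card_zpowers, e1]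
    have n0 : H1.unbar Y N (zpowers y) ⊲ H1.unbar Y N 𝐍(zpowers y) :=
      ⟨H1.unbar_mono (le_norm_self _), H1.le_normalizer_unbar (H1.unbar_le _)
        (by rw [H1.bar_unbar])⟩
    have o1 := fr n0 ((H1.unbar_le _).trans hY) (hN.trans (H1.le_unbar nN.1 _)) (by
      rw [← relIndex_mul_relIndex _ _ _ hN (H1.le_unbar nN.1 _), c0]; exact dvd_mul_left _ _)
    have o2 : Odd 𝐨(𝐍(zpowers y)) := by
      rw [← H1.bar_unbar 𝐍(zpowers y), H1.card_bar (H1.unbar_le _),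
        ← relIndex_mul_relIndex _ _ _ (H1.le_unbar nN.1 _) n0.1, c0]
      exact (hl.odd_of_ne_two l2).mul o1
    have wi : w⁻¹ = w := L.inv_eq_self_of_mul_self e2
    have wn : w ∈ 𝐍(zpowers y) := mem_norm_of_conj_le (by
      rw [← zpowers_conj, wi, e3, zpowers_inv])
    rw [L.eq_one_of_sq_of_odd o2 wn e2, one_mul, mul_one] at e3
    have := eq_one_of_eq_inv (e1 ▸ hl.odd_of_ne_two l2) e3
    rw [this, orderOf_one] at e1
    exact hl.one_lt.ne e1
  refine key _ _ rfl (h.C_le α) le_rfl ?_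
  obtain ⟨a, ha, a1⟩ := h.exists_A α
  rw [← h.relIndex_D hne.symm ha a1] at hd
  exact (hd.trans (relIndex_dvd_of_le_left _ (cent_le_cent1 ha))).trans
    (rel_dvd_rel inf_le_left (h.C_le α) (h.norm_C α))

theorem le_C_of_two {α : Ω} {S : Subgroup G} (hS : IsPGroup 2 S) (hl : S ≤ stabilizer G α) :
    S ≤ 𝐂(Av G α) := by
  have := Fact.mk Nat.prime_two
  obtain ⟨n, hn⟩ := IsPGroup.iff_card.1 hS
  obtain ⟨k, -, hk⟩ := (Nat.dvd_prime_pow Nat.prime_two).1 (hn ▸ relIndex_dvd_card' 𝐂(Av G α) S)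
  have := (h.odd_relIndex_C α).of_dvd_nat (rel_dvd_rel hl (h.C_le α) (h.norm_C α))
  rw [← relIndex_eq_one, hk]
  rcases k with _ | k
  · rfl
  · rw [hk] at this
    exact absurd this (Nat.not_odd_iff_even.2 (even_iff_two_dvd.2 (dvd_pow_self 2 k.succ_ne_zero)))

/-- `H = C(A) D`. -/
theorem stab_le {α β : Ω} (hne : α ≠ β) : stabilizer G α ≤ 𝐂(Av G α) ⊔ St2 G α β := by
  rcases (h.C_le α).eq_or_lt with e | lt
  · exact e.ge.trans le_sup_left
  obtain ⟨M, hM, ch⟩ := exists_chief_above (h.norm_C α) ⟨le_rfl, le_norm_self _⟩ lt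
  obtain ⟨l, hl, n, hi⟩ : ∃ l : ℕ, l.Prime ∧ ∃ n, 𝐂(Av G α).relIndex M = l ^ n := by
    have := H1.normal_subgroupOf_of_le ch.normV
    have hm := BG01.isMinNormal_bar ch
    have := feit_thompson (H1.bar (stabilizer G α) 𝐂(Av G α) M) (by
      rw [H1.card_bar hM]
      exact (h.odd_relIndex_C α).of_dvd_nat (rel_dvd_rel hM (h.C_le α) (h.norm_C α)))
    obtain ⟨p, hp, he⟩ := hm.exists_isElementaryAbelian
    obtain ⟨n, hn⟩ := exists_card_eq_pow hp (elemAb_isPGroup he)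
    exact ⟨p, hp, n, by rw [← hn, H1.card_bar ch.le]⟩
  obtain ⟨P, hP⟩ := exists_isSyl hl M
  have hM' : M ≤ 𝐂(Av G α) ⊔ P := by
    have hle : 𝐂(Av G α) ⊔ P ≤ M := sup_le ch.lt.le hP.le
    rw [← relIndex_eq_one]
    have d1 : (𝐂(Av G α) ⊔ P).relIndex M ∣ l ^ n := hi ▸ relIndex_dvd_of_le_left _ le_sup_left
    obtain ⟨k, -, e⟩ := (Nat.dvd_prime_pow hl).1 d1
    rcases k with _ | k
    · simpa using e
    · exact absurd ((e ▸ dvd_pow_self l k.succ_ne_zero : l ∣ _).trans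
        (relIndex_dvd_of_le_left _ le_sup_right)) hP.ndvd
  have nc : ∀ a ∈ Av G α, a ≠ 1 → a ∉ 𝐂(P) := fun a ha a1 hc => by
    refine ch.lt.not_ge (cent_comm.1 fun b hb => ?_)
    by_cases b1 : b = 1
    · rw [b1]; exact one_mem _
    obtain ⟨d, hd, rfl⟩ := (h.gl1 hne).trans a ha a1 b hb b1
    have : a ∈ 𝐂(M) := cent_anti hM' (by
      rw [cent_sup]; exact ⟨cent_comm.1 le_rfl ha, hc⟩)
    exact H1.conj_mem_of_le_normalizer (H1.le_normalizer_centralizer ch.normU) hd.1 this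
  have hd : l ∣ 𝐨(Av G α) - 1 := by
    by_contra nd
    rw [← h.ncard_Iv_eq] at nd
    obtain ⟨b, hb, hbP⟩ := exists_cent_of_not_dvd hl hP.pgrp (S := Iv G α)
      (fun x hx s hs => ⟨hs.1.conj x, conj_fix' hs.2 (hM (hP.le hx))⟩) nd
    exact nc b (h.mem hb.1 hb.2) hb.1.ne hbP
  obtain ⟨g, hg, hPβ, hN⟩ := h.norm_le_St2 hne hl hd hP.pgrp (hP.le.trans hM) nc
  have h1 : stabilizer G α ≤ 𝐂(Av G α) ⊔ St2 G α (g • β) := by
    rw [← hP.frattini hl ⟨hM, ch.normU⟩]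
    exact sup_le (hM'.trans (sup_le_sup_left hPβ _)) (hN.trans le_sup_right)
  rw [← conj_le_conj_iff (g := g), conj_eq_of_mem hg, conj_sup, conj_eq_of_mem_norm (h.norm_C α hg),
    ← St2_smul, hg]
  exact h1

end Ns

end Cfsg.Agent.P14
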