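/-
P18, endgame E1: step (D) (port of `P14/E1`).
-/
import Cfsg.Agent.P18.E1a
import Cfsg.Agent.H5.MetaReg

set_option autoImplicit false
set_option linter.unusedSectionVars false

namespace Cfsg.Agent.P14.C

open Subgroup Cfsg Cfsg.Agent Cfsg.Agent.FT MulAction
open Cfsg.Agent.P6 (St2 Od)
open scoped commutatorElement

universe u

variable {G : Type u} [Group G] [Finite G] [ICl G] {Ω : Type u} [MulAction G Ω]

namespace Nc

variable (h : Nc G Ω)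
include h

theorem tra (α β : Ω) : ∃ g : G, g • α = β := by
  obtain ⟨g, -, e⟩ := h.se.exists_smul_Fx (h.mem_Fx (α := α) le_top) (h.mem_Fx (α := β) le_top)
  exact ⟨g, e⟩

theorem fin : Finite Ω := by
  obtain ⟨α⟩ := h.two.to_nonempty
  exact Finite.of_surjective (fun g : G => g • α) (h.tra α)

theorem eq_one_of_fix {x : G} (hx : ∀ β : Ω, x • β = β) : x = 1 := by
  have := h.simple
  rcases IsSimpleGroup.eq_bot_or_eq_top_of_normal (toPermHom G Ω).ker inferInstance with e | e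
  · have h1 : x ∈ (toPermHom G Ω).ker := by
      rw [MonoidHom.mem_ker]; exact Equiv.ext hx
    rwa [e, mem_bot] at h1
  · have := h.two
    obtain ⟨α, β, hne⟩ := exists_pair_ne Ω
    obtain ⟨g, rfl⟩ := h.tra α β
    have h1 : g ∈ (toPermHom G Ω).ker := e ▸ mem_top g
    rw [MonoidHom.mem_ker] at h1
    exact (hne (Equiv.congr_fun h1 α).symm).elim

theorem bt {N : Subgroup G} (hN : N ≠ ⊤) (hk : Rk2 N) {γ δ : Ω} (hγ : γ ∈ Fx Ω N)
    (hδ : δ ∈ Fx Ω N) (hne : δ ≠ γ) : (Fx Ω N).ncard = 𝐨((Ac G γ ⊓ N : Subgroup G)) ^ 2 + 1 ∧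
      ∃ T ≤ N ⊓ stabilizer G γ, IsPGroup 2 T ∧ ∀ ε ∈ Fx Ω N, ε ≠ γ → ∃ s ∈ T, s • δ = ε := by
  obtain ⟨L, n, b⟩ := h.ih N hN hk ⟨δ, hδ, γ, hγ, hne⟩
  obtain ⟨T, t⟩ := b.pt γ hγ
  have TN := t.syl.le.trans b.normal.1
  refine ⟨?_, T, le_inf TN t.le, t.syl.pgrp, t.tr δ hδ hne⟩
  have AT : Ac G γ ⊓ N ≤ T := t.syl.le_of_le_norm Nat.prime_two
    ((elemAb_isPGroup (h.elem γ)).to_le inf_le_left) (fun a ha => by
      by_cases a1 : a = 1
      · rw [a1]; exact one_mem _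
      · exact b.mem a ha.2 (h.inn ha.1 a1))
    (H1.le_normalizer_inf (t.le.trans (h.norm_A γ)) (TN.trans (le_norm_self N)))
  rw [b.card, ← t.cardI, ← SetLike.coe_sort_coe, Nat.card_coe_set_eq]
  congr 3
  ext a
  refine ⟨fun ha => ⟨h.mem_Ac.2 ?_, TN ha.1⟩, fun ha => ⟨AT ha, by
    rw [← pow_two, (h.elem γ).2 a ha.1]⟩⟩
  by_cases a1 : a = 1
  · exact Or.inl a1
  · exact Or.inr ⟨b.inv a (t.syl.le ha.1) ⟨a1, ha.2⟩, t.le ha.1⟩

theorem relIndex_stab {α β : Ω} (hne : α ≠ β) :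
    (St2 G α β).relIndex (stabilizer G α) + 1 = Nat.card Ω := by
  have := h.fin
  rw [← Set.ncard_add_ncard_compl ({α} : Set Ω), Set.ncard_singleton, add_comm, inf_relIndex_left,
    ← P6.ncard_orbit]
  congr 2
  ext γ
  refine ⟨?_, fun hγ => h.tr2 α β γ hne (Ne.symm hγ)⟩
  rintro ⟨g, hg, rfl⟩ e
  exact hne (smul_left_cancel g (hg.trans e.symm))

theorem mem_Fx_three {X : Subgroup G} (hX : IsPGroup 3 X) {δ : Ω} (hδ : X ≤ stabilizer G δ) :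
    δ ∈ Fx Ω 𝐂(X) := by
  obtain ⟨a, ha, hc⟩ := P6.exists_cent_of_not_dvd Nat.prime_three hX (S := Iv G δ)
    (fun x hx s hs => ⟨hs.1.conj x, P6.conj_fix' hs.2 (hδ hx)⟩) (h.toNin0.not_three δ)
  exact ⟨a, hc, ha⟩

theorem not_rk2_three (hΩ : Nat.card Ω % 3 = 1) {α β : Ω} (hne : α ≠ β) {X : Subgroup G}
    (hX : IsPGroup 3 X) (X1 : X ≠ ⊥) (hD : X ≤ St2 G α β) : ¬ Rk2 𝐂(X) := fun hk => by
  have := h.fin
  have e1 := (h.bt (fun e => h.toNin0.norm_ne_top_of_le X1 (hD.trans inf_le_left)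
    (top_le_iff.1 (e ▸ cent_le_norm X))) hk (h.mem_Fx_three hX (hD.trans inf_le_left))
    (h.mem_Fx_three hX (hD.trans inf_le_right)) hne.symm).1
  have e2 := P6.ncard_modEq_fixed Nat.prime_three hX (Set.toFinite (Set.univ : Set Ω))
    (fun _ _ _ _ => trivial)
  rw [show {s ∈ (Set.univ : Set Ω) | ∀ x ∈ X, x • s = s} = Fx Ω 𝐂(X) from Set.ext fun γ =>
    ⟨fun hγ => h.mem_Fx_three hX hγ.2, fun hγ => ⟨trivial, h.se.le_stab_of_mem_Fx hγ⟩⟩, e1,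
    Set.ncard_univ, Nat.ModEq, hΩ] at e2
  obtain ⟨j, hj⟩ := exists_card_eq_pow Nat.prime_two ((elemAb_isPGroup (h.elem α)).to_le
    (inf_le_left : Ac G α ⊓ 𝐂(X) ≤ _))
  rw [hj, ← pow_mul, mul_comm, pow_mul, Nat.add_mod, Nat.pow_mod] at e2
  simp at e2

theorem card_le_three (hΩ : Nat.card Ω % 3 = 1) {α β : Ω} (hne : α ≠ β) {X : Subgroup G}
    (hX : IsElementaryAbelian 3 X) (hD : X ≤ St2 G α β) : 𝐨(X) ≤ 3 := by
  have pX := elemAb_isPGroup hX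
  refine H5.card_le_of_isCyclic_of_pow_eq_one Nat.prime_three (by_contra fun nc => ?_)
    fun x => Subtype.ext (hX.2 x x.2)
  obtain ⟨a, hc, ia, ea⟩ := h.mem_Fx_three pX (hD.trans inf_le_left)
  obtain ⟨n, -, -, cA⟩ := h.card_A α
  obtain ⟨k, hk⟩ := exists_card_eq_pow Nat.prime_three pX
  have := card_le_of_le (H1.le_of_forall_centralizer_le (H := zpowers a) hX.1 nc
    (hD.trans (inf_le_left.trans (h.norm_A α))) (by
      rw [cA, hk]; exact Nat.Coprime.pow _ _ (by decide)) fun x hx x1 b hb => ?_)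
  · rw [ia.card_zpowers] at this
    have := h.eight α
    omega
  refine ia.mem_zpowers_iff.2 (or_iff_not_imp_left.2 fun b1 => by_contra fun n1 => ?_)
  have ib := h.inn hb.1 b1
  refine h.not_rk2_three hΩ hne (pX.to_le (zpowers_le.2 hx)) (by simpa using x1)
    ((zpowers_le.2 hx).trans hD) ⟨b, cent_zpowers x ▸ hb.2, a, cent_anti (zpowers_le.2 hx) hc,
      ib, ia, n1, h.comm b a α ib ia (h.fix hb.1) ea⟩

theorem not_mod (hΩ : Nat.card Ω % 3 = 1) (h9 : Nat.card Ω % 9 ≠ 1) : ¬ 3 ∣ Nat.card G := by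
  have := h.fin
  have := h.two
  obtain ⟨α0, -⟩ := h.two
  obtain ⟨a, ia, -⟩ := h.toNin0.all α0
  refine i3_not_three h.i3 h.simple (ia.orderOf_eq ▸ orderOf_dvd_natCard a) fun X _ =>
    (pRank_le_iff Nat.prime_three).2 fun E _ hE => ?_
  obtain ⟨α, -, hα⟩ := P6.exists_fixed_of_not_dvd Nat.prime_three (elemAb_isPGroup hE)
    (Set.toFinite (Set.univ : Set Ω)) (fun _ _ _ _ => trivial) (by rw [Set.ncard_univ]; omega)
  obtain ⟨β, hne⟩ := exists_ne α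
  obtain ⟨R, hR⟩ := exists_isSyl Nat.prime_three (St2 G α β)
  obtain ⟨P, hP, RP⟩ := exists_isSyl_ge Nat.prime_three hR.pgrp (hR.le.trans inf_le_left)
  obtain ⟨g, -, e⟩ := hP.exists_conj_le Nat.prime_three (elemAb_isPGroup hE) hα
  have i1 : R.relIndex P ≤ 3 := by
    obtain ⟨k, hk⟩ := exists_card_eq_pow Nat.prime_three hP.pgrp
    obtain ⟨j, -, hj⟩ := (Nat.dvd_prime_pow Nat.prime_three).1 (hk ▸ relIndex_dvd_card' R P)
    rw [hj]
    refine Nat.pow_le_pow_right (n := 3) (j := 1) (by decide) (not_lt.1 fun hl => h9 ?_)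
    have d : 3 ^ 2 ∣ R.relIndex (St2 G α β) * (St2 G α β).relIndex (stabilizer G α) := by
      rw [relIndex_mul_relIndex _ _ _ hR.le inf_le_left, ← relIndex_mul_relIndex _ _ _ RP hP.le, hj]
      exact (pow_dvd_pow 3 hl).mul_right _
    have := ((Nat.prime_three.coprime_iff_not_dvd.2 hR.ndvd).pow_left 2).dvd_of_dvd_mul_left d
    have := h.relIndex_stab hne.symm
    omega
  have i2 := h.card_le_three hΩ hne.symm (elemAb_of_le inf_le_right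
    (H5.elemAb_map (MulAut.conj g).toMonoidHom hE) : IsElementaryAbelian 3 (R ⊓ E ^ᵍ g))
    (inf_le_left.trans hR.le)
  rw [← card_conj E g, ← H1.card_inf_mul_relIndex R]
  exact Nat.mul_le_mul i2 ((relIndex_le_of_le_right e (H2.relIndex_pos _ _).ne').trans i1)

variable {α β : Ω} (hne : α ≠ β) {z : G} (hz : Inv z) (hD : z ∈ St2 G α β)
include hne hz hD

theorem A_le_cent {γ : Ω} (e : z • γ = γ) : Ac G γ ≤ 𝐂[z] := by
  by_cases n1 : γ = α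
  · exact mem_cent_iff_cent1.1 (n1 ▸ h.cent_of_inv hne hz hD)
  · exact mem_cent_iff_cent1.1 (h.cent_of_inv n1 hz ⟨e, hD.1⟩)

theorem fx_eq : Fx Ω 𝐂[z] = {γ | z • γ = γ} := by
  ext γ
  exact ⟨fun ⟨a, ha, ia, e⟩ => h.se.fix_of_commute ia e (mem_cent1.1 ha).symm,
    fun e => h.mem_Fx (h.A_le_cent hne hz hD e)⟩

theorem ncard_fix (γ : Ω) : {γ : Ω | z • γ = γ}.ncard = 𝐨(Ac G γ) ^ 2 + 1 := by
  have hA := h.A_le_cent hne hz hD hD.1
  have := (h.bt (fun e => hz.ne (h.eq_one_of_fix fun δ => by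
    obtain ⟨g, rfl⟩ := h.tra α δ
    rw [← mul_smul, mem_cent1.1 (e ▸ mem_top g : g ∈ 𝐂[z]), mul_smul, hD.1])) (h.rk2 hA)
    (h.mem_Fx hA) (h.mem_Fx (h.A_le_cent hne hz hD hD.2)) hne.symm).1
  rwa [h.fx_eq hne hz hD, inf_eq_left.2 hA, h.card_eq α γ] at this

theorem J_cent {v : G} (hv : In v) (ev : v • α = β) : v ∈ 𝐂[z] := by
  obtain ⟨a, ha, a1⟩ := h.exists_A α
  have ia := h.inn ha a1
  have eb : (v * a * v) • β = β := by rw [mul_smul, mul_smul, hv.smul_eq ev, h.fix ha, ev]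
  obtain ⟨w, hw, e1, e2, e3⟩ := h.se.exists_swap ia (ia.conj_inv hv) (h.fix ha) eb hne
  rw [← h.se.swap_unique ia (h.fix ha) hne hw e2 hv ev e1]
  exact e3 _ (h.A_le_cent hne hz hD hD.1 ha)
    (h.A_le_cent hne hz hD hD.2 (h.mem (ia.conj_inv hv) eb))

theorem inv_mul {u : G} (hu : In u) (hc : u ∈ 𝐂[z]) : Inv (u * z) :=
  hu.toInv.mul hz (fun e => h.se.not_mem_St2 hne hu (e ▸ hD)) (mem_cent1.1 hc).symm

theorem ncard_u {δ : Ω} (hδ : z • δ ≠ δ) :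
    {u ∈ {u : G | In u ∧ u ∈ 𝐂[z]} | u • δ = z • δ}.ncard = 1 := by
  obtain ⟨n, -, n1, cA⟩ := h.card_A (z • δ)
  have e1 := h.se.ncard_Jv_eq_Iv hδ.symm (h.mem_Fx (N := ⊤) le_top)
  rw [h.ncard_Iv, inf_top_eq, coe_top, Set.inter_univ, cA] at e1
  obtain ⟨u, hu, hc⟩ := P6.exists_cent_of_not_dvd Nat.prime_two hz.isPGroup
    (S := Jv G δ (z • δ)) (fun x hx s hs => by
      rcases hz.mem_zpowers_iff.1 hx with rfl | rfl
      · simpa using hs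
      · exact ⟨hs.1.conj x, by rw [mul_smul, mul_smul, hz.inv_eq, hs.1.smul_eq hs.2]⟩) (by
    rw [e1]
    have h3 : 2 ∣ 2 ^ n := dvd_pow_self 2 (by omega)
    have h4 : 1 ≤ 2 ^ n := Nat.one_le_two_pow
    omega)
  rw [cent_zpowers] at hc
  refine Set.ncard_eq_one.2 ⟨u, Set.eq_singleton_iff_unique_mem.2 ⟨⟨⟨hu.1, hc⟩, hu.2⟩, ?_⟩⟩
  rintro v ⟨⟨hv, cv⟩, ev⟩
  have w1 : u * z ∈ St2 G δ (z • δ) := P6.mem_St2.2 ⟨by rw [mul_smul, hu.1.smul_eq hu.2], by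
    rw [mul_smul, hz.smul_smul, hu.2]⟩
  have c1 := mem_cent1.1 (h.J_cent hδ.symm (h.inv_mul hne hz hD hu.1 hc) w1 hv ev)
  have c2 : u * v = v * u := by
    rw [mul_assoc, mem_cent1.1 cv, ← mul_assoc, ← mul_assoc] at c1
    exact mul_right_cancel c1
  by_contra n2
  exact h.se.not_mem_St2 hδ.symm (hu.1.mul hv (Ne.symm n2) c2) (P6.mem_St2.2
    ⟨by rw [mul_smul, ev, hu.1.smul_eq hu.2], by rw [mul_smul, hv.smul_eq ev, hu.2]⟩)

theorem ncard_d {u : G} (hu : In u) (hc : u ∈ 𝐂[z]) :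
    {δ ∈ {δ : Ω | z • δ ≠ δ} | u • δ = z • δ}.ncard = 𝐨(Ac G α) ^ 2 := by
  have := h.fin
  obtain ⟨δ, hδ⟩ := not_forall.1 fun e => hz.ne (h.eq_one_of_fix e)
  obtain ⟨v, e⟩ := Set.ncard_eq_one.1 (h.ncard_u hne hz hD hδ)
  obtain ⟨⟨hv, cv⟩, ev⟩ := e.ge (Set.mem_singleton v)
  obtain ⟨g, hg, rfl⟩ := h.se.exists_conj ⟨α, h.mem_Fx (h.A_le_cent hne hz hD hD.1), β,
    h.mem_Fx (h.A_le_cent hne hz hD hD.2), hne⟩ hv hu cv hc
  have gz : ∀ ε : Ω, z • g • ε = g • z • ε := fun ε => by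
    rw [← mul_smul, mem_cent1.1 hg, mul_smul]
  have d1 : z • g • δ ≠ g • δ := fun e => hδ (smul_left_cancel g (by rw [← gz, e]))
  have d2 : (g * v * g⁻¹) • g • δ = z • g • δ := by rw [P6.conj_smul_smul, ev, gz]
  generalize g * v * g⁻¹ = u at hu hc d2
  generalize g • δ = ε at d1 d2
  obtain ⟨γ, eγ⟩ := h.ex hu
  have zγ : z • γ = γ := h.se.fix_of_commute hu eγ (mem_cent1.1 hc).symm
  have f1 : (u * z) • γ = γ := by rw [mul_smul, zγ, eγ]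
  have e2 := h.ncard_fix (α := γ) (β := ε) (fun e => d1 (e ▸ zγ)) (h.inv_mul hne hz hD hu hc)
    (P6.mem_St2.2 ⟨f1, by rw [mul_smul, hu.smul_eq d2]⟩) α
  rw [← Set.ncard_sdiff_singleton_add_one (show γ ∈ {γ : Ω | (u * z) • γ = γ} from f1),
    Nat.add_right_cancel_iff] at e2
  rw [← e2]
  congr 1
  ext η
  refine ⟨fun hη => ⟨show _ = _ by rw [mul_smul, hu.smul_eq hη.2], fun e => hη.1 (e ▸ zγ)⟩,
    fun hη => ?_⟩
  have e3 : u • z • η = η := by rw [← mul_smul]; exact hη.1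
  exact ⟨fun e => hη.2 (h.uniq hu (by rwa [e] at e3) eγ), hu.smul_eq e3⟩

theorem stepD : False := by
  have := h.fin
  obtain ⟨n, hn, n1, cA⟩ := h.card_A α
  have e1 := ncard_mul_eq (Set.toFinite {δ : Ω | z • δ ≠ δ})
    (Set.toFinite {u : G | In u ∧ u ∈ 𝐂[z]}) (fun δ u => u • δ = z • δ)
    (fun δ hδ => h.ncard_u hne hz hD hδ) fun u hu => h.ncard_d hne hz hD hu.1 hu.2
  have e2 := ncard_mul_eq (Set.toFinite {u : G | In u ∧ u ∈ 𝐂[z]})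
    (Set.toFinite {δ : Ω | z • δ = δ}) (fun u δ => u • δ = δ) (m := 1) (n := 𝐨(Ac G α) - 1)
    (fun u hu => by
      obtain ⟨γ, eγ⟩ := h.ex hu.1
      exact Set.ncard_eq_one.2 ⟨γ, Set.eq_singleton_iff_unique_mem.2
        ⟨⟨h.se.fix_of_commute hu.1 eγ (mem_cent1.1 hu.2).symm, eγ⟩,
          fun δ hδ => h.uniq hu.1 hδ.2 eγ⟩⟩)
    fun δ hδ => by
      rw [h.card_eq α δ, ← inf_eq_left.2 (h.A_le_cent hne hz hD hδ), ← h.ncard_Iv]
      congr 1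
      ext u
      exact ⟨fun hu => ⟨⟨hu.1.1, hu.2⟩, hu.1.2⟩, fun hu => ⟨⟨hu.1.1, hu.2⟩, hu.1.2⟩⟩
  have e3 := Set.ncard_add_ncard_compl {δ : Ω | z • δ = δ}
  rw [h.ncard_fix hne hz hD α] at e2 e3
  rw [mul_one] at e1 e2
  rw [e2] at e1
  change _ + {δ : Ω | z • δ ≠ δ}.ncard = _ at e3
  rw [e1, cA] at e3
  obtain ⟨k, rfl⟩ := hn
  obtain ⟨j, hj⟩ : ∃ j, 2 ^ (2 * k + 1) = 3 * j + 2 := by
    have : 2 ^ (2 * k + 1) % 3 = 2 := by
      rw [pow_succ, pow_mul, Nat.mul_mod, Nat.pow_mod]; simp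
    exact ⟨2 ^ (2 * k + 1) / 3, by omega⟩
  rw [hj, show 3 * j + 2 - 1 = 3 * j + 1 by omega] at e3
  have e4 : Nat.card Ω = 9 * ((3 * j + 2) ^ 3 * (j ^ 2 + j) + 9 * j ^ 3 + 18 * j ^ 2 + 12 * j + 2)
      + 7 := by
    rw [← e3]; ring
  have e5 := h.relIndex_stab hne
  exact h.not_mod (by omega) (by omega) (Dvd.dvd.trans (by omega)
    ((relIndex_dvd_card' (St2 G α β) (stabilizer G α)).trans (card_subgroup_dvd_card _)))

omit hne hz hD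

theorem all_in {t : G} (ht : Inv t) : In t := by
  have := h.fin
  have := h.two
  obtain ⟨α, β, hne⟩ := exists_pair_ne Ω
  obtain ⟨a, ha, a1⟩ := h.exists_A α
  have ia := h.inn ha a1
  have se : P6.SE G Ω := by
    refine ⟨fun {z} hz {γ δ} e1 e2 => by_contra fun n1 => h.stepD n1 hz ⟨e1, e2⟩, fun {z} hz => ?_⟩
    obtain ⟨γ, -, e⟩ := P6.exists_fixed_of_not_dvd Nat.prime_two hz.isPGroup
      (Set.toFinite (Set.univ : Set Ω)) (fun _ _ _ _ => trivial) (fun hd => by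
        have e := P6.ncard_modEq_fixed Nat.prime_two ia.isPGroup (Set.toFinite (Set.univ : Set Ω))
          (fun _ _ _ _ => trivial)
        rw [show {s ∈ (Set.univ : Set Ω) | ∀ x ∈ zpowers a, x • s = s} = {α} from
          Set.eq_singleton_iff_unique_mem.2 ⟨⟨trivial, zpowers_le (H := stabilizer G α).2
            (h.fix ha)⟩, fun γ hγ => h.uniq ia (hγ.2 a (mem_zpowers a)) (h.fix ha)⟩,
          Set.ncard_singleton] at e
        exact absurd ((e.dvd_iff dvd_rfl).1 hd) (by decide))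
    exact ⟨γ, e z (mem_zpowers z)⟩
  obtain ⟨b, hb, b1⟩ := h.exists_A β
  obtain ⟨g, -, rfl⟩ := se.exists_conj (N := ⊤) ⟨α, ⟨a, mem_top a, ia, h.fix ha⟩, β,
    ⟨b, mem_top b, h.inn hb b1, h.fix hb⟩, hne⟩ ia.toInv ht (mem_top a) (mem_top t)
  exact ia.conj g

theorem Fx_eq (N : Subgroup G) : P6.Fx Ω N = Fx Ω N := by
  ext γ
  exact ⟨fun ⟨a, h1, h2, h3⟩ => ⟨a, h1, h.all_in h2, h3⟩, fun ⟨a, h1, h2, h3⟩ => ⟨a, h1, h2, h3⟩⟩

theorem Av_eq (α : Ω) : P6.Av G α = Ac G α := by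
  unfold P6.Av Ac
  congr 1
  ext a
  exact ⟨fun ha => ⟨h.all_in ha.1, ha.2⟩, fun ha => ⟨ha.1, ha.2⟩⟩

theorem ms : Ns G Ω where
  uniq ha := h.uniq (h.all_in ha)
  ex ha := h.ex (h.all_in ha)
  simple := h.simple
  i3 := h.i3
  kh := h.kh
  two := h.two
  comm a b α ha hb := h.comm a b α (h.all_in ha) (h.all_in hb)
  eight α := h.Av_eq α ▸ h.eight α
  L1 {r} hr h2 {X} hX {α a} ha a1 hc {δ} hδ := by
    rw [h.Av_eq] at ha
    exact h.Fx_eq _ ▸ h.l1 r hr h2 X hX ⟨α, a, hc, h.inn ha a1, h.fix ha⟩ δ hδ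
  L2 {r} hr h2 {X} hX {δ ε ζ} hδ hε hζ n1 n2 n3 := by
    obtain ⟨a, hc, ia, e⟩ := h.l1 r hr h2 X hX (Set.nonempty_iff_ne_empty.2 fun e =>
      n3 (h.l2 (fun _ => h.all_in) r hr h2 X hX e δ ε ζ hδ hε hζ n1 n2)) δ hδ
    exact ⟨a, h.Av_eq δ ▸ h.mem ia e, ia.ne, hc⟩
  bt N hN hk γ hγ δ hδ hne := by
    obtain ⟨a, ha, b, hb, ia, ib, hk⟩ := hk
    rw [h.Fx_eq] at hγ hδ ⊢
    rw [h.Av_eq]
    exact h.bt hN ⟨a, ha, b, hb, h.all_in ia, h.all_in ib, hk⟩ hγ hδ hne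

end Nc

end Cfsg.Agent.P14.C
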