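/-
P18, endgame, characters (port of `P14/E4x2`).
-/
import Cfsg.Agent.P18.E0

set_option autoImplicit false
set_option linter.unusedSectionVars false

namespace Cfsg.Agent.P14

open Subgroup Cfsg Cfsg.Agent Cfsg.Agent.FT
open scoped ComplexConjugate

universe u

variable {G : Type u} [Group G] [Finite G]

/-- The structure of `Q`. -/
structure Sx3 (H Q K S Q1 A : Subgroup G) (t : G) : Prop where
  dp : DProd S Q1 Q
  nS : H ≤ 𝐍(S)
  n1 : H ≤ 𝐍(Q1)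
  AS : A ≤ S
  cA : Q ≤ 𝐂(A)
  cS : 𝐨(S) = 𝐨(A) ^ 2
  der : ⁅S, S⁆ ≠ S
  fix : ∀ g ∈ H, g ∉ Q → Q1 ⊓ 𝐂[g] = ⊥
  tA : t ∈ A
  t1 : t ≠ 1
  tt : t * t = 1
  cls : ∀ a ∈ A, a ≠ 1 → ∃ g, g * t * g⁻¹ = a
  KH : K ≤ H
  cK : 𝐨(A) = 𝐨(K) + 1
  ko : Odd 𝐨(K)
  k7 : 7 ≤ 𝐨(K)
  reg : SemiReg Q K
  nosq : ∀ d : ℕ, d ^ 2 ≠ 𝐨(A)
  faith : ∀ χ ∈ Irr (⊤ : Subgroup G), χ ≠ cf1 ⊤ → cfKer χ = ⊥ ∧ dg χ ≠ 1

namespace Sx3

variable {H Q K S Q1 A : Subgroup G} {t : G} (h : Sx3 H Q K S Q1 A t)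
include h

theorem sum_reg (x : G) (hx : x ∈ S) [Decidable (x = 1)] :
    ∑ σ ∈ irrKer Q Q1, σ 1 * σ x = if x = 1 then (𝐨(S) : ℂ) else 0 := by
  have b := h.dp.symm.sdProd.res_bijOn.1
  rw [Finset.sum_nbij (g := fun χ => χ 1 * χ x) (res S) b.1 b.2.1 b.2.2 fun σ _ => by
    rw [res_of_mem _ hx, res_of_mem _ (one_mem S)], sum_irr_one_mul]
  congr

theorem dg_sq_lt {σ : G → ℂ} (hσ : σ ∈ irrKer Q Q1) : dg σ ^ 2 < 𝐨(A) := by
  have e := irr_dg_sq_le h.AS (h.dp.symm.sdProd.res_mem_Irr hσ)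
    (by rw [commutator_comm, comm_eq_bot_iff.2 (cent_comm.1 (h.dp.le_left.trans h.cA))]
        exact bot_le)
  have r := H1.card_mul_relIndex h.AS
  rw [h.cS, sq] at r
  rw [Nat.eq_of_mul_eq_mul_left Nat.card_pos r, dg_congr (res_of_mem σ (one_mem S))] at e
  exact lt_of_le_of_ne e (h.nosq _)

theorem card_lin : 𝐨(A) ≤ (irrKer Q (⁅S, S⁆ ⊔ Q1)).card := by
  have d : DProd ⁅S, S⁆ Q1 (⁅S, S⁆ ⊔ Q1) := ⟨rfl, h.dp.cent.trans (cent_anti (der_le S)),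
    eq_bot_iff.2 (h.dp.disj ▸ inf_le_inf_right _ (der_le S))⟩
  have le : ⁅S, S⁆ ⊔ Q1 ≤ Q := sup_le ((der_le S).trans h.dp.le_left) h.dp.le_right
  rw [card_irrKer_of_der_le (h.dp.der_eq ▸ sup_le_sup_left (der_le Q1) _) le]
  have r := H1.card_mul_relIndex le
  rw [d.card, h.dp.card, mul_right_comm] at r
  replace r := Nat.eq_of_mul_eq_mul_right Nat.card_pos r
  have n1 : (⁅S, S⁆ ⊔ Q1).relIndex Q ≠ 1 := fun e => h.der
    (eq_of_le_of_card_ge (der_le S) (by rw [← r, e, mul_one]))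
  obtain ⟨c, hc⟩ := (h.reg.mono ((der_le S).trans h.dp.le_left) le_rfl).card_dvd
    (h.KH.trans (h.nS.trans (norm_le_norm_der S)))
  have p : 0 < 𝐨(⁅S, S⁆) := Nat.card_pos
  rw [h.cS, h.cK, show 𝐨(⁅S, S⁆) = 𝐨(K) * c + 1 by omega] at r
  rw [h.cK]
  generalize (⁅S, S⁆ ⊔ Q1).relIndex Q = n at r n1
  have n0 : n ≠ 0 := fun e => by rw [e, mul_zero] at r; exact absurd r.symm (by positivity)
  have : (𝐨(K) : ℤ) ∣ n - 1 := ⟨𝐨(K) + 2 - c * n, by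
    have : ((𝐨(K) * c + 1) * n : ℤ) = (𝐨(K) + 1) ^ 2 := by exact_mod_cast r
    linear_combination this⟩
  have := Int.le_of_dvd (by omega) this
  omega

theorem inert {η : G → ℂ} (hη : η ∈ irrKer Q S) (η1 : η ≠ cf1 Q) {g : G} (hg : g ∈ H)
    (hi : g ∈ inertia η) : g ∈ Q := by
  by_contra n
  refine η1 (h.dp.sdProd.eq_of_res_eq hη (cf1_mem_irrKer h.dp.le_left) ?_)
  rw [res_cf1 h.dp.le_right]
  exact eq_cf1_of_mem_inertia (h.n1 hg) (h.fix g hg n) (h.dp.sdProd.res_mem_Irr hη)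
    (inf_inertia_le_inertia_res η ⟨h.n1 hg, hi⟩)

variable {l f f' : G → ℂ} (w : Two H Q l f f')
include w

theorem ip_ind {η : G → ℂ} (hη : η ∈ irrKer Q S) (η1 : η ≠ cf1 Q) {σ σ' : G → ℂ}
    (hσ : σ ∈ irrKer Q Q1) (hσ' : σ' ∈ irrKer Q Q1) :
    ip H (ind H Q (σ * η)) (ind H Q (σ' * η)) = if σ = σ' then 1 else 0 := by
  have key : ∀ g ∈ H, cfConj g (σ * η) = σ' * η → g ∈ Q := fun g hg e => by
    rw [cfConj_mul, h.dp.mul_eq_mul_iff (cfConj_mem_irrKer hσ (w.rg.nQ.2 hg) (h.n1 hg)) hσ'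
      (cfConj_mem_irrKer hη (w.rg.nQ.2 hg) (h.nS hg)) hη] at e
    exact h.inert hη η1 hg (mem_inertia.2 e.2)
  rw [CH1.ip_ind_ind w.rg.nQ (h.dp.mul_mem_Irr hσ hη) (h.dp.mul_mem_Irr hσ' hη)]
  by_cases c : σ = σ'
  · subst c
    rw [if_pos (self_mem_cfClass _ _), if_pos rfl,
      relIndex_eq_one.2 (show H ⊓ inertia (σ * η) ≤ Q from
        fun g hg => key g hg.1 (mem_inertia.1 hg.2)), Nat.cast_one]
  · rw [if_neg c, if_neg fun e => c ?_]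
    obtain ⟨g, hg, e⟩ := mem_cfClass.1 e
    have := key g hg e
    rw [cfConj_eq_self (irr_mem_CF (h.dp.mul_mem_Irr hσ hη)) this] at e
    exact ((h.dp.mul_eq_mul_iff hσ hσ' hη hη).1 e).1

theorem test {η : G → ℂ} (hη : η ∈ irrKer Q S) (η1 : η ≠ cf1 Q) (e : (G → ℂ) → ℝ)
    (he : ∑ σ ∈ irrKer Q Q1, e σ * dg σ = 0) :
    2 * (∑ σ ∈ irrKer Q Q1, e σ * mlt Q f (σ * η)) ^ 2 ≤ ∑ σ ∈ irrKer Q Q1, e σ ^ 2 := by
  set ω : G → ℂ := ∑ σ ∈ irrKer Q Q1, (e σ : ℂ) • (σ * η) with hω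
  have ω1 : ω 1 = 0 := by
    have : ∑ σ ∈ irrKer Q Q1, (e σ : ℂ) * dg σ = 0 := by exact_mod_cast he
    rw [hω, Finset.sum_apply, Finset.sum_congr rfl fun σ hσ => by
      rw [Pi.smul_apply, Pi.mul_apply, smul_eq_mul, irr_one_eq (irrKer_subset _ _ hσ),
        ← mul_assoc], ← Finset.sum_mul, this, zero_mul]
  have on : ind H Q ω ∈ CFon H (sharp Q) := mem_CFon_sharp (ind_mem_CFon_normal w.rg.nQ.2 ω)
    (by rw [ind_one w.rg.nQ.1, ω1, mul_zero])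
  have ti := w.rg.normedTI fun c => h.t1 (mem_bot.1 (c ▸ h.dp.le_left (h.AS h.tA)))
  have n2 : nsq ⊤ (ind ⊤ Q ω) = ∑ σ ∈ irrKer Q Q1, e σ ^ 2 := by
    refine nsq_eq_of_ip ?_
    rw [← ind_ind le_top w.rg.nQ.1, ti.ip_ind on on, hω, map_sum, ip_sum_left]
    push_cast
    refine Finset.sum_congr rfl fun σ hσ => ?_
    rw [ip_sum_right, Finset.sum_eq_single_of_mem σ hσ fun σ' hσ' n => by
      rw [map_smul, map_smul, ip_smul_left, ip_smul_right, h.ip_ind w hη η1 hσ hσ', if_neg n.symm,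
        mul_zero, mul_zero], map_smul, ip_smul_left, ip_smul_right, h.ip_ind w hη η1 hσ hσ,
      if_pos rfl, Complex.conj_ofReal, mul_one, sq]
  have i1 : ip ⊤ (ind ⊤ Q ω) f = (∑ σ ∈ irrKer Q Q1, e σ * mlt Q f (σ * η) : ℝ) := by
    rw [ip_ind_left le_top _ (irr_mem_CF w.irr), hω, ip_sum_left]
    push_cast
    refine Finset.sum_congr rfl fun σ hσ => ?_
    rw [ip_smul_left, ← conj_ip, mlt_eq w.ch (h.dp.mul_mem_Irr hσ hη), map_natCast]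
  have i2 : ip ⊤ (ind ⊤ Q ω) f + ip ⊤ (ind ⊤ Q ω) f' = 0 := by
    rw [← ip_add_right, ip_ind_left le_top _ (add_mem (irr_mem_CF w.irr) (irr_mem_CF w.irr')),
      ip_congr_of_supp (A := sharp Q) (ψ' := cf1 Q) (fun x hx n => by
        rw [show x = 1 from by_contra fun c => n ⟨hx, c⟩, ω1])
        fun x hx => by rw [Pi.add_apply, w.add_Q hx.1 hx.2, cf1_of_mem hx.1], hω, ip_sum_left]
    refine Finset.sum_eq_zero fun σ hσ => ?_
    rw [ip_smul_left, ip_irr_of_ne (h.dp.mul_mem_Irr hσ hη) (cf1_mem_Irr Q) fun c => η1 ?_,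
      mul_zero]
    rw [← cf1_mul (cf1_mem_CF Q)] at c
    exact ((h.dp.mul_eq_mul_iff hσ (cf1_mem_irrKer h.dp.le_right) hη
      (cf1_mem_irrKer h.dp.le_left)).1 c).2
  have b := ((on_Irr ⊤).mono (F := {f, f'})
    (by simp [Finset.insert_subset_iff, w.irr, w.irr'])).bessel (ind ⊤ Q ω)
  rw [Finset.sum_pair w.ne, n2, eq_neg_of_add_eq_zero_right i2, norm_neg, i1, Complex.norm_real,
    Real.norm_eq_abs, sq_abs] at b
  linarith

theorem mlt_mul {η : G → ℂ} (hη : η ∈ irrKer Q S) (η1 : η ≠ cf1 Q) {σ : G → ℂ}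
    (hσ : σ ∈ irrKer Q Q1) : mlt Q f (σ * η) = dg σ * mlt Q f η := by
  have := E4.arith (irrKer_anti Q (le_sup_right : Q1 ≤ ⁅S, S⁆ ⊔ Q1)) (d := dg)
    (m := fun σ => mlt Q f (σ * η))
    (fun σ hσ => (isLin_of_mem_irrKer (h.dp.der_eq ▸ sup_le_sup_left (der_le Q1) _) hσ).dg)
    (by have := h.card_lin; have := h.cK; have := h.k7; omega)
    (fun σ hσ => (h.dg_sq_lt hσ).trans_le h.card_lin) (h.test w hη η1)
    (cf1_mem_irrKer (sup_le ((der_le S).trans h.dp.le_left) h.dp.le_right)) hσ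
  rwa [cf1_mul (irr_mem_CF (irrKer_subset _ _ hη))] at this

theorem expand {s y : G} (hs : s ∈ S) (hy : y ∈ Q1) [Decidable (s = 1)] :
    f (s * y) = ∑ σ ∈ irrKer Q Q1, mlt Q f σ * σ s + (if s = 1 then (𝐨(S) : ℂ) else 0) *
      ∑ η ∈ (irrKer Q S).erase (cf1 Q), mlt Q f η * η y := by
  have hx : s * y ∈ Q := mul_mem (h.dp.le_left hs) (h.dp.le_right hy)
  rw [← res_of_mem f hx, apply_eq_sum_irr (res_mem_CF le_top (irr_mem_CF w.irr)), h.dp.sum_Irr,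
    Finset.sum_comm, ← Finset.add_sum_erase _ _ (cf1_mem_irrKer h.dp.le_left), ← h.sum_reg s hs,
    Finset.mul_sum]
  congr 1
  · refine Finset.sum_congr rfl fun σ hσ => ?_
    have iσ := irrKer_subset _ _ hσ
    rw [mul_cf1 (irr_mem_CF iσ), ip_res_left, mlt_eq w.ch iσ,
      apply_mul_of_mem_cfKer (irr_mem_CF iσ) ((mem_irrKer.1 hσ).2 hy)]
  · refine Finset.sum_congr rfl fun η hη => ?_
    obtain ⟨η1, hη⟩ := Finset.mem_erase.1 hη
    rw [Finset.sum_mul]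
    refine Finset.sum_congr rfl fun σ hσ => ?_
    have iσ := irrKer_subset _ _ hσ
    rw [ip_res_left, mlt_eq w.ch (h.dp.mul_mem_Irr hσ hη), h.mlt_mul w hη η1 hσ, Pi.mul_apply,
      apply_mul_of_mem_cfKer (irr_mem_CF iσ) ((mem_irrKer.1 hσ).2 hy), (mem_irrKer.1 hη).2 hs,
      irr_one_eq iσ]
    push_cast; ring

theorem val_mul {s y : G} (hs : s ∈ S) (s1 : s ≠ 1) (hy : y ∈ Q1) : f (s * y) = f s := by
  classical
  rw [h.expand w hs hy, ← mul_one s, h.expand w (mul_one s ▸ hs) (one_mem _), mul_one, if_neg s1,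
    zero_mul, zero_mul]

theorem big (ne : Q1 ≠ ⊥) : 𝐨(S) * 𝐨(K) ≤ dg f := by
  classical
  obtain ⟨η, hη, η0⟩ : ∃ η ∈ (irrKer Q S).erase (cf1 Q), mlt Q f η ≠ 0 := by
    by_contra! c
    refine ne (eq_bot_iff.2 ((h.faith f w.irr w.ne_one).1 ▸ fun y hy => w.ch.mem_cfKer_iff.2 ?_))
    have z : ∀ y, ∑ η ∈ (irrKer Q S).erase (cf1 Q), mlt Q f η * η y = 0 := fun y =>
      Finset.sum_eq_zero fun η hη => by rw [c η hη, Nat.cast_zero, zero_mul]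
    have e := h.expand w (one_mem _) hy
    have e' := h.expand w (one_mem _) (one_mem _)
    rw [z, one_mul] at e e'
    exact e.trans e'.symm
  obtain ⟨η1, hη⟩ := Finset.mem_erase.1 hη
  have e := h.expand w (one_mem _) (one_mem _)
  rw [one_mul, if_pos rfl, w.ch.one_eq, Finset.sum_congr rfl fun σ hσ => by
    rw [irr_one_eq (irrKer_subset _ _ hσ)], Finset.sum_congr (s₁ := Finset.erase _ _) rfl
    fun σ hσ => by rw [irr_one_eq (irrKer_subset _ _ (Finset.mem_of_mem_erase hσ))]] at e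
  have e' : dg f = ∑ σ ∈ irrKer Q Q1, mlt Q f σ * dg σ +
      𝐨(S) * ∑ η ∈ (irrKer Q S).erase (cf1 Q), mlt Q f η * dg η := by exact_mod_cast e
  rw [e']
  refine le_add_left (Nat.mul_le_mul_left _ ?_)
  have sub : cfClass K η ⊆ (irrKer Q S).erase (cf1 Q) := fun ψ hψ => by
    obtain ⟨g, hg, rfl⟩ := mem_cfClass.1 hψ
    refine Finset.mem_erase.2 ⟨fun c => η1 (cfConj_injective g ?_),
      cfConj_mem_irrKer hη (w.rg.nQ.2 (h.KH hg)) (h.nS (h.KH hg))⟩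
    rw [c, cfConj_cf1_of_norm (w.rg.nQ.2 (h.KH hg))]
  have cc : (cfClass K η).card = 𝐨(K) := by
    rw [card_cfClass, ← inf_relIndex_right, show inertia η ⊓ K = ⊥ from eq_bot_iff.2 fun g hg =>
      h.reg.disj.le ⟨h.inert hη η1 (h.KH hg.2) hg.1, hg.2⟩, relIndex_bot_left]
  rw [← cc, Finset.card_eq_sum_ones]
  refine (Finset.sum_le_sum fun ψ hψ => ?_).trans (Finset.sum_le_sum_of_subset sub)
  have iψ := irrKer_subset _ _ (Finset.mem_of_mem_erase (sub hψ))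
  refine Nat.mul_pos (Nat.pos_of_ne_zero ?_) (irr_dg_pos iψ)
  obtain ⟨g, hg, rfl⟩ := mem_cfClass.1 hψ
  rwa [mlt, ← cfConj_eq_self (irr_mem_CF w.irr) (mem_top g),
    ip_cfConj_of_norm (w.rg.nQ.2 (h.KH hg))]

omit w in
theorem dpA : DProd A Q1 (A ⊔ Q1) :=
  ⟨rfl, h.dp.cent.trans (cent_anti h.AS), eq_bot_iff.2 (h.dp.disj ▸ inf_le_inf_right _ h.AS)⟩

theorem alpha {a : ℤ} (ha : f t = a) : ((𝐨(K) + 1) * mlt (A ⊔ Q1) f (cf1 (A ⊔ Q1)) : ℤ) =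
    mlt Q1 f (cf1 Q1) + 𝐨(K) * a := by
  have e := sum_eq_mlt (L := A ⊔ Q1) w.ch
  rw [h.dpA.sum_eq, sum_fs_sharp, sum_fs_congr (A := sharp A) (g := fun _ => 𝐨(Q1) * (a : ℂ))
    fun b hb => by
      obtain ⟨g, rfl⟩ := h.cls b hb.1 hb.2
      rw [sum_fs_congr fun y hy => h.val_mul w (h.AS hb.1) hb.2 hy, sum_fs_const,
        CF_conj (irr_mem_CF w.irr) (mem_top g), ha, nsmul_eq_mul],
    Finset.sum_const, card_fs, ncard_sharp, h.dpA.card, h.cK, Nat.add_sub_cancel] at e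
  simp only [one_mul] at e
  rw [sum_eq_mlt w.ch, nsmul_eq_mul] at e
  push_cast at e
  have : ((𝐨(K) + 1) * mlt (A ⊔ Q1) f (cf1 (A ⊔ Q1)) : ℂ) = mlt Q1 f (cf1 Q1) + 𝐨(K) * a :=
    mul_left_cancel₀ (card_ne_zero_C Q1) (by linear_combination -e)
  exact_mod_cast this

theorem alpha_add : mlt (A ⊔ Q1) f (cf1 (A ⊔ Q1)) + mlt (A ⊔ Q1) f' (cf1 (A ⊔ Q1)) = 𝐨(K) + 2 := by
  have e1 := sum_eq_mlt (L := A ⊔ Q1) w.ch
  have e2 := sum_eq_mlt (L := A ⊔ Q1) w.symm.ch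
  have le : A ⊔ Q1 ≤ Q := sup_le (h.AS.trans h.dp.le_left) h.dp.le_right
  have e3 : ∑ x ∈ fs ((A ⊔ Q1 : Subgroup G) : Set G), (f x + f' x) =
      𝐨(Q) + 𝐨((A ⊔ Q1 : Subgroup G)) := by
    rw [sum_fs_sharp, sum_fs_congr fun x hx => w.add_Q (le hx.1) hx.2, Finset.sum_const, card_fs,
      ncard_sharp, nsmul_eq_mul, Nat.cast_sub Nat.card_pos, w.ch.one_eq, w.symm.ch.one_eq,
      ← Nat.cast_add, w.add_dg]
    push_cast; ring
  rw [Finset.sum_add_distrib, e1, e2, h.dp.card, h.cS, h.dpA.card, h.cK] at e3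
  have : (mlt (A ⊔ Q1) f (cf1 (A ⊔ Q1)) + mlt (A ⊔ Q1) f' (cf1 (A ⊔ Q1)) : ℂ) = 𝐨(K) + 2 :=
    mul_left_cancel₀ (mul_ne_zero (Nat.cast_add_one_ne_zero 𝐨(K)) (card_ne_zero_C Q1))
      (by push_cast at e3; linear_combination e3)
  exact_mod_cast this

theorem dvd (hK : K ≤ cfKer l) : (𝐨(K) : ℤ) ∣ dg f - 1 := by
  have e := sum_eq_mlt (L := K) w.ch
  rw [sum_fs_sharp, sum_fs_congr (g := fun _ => (1 : ℂ)) fun x hx => by
    rw [w.val_reg (h.KH hx.1) (h.reg x hx.1 hx.2), w.lm.lin.mem_cfKer_iff.1 (hK hx.1)],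
    Finset.sum_const, card_fs, ncard_sharp, nsmul_eq_mul, Nat.cast_sub Nat.card_pos,
    w.ch.one_eq] at e
  refine ⟨mlt K f (cf1 K) - 1, ?_⟩
  have : (dg f - 1 : ℂ) = 𝐨(K) * (mlt K f (cf1 K) - 1) := by
    push_cast at e; linear_combination e
  exact_mod_cast this

theorem false (hK : K ≤ cfKer l) (od : ∀ x ∈ H, l x ^ 2 = 1 → l x = 1) : False := by
  have tQ := h.dp.le_left (h.AS h.tA)
  obtain ⟨a, ha⟩ := val_int w.ch h.t1 h.tt
  obtain ⟨a', ha'⟩ := val_int w.symm.ch h.t1 h.tt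
  have s := w.str od tQ h.t1 h.tt
  have ad := w.add_Q tQ h.t1
  rw [ha, ha'] at s ad
  replace s : a ^ 2 * dg f' + a' ^ 2 * dg f = dg f * dg f' := by exact_mod_cast s
  replace ad : a + a' = 1 := by exact_mod_cast ad
  have e1 := h.alpha w ha
  have e2 := h.alpha w.symm ha'
  have e3 := h.alpha_add w
  by_cases ne : Q1 = ⊥
  · have g : ∀ {f : G → ℂ}, IsChar ⊤ f → mlt Q1 f (cf1 Q1) = dg f := fun {f} hf => by
      have := sum_eq_mlt (L := Q1) hf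
      rw [ne, coe_bot, sum_fs_singleton, hf.one_eq, card_bot, Nat.cast_one, one_mul] at this
      rw [ne]
      exact_mod_cast this.symm
    have d := w.add_dg
    rw [h.dp.card, h.cS, h.cK, ne, card_bot, mul_one] at d
    rw [g w.ch] at e1
    rw [g w.symm.ch] at e2
    rcases le_total (mlt (A ⊔ Q1) f (cf1 (A ⊔ Q1))) (mlt (A ⊔ Q1) f' (cf1 (A ⊔ Q1))) with c | c
    · exact E4.num1 h.k7 h.ko ad d s e1 e3 (h.dvd w hK) c (h.faith f w.irr w.ne_one).2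
    · exact E4.num1 h.k7 h.ko (by rw [add_comm, ad]) (by rw [add_comm, d])
        (by rw [add_comm, s, mul_comm]) e2 (by rw [add_comm, e3]) (h.dvd w.symm hK) c
        (h.faith f' w.irr' w.symm.ne_one).2
  · have b := h.big w ne
    have b' := h.big w.symm ne
    rw [h.cS, h.cK] at b b'
    exact E4.num2 h.k7 ad s e1 e2 e3 b b'

end Sx3

end Cfsg.Agent.P14
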