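/-
P18, endgame, characters (port of `P14/E4x3`).
-/
import Cfsg.Agent.P18.E4b
import Cfsg.Agent.P18.E2a

set_option autoImplicit false
set_option linter.unusedSectionVars false

namespace Cfsg.Agent.P14

open Subgroup Cfsg Cfsg.Agent Cfsg.Agent.FT MulAction
open Cfsg.Agent.P6

universe u

variable {G Ω : Type u} [Group G] [Finite G] [MulAction G Ω]

theorem Ns.faith (h : Ns G Ω) {χ : G → ℂ} (hχ : χ ∈ Irr (⊤ : Subgroup G)) (h1 : χ ≠ cf1 ⊤) :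
    cfKer χ = ⊥ ∧ dg χ ≠ 1 :=
  ⟨by_contra fun c => h.norm_ne_top c (fun e => h1 ((irr_eq_cf1_iff hχ).2 e.ge))
    (top_le_iff.1 (le_norm_cfKer (irr_mem_CF hχ))), mt (P5.eq_cf1_of_dg h.not_comm hχ) h1⟩

namespace Bp3

variable {α β : Ω} {Q : Subgroup G} (h : Bp3 α β Q)
include h

theorem rg : Rg (stabilizer G α) Q := by
  refine ⟨⟨h.QH, h.norm⟩, fun g hg x hx => ?_, fun g z hz z1 c => by_contra fun hg => z1 ?_,
    h.index_eq⟩
  · obtain ⟨z, hz, e⟩ := h.tr (g • α) hg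
    obtain ⟨w, hw, e'⟩ := h.tr (x • g • α) fun c => hg (by
      rw [mem_stabilizer_iff, ← smul_left_cancel_iff x, c, hx])
    refine ⟨z * w⁻¹, mul_mem hz (inv_mem hw), ?_⟩
    rw [mem_stabilizer_iff, mul_smul, mul_smul, mul_smul, mul_smul, ← e', inv_smul_smul, e,
      inv_smul_smul]
  · refine h.free' hz hg ?_
    rwa [mem_stabilizer_iff, mul_smul, mul_smul, inv_smul_eq_iff] at c

theorem exists_lm {u : G} (hu : Inv u) (eu : u • α = β) {K : Subgroup G}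
    (hK : ∀ k, k ∈ K ↔ k ∈ St2 G α β ∧ u * k * u = k⁻¹) (ne : K ≠ St2 G α β) :
    ∃ l, Lm (stabilizer G α) Q l ∧ l ≠ cf1 (stabilizer G α) ∧ K ≤ cfKer l ∧
      ∀ x ∈ stabilizer G α, l x ^ 2 = 1 → l x = 1 := by
  have eu' : u • β = α := by rw [← eu, ← mul_smul, hu.sq, one_smul]
  have uD : ∀ d ∈ St2 G α β, u * d * u ∈ St2 G α β := fun d hd =>
    mem_St2.2 ⟨by rw [mul_smul, mul_smul, eu, hd.2, eu'], by rw [mul_smul, mul_smul, eu', hd.1, eu]⟩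
  have dK : ∀ d ∈ St2 G α β, d⁻¹ * (u * d * u) ∈ K := fun d hd =>
    (hK _).2 ⟨mul_mem (inv_mem hd) (uD d hd), by simp [mul_assoc, hu.sq, hu.inv_eq]⟩
  have KD : K ≤ St2 G α β := fun k hk => ((hK k).1 hk).1
  have cm : ∀ k ∈ K, ∀ k' ∈ K, k * k' = k' * k := fun k hk k' hk' => by
    have := ((hK _).1 (mul_mem hk hk')).2
    rw [show u * (k * k') * u = u * k * u * (u * k' * u) by
      simp [mul_assoc, hu.mul_cancel_left], ((hK _).1 hk).2, ((hK _).1 hk').2] at this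
    rw [← inv_inj, ← this, mul_inv_rev]
  have nK : K ⊲ St2 G α β := ⟨KD, fun d hd => mem_normalizer_fintype fun k hk => (hK _).2
    ⟨mul_mem (mul_mem hd (KD hk)) (inv_mem hd), by
      have e := cm _ (dK d hd) _ (inv_mem hk)
      rw [← ((hK k).1 hk).2] at e
      calc _ = d * (d⁻¹ * (u * d * u) * (u * k * u)) * (d⁻¹ * (u * d * u))⁻¹ * d⁻¹ := by
            simp [mul_assoc, hu.mul_cancel_left, hu.inv_eq]
        _ = _ := by rw [e, ((hK k).1 hk).2]; group⟩⟩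
  obtain ⟨l0, h0, k0, d, hd, n0⟩ := P5.exists_lin (P5.isSolvable_of_odd (h.se.odd_St2 h.ne)) nK ne
  obtain ⟨l, hl, rfl⟩ := h.sd.exists_irrKer_res h0.mem_Irr
  obtain ⟨il, kl⟩ := mem_irrKer.1 hl
  have lin : IsLin (stabilizer G α) l :=
    (irr_isChar il).isLin (by rw [← res_of_mem l (one_mem (St2 G α β)), h0.2.1])
  have kK : K ≤ cfKer l := ((irr_isChar il).le_cfKer_res_iff KD inf_le_left).1 k0
  refine ⟨l, ⟨lin, kl, fun g x hx c => ?_⟩, fun e => n0 ?_, kK, fun x hx e => ?_⟩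
  · by_cases hg : g ∈ stabilizer G α
    · exact CF_conj' lin.mem_CF hg x
    obtain ⟨z, hz, e⟩ := h.tr (g • α) hg
    have y1 : u * z⁻¹ * g ∈ stabilizer G α := by
      rw [mem_stabilizer_iff, mul_smul, mul_smul, ← e, inv_smul_smul, eu']
    have y2 : z⁻¹ * x * z ∈ St2 G α β := mem_inf.2
      ⟨mul_mem (mul_mem (inv_mem (h.QH hz)) hx) (h.QH hz), by
        rw [mem_stabilizer_iff, mul_smul, mul_smul, inv_smul_eq_iff] at c
        rw [mem_stabilizer_iff, mul_smul, mul_smul, e, c, ← e, inv_smul_smul]⟩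
    rw [show g⁻¹ * x * g = (u * z⁻¹ * g)⁻¹ *
        (z⁻¹ * x * z * ((z⁻¹ * x * z)⁻¹ * (u * (z⁻¹ * x * z) * u))) * (u * z⁻¹ * g) by
        simp [mul_assoc, hu.mul_cancel_left, hu.inv_eq], CF_conj' lin.mem_CF y1,
      apply_mul_of_mem_cfKer lin.mem_CF (kK (dK _ y2)), CF_conj' lin.mem_CF (h.QH hz)]
  · rw [res_of_mem _ hd, e, cf1_of_mem hd.1]
  · obtain ⟨z, hz, d, hd, rfl⟩ := h.sd.mem_iff.1 hx
    rw [kl hz] at e ⊢
    obtain ⟨n, hn⟩ := odd_orderOf_of_mem (h.se.odd_St2 h.ne) hd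
    have := lin.pow_card hd.1
    rwa [hn, pow_succ, pow_mul, e, one_pow, one_mul] at this

end Bp3

theorem e4Stmt3 : E4Stmt3.{u} := by
  intro G Ω _ _ _ α β Q h hS hD a ha a1
  by_contra V1
  obtain ⟨u, hu, eu⟩ := h.mc.exists_J h.ne
  obtain ⟨K, hK, cK, fr⟩ := h.exists_K hu eu
  have KD : K ≤ St2 G α β := fun k hk => ((hK k).1 hk).1
  obtain ⟨l, m, l1, kl, od⟩ := h.exists_lm hu eu hK fun e =>
    V1 (e ▸ fr.reg.symm a (h.Ale ha) a1)
  obtain ⟨f, f', w⟩ := h.rg.exists_two m l1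
  have dp := dProd_pCoreOf_of_isNilpotent Nat.prime_two h.nil
  have n1 : stabilizer G α ≤ 𝐍(H7.SC.od Q) := h.norm.trans (norm_le_norm_Od Q)
  have AS : Av G α ≤ pCoreOf 2 Q :=
    le_pCoreOf ⟨h.Ale, h.QH.trans (h.mc.norm_A α)⟩ (elemAb_isPGroup (h.mc.elem α))
  have e8 := h.eight α
  have nosq : ∀ d : ℕ, d ^ 2 ≠ 𝐨(Av G α) := fun d e => by
    obtain ⟨n, hn, -, cA⟩ := h.mc.card_A' α
    obtain ⟨j, -, rfl⟩ := (Nat.dvd_prime_pow Nat.prime_two).1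
      (cA ▸ e ▸ dvd_pow_self d two_ne_zero : d ∣ 2 ^ n)
    rw [cA, ← pow_mul] at e
    rw [← Nat.pow_right_injective le_rfl e, Nat.odd_iff] at hn
    omega
  refine Sx3.false (K := K) (A := Av G α) (t := a) ⟨dp,
    h.norm.trans (H2.normalizer_le_normalizer_pCoreOf 2 Q), n1, AS, h.le, hS,
    (H1.commutator_lt_of_isSolvable (isSolvable_of_isNilpotent (isNilpotent_of_le dp.le_left h.nil))
      fun e => h.mc.A_ne α (eq_bot_iff.2 (e ▸ AS))).ne,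
    fun g hg hQ => eq_bot_iff.2 fun z hz => by_contra fun z1 => hQ ?_, ha, a1, h.mc.sq ha,
    fun b hb b1 => ?_, KD.trans inf_le_left, by omega, odd_of_le KD (h.se.odd_St2 h.ne), by omega,
    fr.reg, nosq, fun χ => h.mc.faith⟩ w kl od
  · have fD : Frob (H7.SC.od Q) (St2 G α β) := ⟨fun e => z1 (e ▸ hz.1),
      fun e => fr.ne_botR (eq_bot_iff.2 (e ▸ KD)), inf_le_left.trans n1, hD⟩
    obtain ⟨w, hw, d, hd, rfl⟩ := h.sd.mem_iff.1 hg
    obtain ⟨b, hb, y, hy, rfl⟩ := dp.mem_iff.1 hw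
    have := mul_mem (inv_mem (mem_cent1.2 (dp.commute hb hz.1).symm.eq))
      (mem_cent1_comm.1 hz.2)
    rw [mul_assoc, inv_mul_cancel_left] at this
    rw [mul_assoc]
    exact mul_mem (dp.le_left hb) (dp.le_right (fD.cent1_le hz.1 z1 ⟨mul_mem_sup hy hd, this⟩))
  · obtain ⟨d, -, e⟩ := (h.mc.gl1 h.ne).trans a ha a1 b hb b1
    exact ⟨d, e⟩

end Cfsg.Agent.P14
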