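/-
P18, chapter C: assembly.
-/
import Cfsg.Agent.P18.C5
import Cfsg.Agent.P18.CS
import Cfsg.Agent.P18.CT
import Cfsg.Agent.P18.CB3
import Cfsg.Agent.P18.E5

set_option autoImplicit false

namespace Cfsg.Agent.P18

open Subgroup Cfsg Cfsg.Agent Cfsg.Agent.FT Cfsg.Agent.P14
open Cfsg.Agent.P14.St (I3)

universe u

/-- `SL₂` in characteristic two has a real element of order three. -/
theorem not_i3_sl2 (F : Type) [Field F] [CharP F 2] :
    ¬ I3 (Matrix.SpecialLinearGroup (Fin 2) F) := by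
  intro h
  have h2 : (1 : F) + 1 = 0 := CharTwo.add_self_eq_zero 1
  let x : Matrix.SpecialLinearGroup (Fin 2) F :=
    ⟨!![0, 1; 1, 1], by simp [Matrix.det_fin_two, CharTwo.neg_eq]⟩
  let g : Matrix.SpecialLinearGroup (Fin 2) F :=
    ⟨!![0, 1; 1, 0], by simp [Matrix.det_fin_two, CharTwo.neg_eq]⟩
  have h3 := h x g (Subtype.ext (by
    rw [pow_three]
    change (!![0, 1; 1, 1] * (!![0, 1; 1, 1] * !![0, 1; 1, 1]) : Matrix _ _ F) = 1
    simp [h2, Matrix.one_fin_two])) (by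
    rw [mul_inv_eq_iff_eq_mul, eq_inv_mul_iff_mul_eq]
    refine Subtype.ext ?_
    change (!![0, 1; 1, 1] * (!![0, 1; 1, 0] * !![0, 1; 1, 1]) : Matrix _ _ F) = !![0, 1; 1, 0]
    simp [h2])
  simpa [x] using congrArg (fun y : Matrix.SpecialLinearGroup (Fin 2) F => y 0 1) h3

theorem ztg_not_three {G : Type u} [Group G] [Finite G] (h : ZTG G) (h3 : I3 G) :
    ¬ 3 ∣ Nat.card G := by
  obtain ⟨Q, H, t, h⟩ := h
  rcases h.main with ⟨n, -, -, -, -, ⟨e⟩, -⟩ | ⟨m, -, h4, h5, -⟩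
  · exact absurd (h3.of_injective e.symm.toMonoidHom e.symm.injective) (not_i3_sl2 _)
  · rw [h.card_G, h4, h5]
    have h6 : 2 ^ (2 * m + 1) % 3 = 2 := by rw [pow_succ, pow_mul, Nat.mul_mod, Nat.pow_mod]; simp
    generalize 2 ^ (2 * m + 1) = q at h6
    have h7 : q ^ 2 % 3 = 1 := by rw [Nat.pow_mod, h6]
    simp only [Nat.prime_three.dvd_mul]
    omega

theorem cStmt : CStmt.{u} := fun _ _ _ hs h3 hk _ _ h => by
  obtain ⟨_, h0⟩ := C.exists_nin0 hs h3 hk h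
  exact ztg_not_three (h0.nin.mc C.caseB3).ztg h3

/-- A strongly closed four-group whose normalizer and centralizers lie in a proper subgroup. -/
theorem not_four {G : Type u} [Group G] [Finite G] (h3 : I3 G) {A M : Subgroup G}
    (el : IsElementaryAbelian 2 A) (h4 : 𝐨(A) = 4) (sc : SC ⊤ A) (ne : M ≠ ⊤) (nrm : 𝐍(A) ≤ M)
    (cent : ∀ a ∈ A, a ≠ 1 → 𝐂[a] ≤ M) : False :=
  C.C4.not_four ⟨el, sc, ne, nrm, cent⟩ h3 h4

end Cfsg.Agent.P18
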