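/-
P18, chapter F: operator groups without fixed points, reduction to simple groups.
-/
import Cfsg.Agent.P14.CB1
import Cfsg.Agent.H8.PComplement
import Cfsg.Agent.H1.Semidirect

set_option autoImplicit false
set_option linter.unusedSectionVars false
set_option linter.style.haveILetI false

namespace Cfsg.Agent.P18.F

open Subgroup Cfsg Cfsg.Agent Cfsg.Agent.FT Cfsg.Agent.H2 Cfsg.Agent.P14
open scoped commutatorElement

universe u

variable {Γ : Type*} [Group Γ] [Finite Γ]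

/-- `A` has a normal `p`-complement for every prime divisor `p` of `n`. -/
def PN (n : ℕ) (A : Type*) [Group A] : Prop := ∀ p : ℕ, p.Prime → p ∣ n → HasNormalPComplement p A

theorem PN.dvd {m n : ℕ} {A : Type*} [Group A] (h : PN n A) (e : m ∣ n) : PN m A :=
  fun p hp hd => h p hp (hd.trans e)

theorem PN.surj {n : ℕ} {A B : Type*} [Group A] [Finite A] [Group B] (h : PN n A) (f : A →* B)
    (hf : Function.Surjective f) : PN n B := fun p hp hd =>
  haveI := Fact.mk hp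
  H8.hasNPC_of_surjective (h p hp hd) f hf

theorem PN.inj {n : ℕ} {A B : Type*} [Group A] [Finite A] [Group B] (h : PN n A) (f : B →* A)
    (hf : Function.Injective f) : PN n B := fun p hp hd =>
  haveI := Fact.mk hp
  H8.hasNPC_of_injective (h p hp hd) f hf

theorem exists_compl {p : ℕ} (hp : p.Prime) {A : Subgroup Γ} (h : HasNormalPComplement p A) :
    ∃ L, L ⊲ A ∧ 𝐨(L).Coprime p ∧ ∀ a ∈ A, ∃ k, a ^ p ^ k ∈ L := by
  haveI := Fact.mk hp
  obtain ⟨N, hN, hc, k, hk⟩ := H8.hasNPC_iff_exists.1 h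
  refine ⟨N.map A.subtype, ⟨map_subtype_le _, fun a ha => ?_⟩, ?_, fun a ha => ⟨k, ?_⟩⟩
  · refine mem_normalizer_fintype ?_
    rintro _ ⟨n, hn, rfl⟩
    exact ⟨_, hN.conj_mem n hn ⟨a, ha⟩, rfl⟩
  · rwa [card_map_of_injective A.subtype_injective]
  · exact ⟨_, hk ▸ N.pow_index_mem ⟨a, ha⟩, rfl⟩

/-- A group acting as a `p`-group on a group of order divisible by `p` has a fixed point. -/
theorem fix {p : ℕ} (hp : p.Prime) {N A : Subgroup Γ} (hA : A ≤ 𝐍(N)) (hd : p ∣ 𝐨(N))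
    (h : ∀ a ∈ A, ∃ k, a ^ p ^ k ∈ 𝐂(N)) : N ⊓ 𝐂(A) ≠ ⊥ := by
  haveI := Fact.mk hp
  have h1 : IsPGroup p (H1.conjAut hA).range := by
    rintro ⟨_, a, rfl⟩
    obtain ⟨k, hk⟩ := h a a.2
    exact ⟨k, Subtype.ext (by
      rw [SubgroupClass.coe_pow, ← map_pow]
      exact (H1.mem_ker_conjAut hA).2 hk)⟩
  obtain ⟨b, hb, b1⟩ := h1.exists_fixed_point_of_prime_dvd_card_of_fixed_point N hd (a := 1)
    fun g => smul_one g
  refine ne_bot_iff_exists_ne_one.2 ⟨⟨b, b.2, mem_cent.2 fun a ha => ?_⟩, fun e => b1 ?_⟩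
  · have h2 := congrArg Subtype.val (hb ⟨_, ⟨a, ha⟩, rfl⟩)
    exact (mul_inv_eq_iff_eq_mul.1 h2 : a * b = b * a)
  · exact Subtype.ext (congrArg Subtype.val e).symm

/-- Passing to the quotient by a normal `p`-subgroup. -/
theorem quot {p : ℕ} (hp : p.Prime) {G A N : Subgroup Γ} [N.Normal] (hN : IsPGroup p N)
    (hG : N ≤ G) (h : HasNormalPComplement p A) (hf : G ⊓ 𝐂(A) = ⊥) :
    G.map (QuotientGroup.mk' N) ⊓ 𝐂(A.map (QuotientGroup.mk' N)) = ⊥ := by
  haveI := Fact.mk hp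
  obtain ⟨L, hL, hc, hk⟩ := exists_compl hp h
  have nL : A ≤ 𝐍(𝐂(L)) := H1.le_normalizer_centralizer hL.2
  have h1 : N ⊓ 𝐂(L) = ⊥ := by
    by_contra h0
    refine fix hp (N := N ⊓ 𝐂(L)) (H1.le_normalizer_inf le_normalizer_of_normal nL)
      ((hN.to_le inf_le_left).card_eq_or_dvd.resolve_left fun e => h0 (card_eq_one.1 e))
      (fun a ha => (hk a ha).imp fun k e => cent_comm.1 inf_le_right e)
      (eq_bot_iff.2 (hf ▸ inf_le_inf_right _ (inf_le_left.trans hG)))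
  rw [eq_bot_iff]
  rintro _ ⟨⟨x, hx, rfl⟩, h2⟩
  have h3 := cent_anti (map_mono hL.1) h2
  rw [H1.centralizer_map_mk' N (H1.coprime_card_of_isPGroup hN hc)
    (Or.inr (H1.isSolvable_of_isPGroup hN))] at h3
  obtain ⟨c, hc1, e⟩ := h3
  have h4 : c ∈ G := by
    have := hG (QuotientGroup.eq.1 e)
    rwa [mul_mem_cancel_right hx, inv_mem_iff] at this
  have h5 : c ∈ G ⊓ 𝐂(A) := mem_inf.2 ⟨h4, mem_cent.2 fun a ha => ?_⟩
  · rw [hf, mem_bot] at h5
    rw [← e, h5, map_one]; exact one_mem _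
  · have h6 : ⁅a, c⁆ ∈ N ⊓ 𝐂(L) := by
      refine mem_inf.2 ⟨?_, ?_⟩
      · rw [← QuotientGroup.ker_mk' N, MonoidHom.mem_ker, map_commutatorElement, e,
          commutatorElement_eq_one_iff_commute]
        exact mem_cent.1 h2 _ ⟨a, ha, rfl⟩
      · exact mul_mem ((mem_normalizer_iff.1 (nL ha) c).1 hc1) (inv_mem hc1)
    rw [h1, mem_bot] at h6
    exact commutatorElement_eq_one_iff_commute.1 h6

/-- Passing to a component. -/
theorem comp {G A K : Subgroup Γ} (hA : A ≤ 𝐍(G)) (hK : CompIn G K) (hZ : K ⊓ 𝐂(K) = ⊥)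
    (hf : G ⊓ 𝐂(A) = ⊥) : K ⊓ 𝐂((A ⊓ 𝐍(K) : Subgroup Γ)) = ⊥ := by
  classical
  rw [eq_bot_iff]
  rintro y ⟨hy, hc⟩
  let O : Finset Γ := (Set.toFinite {z | ∃ a ∈ A, a * y * a⁻¹ = z}).toFinset
  have hO : ∀ z, z ∈ O ↔ ∃ a ∈ A, a * y * a⁻¹ = z := fun z => Set.Finite.mem_toFinset _
  have cK : ∀ a ∈ A, CompIn G (K ^ᵍ a) := fun a ha => hK.conj_of_mem_normalizer (hA ha)
  have key : ∀ a ∈ A, ∀ b ∈ A, a * y * a⁻¹ ≠ b * y * b⁻¹ → K ^ᵍ a ≤ 𝐂(K ^ᵍ b) := by
    intro a ha b hb h0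
    refine (cK a ha).le_centralizer_of_ne (cK b hb) fun e => h0 ?_
    have h1 : b⁻¹ * a ∈ 𝐍(K) := by
      rw [← conj_eq_self_iff, ← conj_conj, e, conj_conj, inv_mul_cancel, conj_one]
    have h2 := mem_cent.1 hc _ (mem_inf.2 ⟨mul_mem (inv_mem hb) ha, h1⟩)
    calc _ = b * (b⁻¹ * a * y) * a⁻¹ := by group
      _ = _ := by rw [h2]; group
  have cm : {x | x ∈ O.1}.Pairwise Commute := by
    intro v hv w hw e
    obtain ⟨a, ha, rfl⟩ := (hO v).1 hv
    obtain ⟨b, hb, rfl⟩ := (hO w).1 hw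
    exact (mem_cent.1 (key a ha b hb e (conj_mem_conj hy a)) _ (conj_mem_conj hy b)).symm
  have h1 : O.1.noncommProd cm ∈ G ⊓ 𝐂(A) := by
    refine mem_inf.2 ⟨Multiset.noncommProd_induction _ _ (· ∈ G) (fun _ _ => mul_mem) (one_mem _)
      fun v hv => ?_, mem_cent.2 fun c hc => ?_⟩
    · obtain ⟨a, ha, rfl⟩ := (hO v).1 hv
      exact (cK a ha).le (conj_mem_conj hy a)
    · have h2 := Multiset.map_noncommProd O.1 cm (MulAut.conj c)
      have h3 : O.1.map (MulAut.conj c) = O.1 := by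
        refine (Multiset.Nodup.ext (O.2.map (MulAut.conj c).injective) O.2).2 fun v => ?_
        rw [Multiset.mem_map]
        refine ⟨fun ⟨w, hw, e⟩ => ?_, fun hv => ?_⟩
        · obtain ⟨a, ha, rfl⟩ := (hO w).1 hw
          exact (hO v).2 ⟨c * a, mul_mem hc ha, by rw [← e, MulAut.conj_apply]; group⟩
        · obtain ⟨a, ha, rfl⟩ := (hO v).1 hv
          exact ⟨_, (hO _).2 ⟨c⁻¹ * a, mul_mem (inv_mem hc) ha, rfl⟩, by
            rw [MulAut.conj_apply]; group⟩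
      simp only [h3] at h2
      exact (mul_inv_eq_iff_eq_mul.1 h2 : c * _ = _ * c)
  have yO : y ∈ O.1 := (hO y).2 ⟨1, one_mem _, by group⟩
  rw [hf, mem_bot, ← Multiset.mul_noncommProd_erase O.1 yO cm] at h1
  rw [← hZ]
  refine mem_inf.2 ⟨hy, ?_⟩
  rw [eq_inv_of_mul_eq_one_left h1, inv_mem_iff]
  refine Multiset.noncommProd_induction _ _ (· ∈ 𝐂(K)) (fun _ _ => mul_mem) (one_mem _)
    fun v hv => ?_
  obtain ⟨v1, hv⟩ := O.2.mem_erase_iff.1 hv
  obtain ⟨a, ha, rfl⟩ := (hO v).1 hv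
  have h4 := key a ha 1 (one_mem _) (by simpa using v1)
  rw [conj_one] at h4
  exact h4 (conj_mem_conj hy a)

/-- Groups of automorphisms missing the inner ones are cyclic, and some class is invariant. -/
def OC (L : Type u) [Group L] : Prop :=
  (∀ B : Subgroup (MulAut L), PN (Nat.card L) B → B ⊓ (MulAut.conj : L →* _).range = ⊥ →
    IsCyclic B) ∧ ∃ t : L, t ≠ 1 ∧ ∀ φ : MulAut L, IsConj t (φ t)

theorem simple_false {L : Type u} [Group L] [Finite L] (hZ : center L = ⊥) (h : OC L)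
    {B : Subgroup (MulAut L)} (hB : PN (Nat.card L) B)
    (hf : ∀ x : L, (∀ b ∈ B, b x = x) → x = 1) : False := by
  set I := (MulAut.conj : L →* _).range
  have cj : ∀ (b : MulAut L) g, b * MulAut.conj g * b⁻¹ = MulAut.conj (b g) := fun b g => by
    ext x; simp
  have inj : Function.Injective (MulAut.conj : L →* _) := (injective_iff_map_eq_one _).2
    fun g e => mem_bot.1 (hZ ▸ mem_center_iff.2 fun x =>
      (mul_inv_eq_iff_eq_mul.1 (DFunLike.congr_fun e x)).symm)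
  have nI : I.Normal := ⟨by rintro _ ⟨g, rfl⟩ b; exact ⟨_, (cj b g).symm⟩⟩
  have h1 : B ⊓ I = ⊥ := by
    by_contra h0
    obtain ⟨N, ⟨N1, NM, nN⟩, hm⟩ := exists_minimal_of_wellFoundedLT
      (fun N : Subgroup (MulAut L) => N ≠ ⊥ ∧ N ≤ B ⊓ I ∧ B ≤ 𝐍(N))
      ⟨_, h0, le_rfl, H1.le_normalizer_inf (le_norm_self B) le_normalizer_of_normal⟩
    obtain ⟨p, hp, hd⟩ := Nat.exists_prime_and_dvd (mt card_eq_one.1 N1)
    obtain ⟨C, hC, hc, hk⟩ := exists_compl hp (hB p hp (hd.trans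
      ((FT.card_dvd_of_le (NM.trans inf_le_right)).trans (card_range_dvd _))))
    have h2 : N ⊓ C = ⊥ := by
      by_contra h3
      have h4 := hm ⟨h3, inf_le_left.trans NM, H1.le_normalizer_inf nN hC.2⟩ inf_le_left
      exact hp.ne_one (Nat.eq_one_of_dvd_coprimes hc
        (hd.trans (FT.card_dvd_of_le (h4.trans inf_le_right))) dvd_rfl)
    have h3 : C ≤ 𝐂(N) := 
      le_cent_of_norm_of_disj (hC.1.trans nN) ((NM.trans inf_le_left).trans hC.2) h2
    obtain ⟨⟨n, hn, c⟩, n1⟩ := ne_bot_iff_exists_ne_one.1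
      (fix hp nN hd fun a ha => (hk a ha).imp fun _ e => h3 e)
    obtain ⟨g, rfl⟩ := (NM hn).2
    refine n1 (Subtype.ext ?_)
    obtain rfl := hf g fun b hb => inj (by
      rw [← cj, mem_cent.1 c b hb, mul_inv_cancel_right])
    exact map_one _
  obtain ⟨α, hα⟩ := isCyclic_iff_exists_zpowers_eq_top.1 (h.1 B hB h1)
  obtain ⟨t, t1, ht⟩ := h.2
  have h2 : MonoidHom.FixedPointFree (α : MulAut L) := fun x e => hf x fun b hb => by
    obtain ⟨k, hk⟩ : (⟨b, hb⟩ : B) ∈ zpowers α := hα ▸ mem_top _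
    obtain rfl : (α : MulAut L) ^ k = b := congrArg Subtype.val hk
    exact zpow_mem (show (α : MulAut L) ∈ MulAction.stabilizer (MulAut L) x from e) k
  obtain ⟨g, hg⟩ := isConj_iff.1 (ht α)
  obtain ⟨y, hy⟩ := h2.commutatorMap_surjective g⁻¹
  rw [MonoidHom.commutatorMap_apply, div_eq_mul_inv] at hy
  have h3 : (α : MulAut L) y = g * y := by
    rw [← inv_inj, mul_inv_rev, ← hy, inv_mul_cancel_left]
  refine t1 ?_
  have h4 := h2 (y⁻¹ * t * y) (by rw [map_mul, map_mul, map_inv, h3, ← hg]; group)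
  simpa [mul_assoc, inv_mul_eq_one] using h4

theorem solv (h : ∀ (L : Type u) [Group L] [Finite L], St.I3 L → IsSimpleGroup L →
    ¬ IsMulCommutative L → OC L) (n : ℕ) : ∀ (Γ : Type u) [Group Γ] [Finite Γ]
    (G A : Subgroup Γ) [G.Normal], 𝐨(G) = n → St.I3 G → PN n A → G ⊓ 𝐂(A) = ⊥ →
    Group.IsSolvable G := by
  induction n using Nat.strong_induction_on with | _ n ih => ?_
  intro Γ _ _ G A _ hn h3 hA hf
  by_cases h0 : ∃ p : Nat.Primes, pCoreOf p G ≠ ⊥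
  · obtain ⟨⟨p, hp⟩, h0⟩ := h0
    haveI := Fact.mk hp
    set N := pCoreOf p G
    have hN : IsPGroup p N := isPGroup_pCoreOf p G
    have NG : N ≤ G := pCoreOf_le p G
    haveI : N.Normal := normalizer_eq_top_iff.1 (eq_top_iff.2
      (le_normalizer_of_normal.trans (normalizer_le_normalizer_pCoreOf p G)))
    haveI := H1.isSolvable_of_isPGroup hN
    haveI : (G.map (QuotientGroup.mk' N)).Normal :=
      Normal.map inferInstance _ (QuotientGroup.mk'_surjective N)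
    have hd : p ∣ n := hn ▸ (hN.card_eq_or_dvd.resolve_left
      fun e => h0 (card_eq_one.1 e)).trans (FT.card_dvd_of_le NG)
    refine L.isSolvable_of_map_mk' N G (ih _ ?_ _ _ (A.map (QuotientGroup.mk' N)) rfl
      (h3.of_surjective _ ((QuotientGroup.mk' N).subgroupMap_surjective G))
      ((hA.surj _ ((QuotientGroup.mk' N).subgroupMap_surjective A)).dvd (hn ▸ card_map_dvd _ _))
      (quot hp hN NG (hA p hp hd) hf))
    have h1 := H1.card_mul_relIndex NG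
    have h2 : 1 < 𝐨(N) := (one_lt_card_iff_ne_bot N).2 h0
    rw [← relIndex_ker, QuotientGroup.ker_mk', ← hn, ← h1]
    exact lt_mul_of_one_lt_left (Nat.pos_of_ne_zero index_ne_zero_of_finite) h2
  have hF : fittingOf G = ⊥ := by
    rw [fittingOf_eq_iSup_pCoreOf, iSup_eq_bot]
    exact fun p => by_contra fun e => h0 ⟨p, e⟩
  by_cases G1 : G = ⊥
  · rw [G1]; infer_instance
  obtain ⟨K, hK, -⟩ := exists_compIn_le_of_le_centralizer (H := G) (C := G) SnIn.refl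
    (by rw [hF]; exact fun x _ => mem_cent.2 (by simp)) (by simpa [hF] using G1)
  have hZ : K ⊓ 𝐂(K) = ⊥ := eq_bot_iff.2 (hF ▸ hK.inf_centralizer_le_fittingOf)
  have hZ' := (center_eq_bot_iff_inf_centralizer K).2 hZ
  have h1 := comp le_normalizer_of_normal hK hZ hf
  refine (simple_false hZ' (h K (h3.of_injective _ (inclusion_injective hK.le))
    (isSimpleGroup_of_isQuasisimple hK.2 hZ') (QS.not_isMulCommutative hK.2))
    (B := (H1.conjAut (inf_le_right : A ⊓ 𝐍(K) ≤ _)).range)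
    (((hA.inj _ (inclusion_injective inf_le_left)).surj _
      (MonoidHom.rangeRestrict_surjective _)).dvd (hn ▸ FT.card_dvd_of_le hK.le)) fun x hx => ?_).elim
  refine Subtype.ext (mem_bot.1 (h1 ▸ mem_inf.2 ⟨x.2, mem_cent.2 fun a ha => ?_⟩))
  exact (mul_inv_eq_iff_eq_mul.1 (congrArg Subtype.val (hx _ ⟨⟨a, ha⟩, rfl⟩)) : a * x = x * a)

end Cfsg.Agent.P18.F
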