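/-
P18, chapter F: the outer automorphism groups of `Sz(q)` and `PSL₂(q)`, `q ≡ 3 (mod 8)`, are cyclic.
-/
import Cfsg.Agent.P18.F1
import Cfsg.Agent.P14.Z2
import Cfsg.Agent.P7.L2Main
import Cfsg.Agent.P7.K1

set_option autoImplicit false
set_option linter.unusedSectionVars false
set_option linter.style.haveILetI false

namespace Cfsg.Agent.P18.F

open Subgroup Cfsg Cfsg.Agent Cfsg.Agent.FT Cfsg.Agent.P14

universe u

theorem cyc_of_graph {G C : Type*} [Group G] [Group C] [IsCyclic C] {K : Subgroup G} [K.Normal]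
    (Δ : Subgroup (G × C)) (h1 : ∀ x ∈ Δ, x.2 = 1 → x.1 = 1)
    (h2 : ∀ g, ∃ k ∈ K, ∃ c, (k * g, c) ∈ Δ) : IsCyclic (G ⧸ K) := by
  haveI : IsCyclic Δ := isCyclic_of_injective ((MonoidHom.snd G C).comp Δ.subtype)
    ((injective_iff_map_eq_one _).2 fun x e => Subtype.ext (Prod.ext (h1 x x.2 e) e))
  refine isCyclic_of_surjective
    ((QuotientGroup.mk' K).comp ((MonoidHom.fst G C).comp Δ.subtype)) fun x => ?_
  obtain ⟨g, rfl⟩ := QuotientGroup.mk'_surjective K x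
  obtain ⟨k, hk, c, e⟩ := h2 g
  refine ⟨⟨_, e⟩, ?_⟩
  change QuotientGroup.mk' K (k * g) = _
  rw [map_mul, show QuotientGroup.mk' K k = 1 from (QuotientGroup.eq_one_iff k).2 hk, one_mul]

theorem cyc_of_quot {G : Type*} [Group G] {K B : Subgroup G} [K.Normal] [IsCyclic (G ⧸ K)]
    (h : B ⊓ K = ⊥) : IsCyclic B :=
  isCyclic_of_injective ((QuotientGroup.mk' K).comp B.subtype)
    ((injective_iff_map_eq_one _).2 fun x e => Subtype.ext
      (mem_bot.1 (h ▸ mem_inf.2 ⟨x.2, (QuotientGroup.eq_one_iff _).1 e⟩)))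

instance normal_inn (L : Type*) [Group L] : (MulAut.conj : L →* _).range.Normal :=
  ⟨by rintro _ ⟨g, rfl⟩ b; exact ⟨b g, by ext x; simp⟩⟩

section Sz

open Cfsg.Agent.P2

variable {X : Type u} {F : Type*} [Group X] [Finite X] [Field F] [Finite F] [hc : CharP F 2]
  {θ : F ≃+* F} {s z k : F → X} {t : X} (h : SzC θ s z k t)
include h

theorem sz_frame (φ : MulAut X) : ∃ l : X, (MulAut.conj l * φ) t = t ∧
    (MulAut.conj l * φ) (z 1) = z 1 ∧ (MulAut.conj l * φ) (s 1) = s 1 ∧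
      ∀ x ∈ h.r.K, (MulAut.conj l * φ) x ∈ h.r.K := by
  have hS := h.syl
  obtain ⟨g, -, hg⟩ := hS.exists_conj_le Nat.prime_two (hS.pgrp.map φ.toMonoidHom) le_top
  have h1 : (h.r.Q.map φ.toMonoidHom) ^ᵍ g = h.r.Q :=
    H1.eq_of_le_of_card_le hg (by rw [card_conj, card_map_inj φ.injective])
  obtain ⟨y, -, κ, -, h3⟩ := h.frame (φ := MulAut.conj g * φ) fun x => by
    nth_rewrite 1 [← h1]
    rw [MulAut.mul_apply, MulAut.conj_apply, mem_conj, show g⁻¹ * (g * φ x * g⁻¹) * g = φ x by group]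
    exact mem_map_iff_mem φ.injective
  rw [← mul_assoc, ← map_mul] at h3
  exact ⟨_, h3⟩

theorem sz_aut {ψ : MulAut X} (h4 : ψ (z 1) = z 1) (h5 : ψ (s 1) = s 1)
    (h6 : ∀ x ∈ h.r.K, ψ x ∈ h.r.K) :
    ∃ σ : RingAut F, (∀ a, ψ (s a) = s (σ a)) ∧ ∀ a, a ≠ 0 → ψ (k a) = k (σ a) := by
  classical
  choose σ σ0 hσ using fun a : Fˣ => h6 _ ⟨a, a.ne_zero, rfl⟩
  let τ : F → F := fun a => if ha : a = 0 then 0 else σ (Units.mk0 a ha)
  have τ0 : τ 0 = 0 := dif_pos rfl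
  have τ1 : ∀ a, a ≠ 0 → τ a ≠ 0 ∧ ψ (k a) = k (τ a) := fun a ha => by
    simp only [τ, dif_neg ha]; exact ⟨σ0 _, hσ (Units.mk0 a ha)⟩
  have τs : ∀ a, ψ (s a) = s (τ a) := fun a => by
    by_cases ha : a = 0
    · rw [ha, τ0, h.r.rel.s0, map_one]
    · rw [h.s_eq ha, map_mul, map_mul, map_inv, h5, (τ1 a ha).2, ← h.s_eq (τ1 a ha).1]
  have τz : ∀ b, ∃ c, ψ (z b) = z c := fun b => by
    obtain ⟨a, rfl⟩ := h.exists_norm b
    by_cases ha : a = 0
    · exact ⟨0, by rw [ha, zero_mul, h.r.rel.z0, map_one]⟩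
    · exact ⟨τ a * θ (τ a), by
        rw [h.z_eq ha, map_mul, map_mul, map_inv, h4, (τ1 a ha).2, ← h.z_eq (τ1 a ha).1]⟩
  let f : F →+* F :=
    { toFun := τ
      map_zero' := τ0
      map_one' := (h.r.rel.q_inj (b := 0) (d := 0) (by rw [← τs, h5])).1
      map_add' := fun a c => by
        obtain ⟨d, e⟩ := τz (a * θ c)
        have := congrArg ψ (h.ss a c)
        rw [map_mul, map_mul, τs, τs, τs, e, h.ss] at this
        exact (h.r.rel.q_inj this).1.symm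
      map_mul' := fun a c => by
        by_cases ha : a = 0
        · simp [ha, τ0]
        by_cases hc : c = 0
        · simp [hc, τ0]
        refine h.k_inj (τ1 _ (mul_ne_zero ha hc)).1 (mul_ne_zero (τ1 a ha).1 (τ1 c hc).1) ?_
        rw [← (τ1 _ (mul_ne_zero ha hc)).2, h.kk a c ha hc, map_mul, (τ1 a ha).2, (τ1 c hc).2,
          h.kk _ _ (τ1 a ha).1 (τ1 c hc).1] }
  exact ⟨RingEquiv.ofBijective f (Finite.injective_iff_bijective.1 f.injective), τs,
    fun a ha => (τ1 a ha).2⟩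

theorem sz_out : IsCyclic (MulAut X ⧸ (MulAut.conj : X →* _).range) := by
  haveI := Fact.mk Nat.prime_two
  haveI := Fintype.ofFinite F
  obtain ⟨n, -, hn⟩ := FiniteField.card F 2
  haveI := (P7.ringAut_cyclic Nat.prime_two (Nat.card_eq_fintype_card.trans hn)).1
  refine cyc_of_graph (C := RingAut F)
    { carrier := {x | x.1 t = t ∧ x.1 (z 1) = z 1 ∧ (∀ a, x.1 (s a) = s (x.2 a)) ∧
        ∀ a, a ≠ 0 → x.1 (k a) = k (x.2 a)}
      one_mem' := ⟨rfl, rfl, fun _ => rfl, fun _ _ => rfl⟩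
      mul_mem' := fun {x y} ⟨a1, a2, a3, a4⟩ ⟨b1, b2, b3, b4⟩ =>
        ⟨by simp [a1, b1], by simp [a2, b2], fun a => by simp [a3, b3],
          fun a ha => by
            rw [Prod.fst_mul, MulAut.mul_apply, b4 a ha, a4 _ (by simpa using ha)]; rfl⟩
      inv_mem' := fun {x} ⟨a1, a2, a3, a4⟩ =>
        ⟨x.1.injective (by simp [a1]), x.1.injective (by simp [a2]),
          fun a => x.1.injective (by rw [a3]; simp),
          fun a ha => x.1.injective (by rw [a4 _ (by simpa using ha)]; simp)⟩ }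
    (fun x ⟨a1, a2, a3, a4⟩ e => h.ext_aut a1 a2 (by rw [a3, map_one])
      fun a ha => by rw [a4 a ha, e]; rfl) fun φ => ?_
  obtain ⟨l, h1, h2, h3, h4⟩ := sz_frame h φ
  obtain ⟨σ, h5, h6⟩ := sz_aut h h2 h3 h4
  exact ⟨_, ⟨l, rfl⟩, σ, h1, h2, h5, h6⟩

theorem sz_oc : OC X := by
  haveI := sz_out h
  refine ⟨fun B _ e => cyc_of_quot e, z 1, h.z_ne one_ne_zero, fun φ => ?_⟩
  obtain ⟨l, -, h2, -⟩ := sz_frame h φ
  exact (isConj_iff.2 ⟨l, h2⟩).symm

end Sz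

theorem ztg_oc {X : Type u} [Group X] [Finite X] (h : ZTG X) (h3 : ¬ 3 ∣ Nat.card X) : OC X := by
  obtain ⟨m, hm, ⟨e⟩⟩ := h.iso h3
  obtain ⟨S, hS⟩ := exists_isSyl Nat.prime_two (⊤ : Subgroup X)
  obtain ⟨θ, s, z, k, t, h, -⟩ := exists_szC hm e hS
  exact sz_oc h

section L2

open Matrix Cfsg.Agent.H4.SL2 Cfsg.Agent.P4 OnePoint Cfsg.Agent.P7
open Cfsg.Agent.L (mkSL2 sl2Perm sl2Perm_infty sl2Perm_some)
open Cfsg.Agent.P3 (gl2Perm gl2Perm_infty gl2Perm_some)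

variable {G : Type u} [Group G] [Finite G] {F : Type*} [Field F] [DecidableEq F]

theorem exists_psi {L : Subgroup G} [L.Normal] {π : SL F →* G} (h : Cov π L) {k l : ℕ}
    (e : Ep (Nat.card F) k l) :
    ∃ ψ : G →* Equiv.Perm (OnePoint F), ∀ y, ψ (π y) = sl2Perm F y := by
  classical
  haveI := h.finite
  obtain ⟨p, hc⟩ := CharP.exists F
  have hp := CharP.char_is_prime F p
  have hP : IsSyl p (PU π) L := by
    refine ⟨h.PU_le, Agent.L.IsElementaryAbelian.isPGroup h.eaP, fun hd => ?_⟩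
    have h1 := card_mul_relIndex' h.PU_le
    rw [h.card_PU, h.cardL rfl e, mul_comm (4 * k * l)] at h1
    rw [Nat.eq_of_mul_eq_mul_left Nat.card_pos h1] at hd
    let _ := Fintype.ofFinite F
    refine hp.ne_one (Nat.eq_one_of_dvd_coprimes (e.cop_qk.mul_right e.cop_ql) ?_ hd)
    rw [Nat.card_eq_fintype_card, ← CharP.cast_eq_zero_iff F p]
    exact FiniteField.cast_card_eq_zero F
  choose y hy using exists_infty (F := F)
  let E : OnePoint F → Subgroup G := fun a => PU π ^ᵍ π (y a)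
  have key : ∀ a b : SL F, PU π ^ᵍ π a = PU π ^ᵍ π b ↔ sl2Perm F a ∞ = sl2Perm F b ∞ := fun a b => by
    rw [eq_comm, conj_eq_iff, conj_conj, eq_comm, conj_eq_self_iff, ← map_inv, ← map_mul,
      h.mem_norm_PU, ← fix_infty, map_mul, map_inv, Equiv.Perm.mul_apply,
      Equiv.Perm.inv_eq_iff_eq]
  have Einj : Function.Injective E := fun a b e => by rwa [key, hy, hy] at e
  have Econj : ∀ g a, E a ^ᵍ π g = E (sl2Perm F g a) := fun g a => by
    rw [conj_conj, ← map_mul, key, hy, map_mul, Equiv.Perm.mul_apply, hy]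
  have Esurj : ∀ m a, ∃ b, E b = E a ^ᵍ m := fun m a => by
    obtain ⟨c, hc, e'⟩ := ((hP.conj_of_mem_norm (le_normalizer (h.mem (y a)))).conj_of_mem_norm
      (le_normalizer_of_normal (mem_top m))).exists_conj_eq hp hP
    obtain ⟨γ, rfl⟩ := h.exists_eq hc
    exact ⟨sl2Perm F γ ∞, ((key _ _).2 (hy _)).trans e'⟩
  choose f hf using Esurj
  let _ : MulAction G (OnePoint F) :=
    { smul := f
      one_smul := fun x => Einj ((hf 1 x).trans (conj_one _))
      mul_smul := fun a b x => Einj (show E (f _ x) = E (f a (f b x)) by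
        rw [hf, hf, hf, conj_conj (E x)]) }
  exact ⟨MulAction.toPermHom G _, fun g => Equiv.ext fun x => Einj ((hf _ _).trans (Econj g x))⟩

theorem l2_out {L : Subgroup G} [L.Normal] {q : ℕ} (h : IsL2 L q) (h3 : q % 8 = 3)
    (hC : 𝐂(L) = ⊥) : IsCyclic (G ⧸ L) := by
  classical
  obtain ⟨F, _, π, h0, rfl⟩ := h.cov
  haveI := h0.finite
  haveI := Fintype.ofFinite F
  obtain ⟨k, l, e⟩ := exists_ep h.mod
  obtain ⟨ψ, hψ⟩ := exists_psi h0 e
  obtain ⟨p, hc⟩ := CharP.exists F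
  have hp := CharP.char_is_prime F p
  haveI := Fact.mk hp
  obtain ⟨n, -, hn⟩ := FiniteField.card F p
  rw [← Nat.card_eq_fintype_card] at hn
  obtain ⟨c1, c2⟩ := ringAut_cyclic hp hn
  haveI : IsCyclic (ℤˣ × RingAut F) := Group.isCyclic_prod_iff.2
    ⟨inferInstance, c1, by
      rw [c2, Nat.card_eq_fintype_card, Fintype.card_units_int]
      exact Nat.coprime_two_left.2 (odd_exp hn h.mod)⟩
  have nrm : ∀ m y, ∃ y', π y' = m * π y * m⁻¹ ∧ ψ m * sl2Perm F y * (ψ m)⁻¹ = sl2Perm F y' :=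
    fun m y => by
    obtain ⟨y', e⟩ := h0.exists_eq (Normal.conj_mem inferInstance _ (h0.mem y) m)
    exact ⟨y', e, by rw [← hψ, ← hψ, e, map_mul, map_mul, map_inv]⟩
  refine cyc_of_graph (C := ℤˣ × RingAut F)
    { carrier := {x | ψ x.1 ∞ = ∞ ∧ ∀ a : F, ψ x.1 a = (((x.2.1 : ℤ) * x.2.2 a : F) : OnePoint F)}
      one_mem' := ⟨by simp, fun a => by simp⟩
      mul_mem' := fun {x y} ⟨a1, a2⟩ ⟨b1, b2⟩ => ⟨by simp [a1, b1], fun a => by
        rw [Prod.fst_mul, map_mul, Equiv.Perm.mul_apply, b2, a2, map_mul, map_intCast,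
          ← mul_assoc, ← Int.cast_mul]
        rfl⟩
      inv_mem' := fun {x} ⟨a1, a2⟩ => ⟨(ψ x.1).injective (by simp [a1]),
        fun a => (ψ x.1).injective (by
          rw [a2, map_mul, map_intCast, ← mul_assoc, ← Int.cast_mul, ← Units.val_mul]
          simp)⟩ }
    (fun x ⟨a1, a2⟩ e => ?_) fun g => ?_
  · have h1 : ψ x.1 = 1 := Equiv.ext fun a => by
      induction a using OnePoint.rec with
      | infty => exact a1
      | coe c => rw [a2, e]; simp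
    refine mem_bot.1 (hC ▸ mem_cent.2 fun a ha => ?_)
    obtain ⟨y, rfl⟩ := h0.exists_eq ha
    obtain ⟨y', e1, e2⟩ := nrm x.1 y
    rw [h1, one_mul, inv_one, mul_one] at e2
    have e3 : π y = π y' := by
      rw [h0.eq_iff, ← P3.ker_sl2Perm, MonoidHom.mem_ker, map_mul, map_inv, e2, inv_mul_cancel]
    rw [← e3] at e1
    exact eq_mul_inv_iff_mul_eq.1 e1
  obtain ⟨y, h1, h2⟩ := exists_two ((ψ g).injective.ne (infty_ne_coe (0 : F)))
  have e0 : ψ (π y * g) = sl2Perm F y * ψ g := by rw [map_mul, hψ]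
  replace h1 : ψ (π y * g) ∞ = ∞ := by rw [e0]; exact h1
  replace h2 : ψ (π y * g) (0 : F) = (0 : F) := by rw [e0]; exact h2
  obtain ⟨c, hc⟩ := ne_infty_iff_exists.1 (show ψ (π y * g) (1 : F) ≠ ∞ from fun a =>
    coe_ne_infty _ ((ψ _).injective (a.trans h1.symm)))
  have c0 : c ≠ 0 := fun a => one_ne_zero (coe_eq_coe.1 ((ψ _).injective (by rw [← hc, h2, a])))
  obtain ⟨ε, d, hd⟩ : ∃ (ε : ℤˣ) (d : F), c = (ε : ℤ) * (d * d) := by
    by_cases hs : IsSquare c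
    · obtain ⟨d, rfl⟩ := hs
      exact ⟨1, d, by simp⟩
    have r2 : ringChar F ≠ 2 := fun a => h0.two_ne (by
      have := ringChar.Nat.cast_ringChar (R := F); rwa [a] at this)
    have a1 : quadraticChar F (-1) = -1 := quadraticChar_neg_one_iff_not_isSquare.2 (by
      rw [FiniteField.isSquare_neg_one_iff, ← Nat.card_eq_fintype_card]; omega)
    have a2 : quadraticChar F (-1 * c) = 1 := by
      rw [map_mul, a1, quadraticChar_neg_one_iff_not_isSquare.2 hs]; rfl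
    obtain ⟨d, hd⟩ := (quadraticChar_one_iff_isSquare (by simpa using c0)).1 a2
    exact ⟨-1, d, by rw [← hd]; simp⟩
  have d0 : d ≠ 0 := fun a => c0 (by simp [hd, a])
  have ε2 : ((ε : ℤ) : F) * (ε : ℤ) = 1 := by rw [← Int.cast_mul, ← Units.val_mul]; simp
  obtain ⟨γ, g1, g2⟩ := P3.exists_gl2_affine ((ε : ℤ) : F) 0 (left_ne_zero_of_mul_eq_one ε2)
  set m := π (dia (Units.mk0 d d0)⁻¹) * (π y * g) with hm
  have m1 : ψ m ∞ = ∞ := by
    rw [hm, map_mul, hψ, Equiv.Perm.mul_apply, h1]; exact fix_infty.2 rfl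
  obtain ⟨σ, hσ⟩ := exists_ringAut h0.odd (τ := gl2Perm F γ * ψ m) (fun w => by
    obtain ⟨w', -, e⟩ := nrm m w
    exact ⟨conjSL γ w', by rw [sl2Perm_conjSL, ← e]; group⟩)
    (by rw [Equiv.Perm.mul_apply, m1, g1])
    (by rw [Equiv.Perm.mul_apply, hm, map_mul, hψ, Equiv.Perm.mul_apply, h2, dia_act, g2]; simp)
    (by
      rw [Equiv.Perm.mul_apply, hm, map_mul, hψ, Equiv.Perm.mul_apply, ← hc, dia_act, g2, hd]
      congr 1
      simp only [Units.val_inv_eq_inv_val, Units.val_mk0]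
      field_simp
      linear_combination ε2)
  refine ⟨π (dia (Units.mk0 d d0)⁻¹ * y), h0.mem _, (ε, σ), ?_⟩
  rw [map_mul, mul_assoc]
  refine ⟨m1, fun a => (gl2Perm F γ).injective ?_⟩
  rw [g2, add_zero, ← mul_assoc ((ε : ℤ) : F), ε2, one_mul]
  exact hσ a

theorem l2_oc {q : ℕ} (h : IsL2 (⊤ : Subgroup G) q) (h3 : q % 8 = 3) : OC G := by
  have hZ := h.inf_cent
  have inj : Function.Injective (MulAut.conj : G →* _) := (injective_iff_map_eq_one _).2
    fun g e => mem_bot.1 (hZ ▸ mem_inf.2 ⟨mem_top g, mem_cent.2 fun x _ =>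
      (mul_inv_eq_iff_eq_mul.1 (DFunLike.congr_fun e x)).symm⟩)
  have h1 := KO.isL2_map inj h
  rw [← MonoidHom.range_eq_map] at h1
  haveI := l2_out h1 h3 (eq_bot_iff.2 fun φ hφ => MulEquiv.ext fun g => inj (by
    have := mem_cent.1 hφ _ ⟨g, rfl⟩
    ext x
    obtain ⟨x, rfl⟩ := φ.surjective x
    simpa using (DFunLike.congr_fun this x).symm))
  obtain ⟨s, hs, s0, hs0, v⟩ := l2Four G ⊤ q h
  obtain ⟨f⟩ := l2Api G ⊤ ⊤ 1 q s s0 h.lm v hs hs0
  refine ⟨fun B _ e => cyc_of_quot e, s, v.t1, fun φ => ?_⟩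
  obtain ⟨g, -, e⟩ := f.lt.hyp.conj (φ s) (mem_top _) (by simpa using v.t1)
    (by rw [← map_mul, v.tt, map_one])
  exact isConj_iff.2 ⟨g, e⟩

end L2

end Cfsg.Agent.P18.F
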