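/-
P18, chapter F: the applications of the classification of simple groups without real elements
of order three.
-/
import Cfsg.Agent.P18.F2
import Cfsg.Agent.P14.C
import Cfsg.Agent.H1.SectS4

set_option autoImplicit false
set_option linter.unusedSectionVars false
set_option linter.style.haveILetI false

namespace Cfsg.Agent.P18.F

open Subgroup Cfsg Cfsg.Agent Cfsg.Agent.FT Cfsg.Agent.P14

universe u

/-- The classification of the simple groups without real elements of order three. -/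
def CL : Prop := ∀ (L : Type u) [Group L] [Finite L], St.I3 L → IsSimpleGroup L →
  ¬ IsMulCommutative L → ¬ 3 ∣ Nat.card L ∨ ∃ f, P7.IsL2 (⊤ : Subgroup L) (3 ^ (2 * f + 1))

theorem three_pow_mod (f : ℕ) : 3 ^ (2 * f + 1) % 8 = 3 := by
  rw [pow_succ, pow_mul, Nat.mul_mod, Nat.pow_mod]; simp

theorem CL.oc (h : CL.{u}) (L : Type u) [Group L] [Finite L] (h3 : St.I3 L)
    (hs : IsSimpleGroup L) (na : ¬ IsMulCommutative L) : OC L :=
  (h L h3 hs na).elim (fun e => ztg_oc (kh_thm _ L (Nat.lt_succ_self _) e hs na) e)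
    fun ⟨f, e⟩ => l2_oc e (three_pow_mod f)

theorem i3_of_not_involves {G : Type*} [Group G] [Finite G]
    (h : ¬ Involves (Equiv.Perm (Fin 3)) G) : St.I3 G := fun x g x3 hg => by
  classical
  by_contra x1
  haveI := Fact.mk Nat.prime_three
  have ox := orderOf_eq_prime x3 x1
  have gN : zpowers g ≤ 𝐍(zpowers x) :=
    zpowers_le.2 (conj_eq_self_iff.1 (by rw [← zpowers_conj, hg, zpowers_inv]))
  let H := H1.commStab (zpowers g) (zpowers x)
  have xH : x ∈ H := ⟨le_normalizer (mem_zpowers x), fun γ hγ =>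
    mul_mem ((mem_normalizer_iff.1 (gN hγ) x).1 (mem_zpowers x)) (inv_mem (mem_zpowers x))⟩
  have gH : g ∈ H := ⟨gN (mem_zpowers g), fun γ hγ => by
    obtain ⟨k, rfl⟩ := hγ
    rw [commutatorElement_eq_one_iff_commute.2 ((Commute.refl g).zpow_left k)]
    exact one_mem _⟩
  let _ : MulAction H (zpowers x) :=
    { smul := fun c y => ⟨c * y * g * (c : G)⁻¹ * g⁻¹, by
        have := mul_mem ((mem_normalizer_iff.1 c.2.1 y).1 y.2) (inv_mem (c.2.2 g (mem_zpowers g)))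
        convert this using 1
        rw [commutatorElement_def]; group⟩
      one_smul := fun y => Subtype.ext (show ((1 : H) : G) * y * g * ((1 : H) : G)⁻¹ * g⁻¹ = y by simp)
      mul_smul := fun a b y => Subtype.ext (show ((a * b : H) : G) * y * g * ((a * b : H) : G)⁻¹ * g⁻¹ =
        a * (b * y * g * (b : G)⁻¹ * g⁻¹) * g * (a : G)⁻¹ * g⁻¹ by rw [coe_mul]; group) }
  let e : zpowers x ≃ Fin 3 := Finite.equivFinOfCardEq (by rw [Nat.card_zpowers, ox])
  let ψ : H →* Equiv.Perm (Fin 3) := e.permCongrHom.toMonoidHom.comp (MulAction.toPermHom H _)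
  have key : ∀ a b : Equiv.Perm (Fin 3), a ^ 3 = 1 → a ≠ 1 → b * a * b⁻¹ = a⁻¹ → ∀ c,
      c = 1 ∨ c = a ∨ c = a * a ∨ c = b ∨ c = a * b ∨ c = a * a * b := by decide
  refine h (H1.involves_iff.2 ⟨H, ψ, fun c => ?_⟩)
  have h1 : ψ ⟨x, xH⟩ ≠ 1 := fun e1 => by
    have h2 : MulAction.toPermHom H (zpowers x) ⟨x, xH⟩ = 1 :=
      e.permCongrHom.injective (by rw [map_one]; exact e1)
    have h3 : x * 1 * g * x⁻¹ * g⁻¹ = 1 := congrArg Subtype.val (DFunLike.congr_fun h2 1)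
    rw [show x * 1 * g * x⁻¹ * g⁻¹ = x * (g * x * g⁻¹)⁻¹ by group, hg, inv_inv] at h3
    rw [pow_three, h3, mul_one] at x3
    exact x1 x3
  rcases key (ψ ⟨x, xH⟩) (ψ ⟨g, gH⟩) (by rw [← map_pow, ← map_one ψ]; exact congrArg ψ (Subtype.ext x3))
    h1 (by rw [← map_inv, ← map_inv, ← map_mul, ← map_mul]; exact congrArg ψ (Subtype.ext hg)) c
    with rfl | rfl | rfl | rfl | rfl | rfl
  exacts [⟨1, map_one _⟩, ⟨_, rfl⟩, ⟨_, map_mul _ _ _⟩, ⟨_, rfl⟩, ⟨_, map_mul _ _ _⟩,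
    ⟨⟨x, xH⟩ * ⟨x, xH⟩ * ⟨g, gH⟩, by rw [map_mul, map_mul]⟩]

theorem s4041 (h : CL.{u}) {G : Type u} {A : Type*} [Group G] [Finite G] [Group A] [Finite A]
    (φ : A →* MulAut G) (hfpf : ∀ g : G, (∀ a : A, φ a g = g) → g = 1)
    (hS3 : ¬ Involves (Equiv.Perm (Fin 3)) G)
    (hHall : ∃ H : Subgroup A, IsPiHall {r : ℕ | r.Prime ∧ r ∣ Nat.card G} H ∧ Group.IsNilpotent H)
    (hcomp : ∃ K : Subgroup A, K.Normal ∧ (∀ r : ℕ, r.Prime → r ∣ Nat.card K → ¬ r ∣ Nat.card G) ∧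
      ∀ r : ℕ, r.Prime → r ∣ K.index → r ∣ Nat.card G) : Group.IsSolvable G := by
  obtain ⟨H, hH, nH⟩ := hHall
  obtain ⟨K, nK, hK, hK'⟩ := hcomp
  have h1 : H ⊔ K = ⊤ := index_eq_one.1 (by
    by_contra e
    obtain ⟨r, hr, hd⟩ := Nat.exists_prime_and_dvd e
    exact hH.2 r hr ⟨hr, hK' r hr (hd.trans (index_dvd_of_le le_sup_right))⟩
      (hd.trans (index_dvd_of_le le_sup_left)))
  haveI : Group.IsNilpotent (A ⧸ K) := Group.nilpotent_of_surjective
    ((QuotientGroup.mk' K).comp H.subtype) fun x => by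
      obtain ⟨a, rfl⟩ := QuotientGroup.mk'_surjective K x
      obtain ⟨b, hb, c, hc, rfl⟩ := mem_sup_of_normal_right.1 (h1 ▸ mem_top a)
      exact ⟨⟨b, hb⟩, (QuotientGroup.mk_mul_of_mem b hc).symm⟩
  have h2 : PN (Nat.card G) A := fun p hp hd => by
    haveI := Fact.mk hp
    exact H8.hasNPC_of_quotient_coprime K
      (hp.coprime_iff_not_dvd.2 fun e => hK p hp e hd).symm (H8.hasNPC_of_isNilpotent p)
  let ψ := φ.range.subtype
  have e : G ≃* H1.sdL ψ ⊤ := topEquiv.symm.trans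
    (equivMapOfInjective ⊤ _ SemidirectProduct.inl_injective)
  have h3 := solv h.oc _ (G ⋊[ψ] φ.range) (H1.sdL ψ ⊤) (H1.sdR ψ ⊤) H1.card_sdL_top
    ((i3_of_not_involves hS3).of_injective e.symm.toMonoidHom e.symm.injective)
    ((h2.surj _ φ.rangeRestrict_surjective).surj (topEquiv.symm.trans
      (equivMapOfInjective ⊤ _ SemidirectProduct.inr_injective)).toMonoidHom
      (MulEquiv.surjective _)) (by
        rw [H1.sdL_top_inf_centralizer, H1.sdL_eq_bot]
        exact eq_bot_iff.2 fun g hg => hfpf g fun a => H1.mem_fixedSub_top.1 hg ⟨_, a, rfl⟩)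
  exact Group.isSolvable_of_isSolvable_injective (f := e.toMonoidHom) e.injective

theorem s4031 (h : CL.{u}) {G : Type u} [Group G] [Finite G] [hs : IsSimpleGroup G]
    (hna : ¬ IsMulCommutative G)
    (hirr : ∀ x : G, (∀ r : ℕ, r.Prime → r ∣ orderOf x → r = 3) →
      normalizer ((zpowers x : Subgroup G) : Set G) ≤ centralizer {x}) :
    (∃ f : ℕ, 1 ≤ f ∧ Nonempty (G ≃* Matrix.ProjectiveSpecialLinearGroup (Fin 2)
      (GaloisField 3 (2 * f + 1)))) ∨ IsSuzuki G := by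
  haveI := Fact.mk Nat.prime_three
  have h3 : St.I3 G := fun x g x3 hg => by
    have h1 := mem_cent1_iff_conj.1 (hirr x (fun r hr hd => (Nat.prime_dvd_prime_iff_eq hr
      Nat.prime_three).1 (hd.trans (orderOf_dvd_of_pow_eq_one x3))) (conj_eq_self_iff.1 (by
        rw [← zpowers_conj, hg, zpowers_inv])))
    rw [h1] at hg
    rwa [pow_three, mul_eq_one_iff_eq_inv.2 hg, mul_one] at x3
  rcases h G h3 hs hna with e | ⟨f, e⟩
  · obtain ⟨m, hm, i⟩ := (kh_thm _ G (Nat.lt_succ_self _) e hs hna).iso e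
    haveI := Fintype.ofFinite (GaloisField 2 (2 * m + 1))
    exact Or.inr (P2.isSuzuki_of_isoSuzuki
      ⟨_, _, this, m, hm, by rw [← Nat.card_eq_fintype_card, card_GF], i⟩)
  · obtain ⟨F, _, _, hF, ⟨i⟩⟩ := e.iso
    haveI := Fintype.ofFinite (GaloisField 3 (2 * f + 1))
    obtain ⟨j⟩ := P3.nonempty_PSL2_equiv_of_ringEquiv (FiniteField.ringEquivOfCardEq (K := F)
      (K' := GaloisField 3 (2 * f + 1)) (by
        rw [hF, ← Nat.card_eq_fintype_card, GaloisField.card _ _ (by omega)]))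
    refine Or.inl ⟨f, ?_, ⟨(topEquiv.symm.trans i).trans j⟩⟩
    have := e.five
    rcases f with _ | f
    · omega
    · omega

end Cfsg.Agent.P18.F
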