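/-
P18, chapter Z: the components.
-/
import Cfsg.Agent.P18.Defs
import Cfsg.Agent.P18.N1
import Cfsg.Agent.P18.P
import Cfsg.Agent.P18.CT1
import Cfsg.Agent.P14.C

set_option autoImplicit false
set_option linter.unusedSectionVars false

namespace Cfsg.Agent.P18

open Subgroup Cfsg Cfsg.Agent Cfsg.Agent.FT Cfsg.Agent.P14 Cfsg.Agent.P7
open Cfsg.Agent.P14.St (I3)
open scoped commutatorElement

universe u

variable {G : Type u} [Group G] [Finite G]

theorem l2_tor {L : Subgroup G} {n : ℕ} (h : IsL2 L (3 ^ n)) {j : G} (jL : j ∈ L) (j1 : j ≠ 1)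
    (jj : j * j = 1) : ∃ y ∈ L, y ≠ 1 ∧ Odd (orderOf y) ∧ Commute j y ∧
      ∀ a ∈ L, Commute a j → a * a = 1 → a ≠ 1 → a ≠ j → a * y * a⁻¹ = y⁻¹ := by
  obtain ⟨F, _, π, hπ, hq⟩ := h.cov
  obtain ⟨k, l, e⟩ := exists_ep h.mod
  obtain ⟨x, rfl⟩ := hπ.exists_eq jL
  obtain ⟨c1, c2⟩ := hπ.invol hq e j1 jj
  have k1 : k ≠ 1 := by
    rintro rfl
    have := h.five
    have := dvd_pow_self 3 (show n ≠ 0 by rintro rfl; omega)
    have := e.eps
    omega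
  obtain ⟨r, hr, hrk⟩ := Nat.exists_prime_and_dvd k1
  haveI := Fact.mk hr
  obtain ⟨⟨y, hy⟩, ho⟩ := exists_prime_orderOf_dvd_card' (G := Ab π x) r (c2 ▸ hrk.mul_left 2)
  replace ho : orderOf y = r := (Subgroup.orderOf_coe _).trans ho
  exact ⟨y, hπ.Ab_le_L x hy, fun e => hr.one_lt.ne' (by rw [← ho, e, orderOf_one]),
    ho ▸ e.oddk.of_dvd_nat hrk, hπ.Ab_comm j1 (hπ.self_mem x) hy, fun a ha hc aa a1 aj =>
    (hπ.dih j1 (hπ.tr_ne_of_invol j1 jj) ha (fun hn => (eq_of_invol_cyclic c1 (hπ.self_mem x) j1 jj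
      hn aa).elim a1 aj) (hπ.self_mem x) j1 (by
        rw [hc.eq, mul_inv_cancel_right]; exact hπ.self_mem x)).2.1 y hy⟩

theorem inner_qs (h3 : I3 G) {K : Subgroup G} (pf : ⁅K, K⁆ = K) {n : ℕ}
    (h : IsL2 (⊤ : Subgroup (K ⧸ center K)) (3 ^ n)) {x : G} (hx : x ∈ 𝐍(K)) {k : ℕ}
    (hk : x ^ 2 ^ k ∈ 𝐂(K)) : x ∈ K ⊔ 𝐂(K) := by
  haveI := H1.normal_subgroupOf_of_le (H1.le_normalizer_centralizer (le_refl 𝐍(K)))
  let f := H1.qmk 𝐍(K) 𝐂(K)
  let φ : K →* _ := f.comp (inclusion (le_norm_self K))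
  have hφ : center K = φ.ker := by
    ext v
    rw [← QuotientGroup.eq_one_iff]
    exact (cq_eq_one (v := v)).trans (H1.qmk_eq_one_iff (y := inclusion (le_norm_self K) v)).symm
  obtain ⟨⟨F, _, _, hF, ⟨e⟩⟩, h8, h5⟩ := h
  obtain ⟨F, _, π, hπ, hq⟩ := IsL2.cov (L := φ.range) ⟨⟨F, _, _, hF,
    ⟨((QuotientGroup.quotientKerEquivRange φ).symm.trans
      (QuotientGroup.quotientMulEquivOfEq hφ).symm).trans (topEquiv.symm.trans e)⟩⟩, h8, h5⟩
  have hn : ∀ y : 𝐍(K), f y ∈ 𝐍(φ.range) := fun y => mem_norm_of_conj_le fun _ hz => by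
    obtain ⟨_, ⟨v, rfl⟩, rfl⟩ := mem_conj'.1 hz
    refine ⟨⟨y * v * (y : G)⁻¹, P14.cjm y.2 v.2⟩, ?_⟩
    change f (y * inclusion (le_norm_self K) v * y⁻¹) = _
    rw [map_mul, map_mul, map_inv]
    rfl
  obtain ⟨_, ⟨s, rfl⟩, c, hc, e1⟩ := (mem_sup_of_norm (cent_le_norm _)).1
    (N.inner (A.i3_bar h3 𝐍(K) 𝐂(K)) hπ hq h8 h5 (hn ⟨x, hx⟩) (k := k) (by
      rw [← map_pow, H1.qmk_eq_one_iff.2 hk]; exact one_mem _))
  let y : 𝐍(K) := (inclusion (le_norm_self K) s)⁻¹ * ⟨x, hx⟩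
  have e2 : f y = c := by rw [map_mul, map_inv, ← e1]; exact inv_mul_cancel_left _ _
  have e3 : (y : G) ∈ 𝐂(K) := (act_eq_one pf).1 (by
    ext v
    obtain ⟨v, rfl⟩ := cq_surj v
    rw [act_cq, MulAut.one_apply, cq_eq]
    refine (H1.qmk_eq_one_iff (N := 𝐂(K)) (y := (y * inclusion (le_norm_self K) v * y⁻¹)⁻¹ *
      inclusion (le_norm_self K) v)).1 ?_
    rw [map_mul, map_inv, map_mul, map_mul, map_inv, e2, inv_mul_eq_one, mul_inv_eq_iff_eq_mul]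
    exact (mem_cent.1 hc _ ⟨v, rfl⟩).symm)
  simpa [y] using mul_mem (mem_sup_left s.2) (mem_sup_right e3)

theorem zStmt : ZStmt.{u} := by
  intro G _ _ K T h3 qs hZ kh hT
  have c1 : Nat.card (K ⧸ center K) = 𝐂(K).relIndex K := by
    rw [← card_top, ← relIndex_cent_up, up_top]
  rcases kh _ (by omega) ((h3.subgroup K).of_surjective _ cq_surj) qs.2 (C.cq_not_comm qs) with
    h | ⟨f, h⟩
  · have n3 := C.not_three_of_cq Nat.prime_two (by norm_num) hZ h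
    exact Or.inl ⟨n3, P14.zStmt G K T qs hZ n3 (kh_thm _) hT⟩
  have hS : IsSyl 2 (dn K T) ⊤ := H7.SC.isSyl_map cq_surj ((isSyl_map_iff K.subtype_injective).1 (by
    rwa [subgroupOf_map_subtype, inf_eq_left.2 hT.le, ← MonoidHom.range_eq_map, range_subtype]))
  obtain ⟨s, t, v, hQ⟩ := l3_syl ⟨f, h⟩ hS
  have ZT : K ⊓ 𝐂(K) ≤ T := hT.le_of_le_norm Nat.prime_two hZ inf_le_left
    (hT.le.trans (H1.le_normalizer_inf (le_norm_self K) (H1.le_normalizer_centralizer (le_norm_self K))))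
  have eT : up (V2 s t) = T := by rw [← hQ, up_dn hT.le, sup_eq_left.2 ZT]
  have lift : ∀ d, Odd (orderOf d) → ∃ x : K, cq K x = d ∧ orderOf (x : G) = orderOf d :=
    fun d o1 => by
      obtain ⟨j, hj⟩ := exists_card_eq_pow Nat.prime_two hZ
      obtain ⟨x, hx, h1⟩ := H5.exists_lift_orderOf_eq (center K) d (by
        rw [← card_map_inj K.subtype_injective, H2.map_subtype_center, hj]
        exact (Nat.coprime_two_right.2 o1).pow_right j)
      exact ⟨x, hx, by rwa [orderOf_coe]⟩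
  have sq : ∀ a ∈ V2 s t, a * a = 1 := fun a ha => v.sq ha
  have cm : ∀ a ∈ V2 s t, ∀ b ∈ V2 s t, Commute a b := fun a ha b hb => by
    have := eq_inv_of_mul_eq_one_left (sq _ (mul_mem ha hb))
    rwa [mul_inv_rev, ← eq_inv_of_mul_eq_one_left (sq a ha),
      ← eq_inv_of_mul_eq_one_left (sq b hb)] at this
  obtain ⟨x, x3, tri⟩ := C.L3.tri ⟨f, h⟩ v
  haveI := Fact.mk Nat.prime_three
  have ox : orderOf x = 3 := orderOf_eq_prime x3 fun e => tri.not_commute v (e ▸ Commute.one_left _)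
  obtain ⟨d, rfl, od⟩ := lift x (ox ▸ by decide)
  subst eT
  refine Or.inr ⟨ox ▸ od ▸ orderOf_dvd_card_of_mem d.2, qs, hT, by rw [relIndex_cent_up, v.card],
    fun a ha => ?_, fun a ha ⟨k, hk⟩ => inner_qs h3 (H2.QS.commutator_eq qs) h ha hk,
    ⟨d, ⟨d.2, coe_mem_norm_up.2 (tri.mem_norm v)⟩, ⟨1, by
      rw [pow_one, ← ox, ← od, pow_orderOf_eq_one]⟩, fun a ha hc => ?_⟩, fun a ha a1 => ?_⟩
  · lift a to K using up_le _ ha
    exact (cq_eq_one (v := a * a)).1 ((map_mul _ a a).trans (sq _ (coe_mem_up.1 ha)))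
  · lift a to K using up_le _ ha
    have h1 : Commute (cq K d) (cq K a) := commutatorElement_eq_one_iff_commute.1 (by
      rw [← map_commutatorElement]; exact cq_eq_one.2 hc)
    rw [← cq_eq_one]
    rcases v.mem_iff.1 (coe_mem_up.1 ha) with e | e | e | e <;> rw [e] at h1 ⊢
    · exact absurd h1 (tri.not_commute v)
    · exact absurd h1 ((tri.rot v).not_commute v.rot)
    · exact absurd h1 (((tri.rot v).rot v.rot).not_commute v.rot.rot)
  · lift a to K using up_le _ ha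
    have ha' := coe_mem_up.1 ha
    obtain ⟨y, -, y1, oy, h1, h2⟩ := l2_tor h (mem_top _) (mt cq_eq_one.1 a1) (sq _ ha')
    obtain ⟨y, rfl, e⟩ := lift y oy
    refine ⟨y, y.2, mt cq_eq_one.2 y1, e ▸ oy, (cq_eq_one (v := ⁅a, y⁆)).1 (by
      rw [map_commutatorElement]; exact h1.commutator_eq), fun b hb b1 ab => ?_⟩
    lift b to K using up_le _ hb
    have hb' := coe_mem_up.1 hb
    refine (cq_eq_one (v := b * y * b⁻¹ * y)).1 ?_
    rw [map_mul, map_mul, map_mul, map_inv, h2 _ (mem_top _) (cm _ hb' _ ha') (sq _ hb')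
      (mt cq_eq_one.1 b1) fun e => ab ((cq_eq_one (v := a * b)).1 (by rw [map_mul, e, sq _ ha'])),
      inv_mul_cancel]

end Cfsg.Agent.P18
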