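/-
P18: the classification from the remaining parts of chapter B.
-/
import Cfsg.Agent.P18.BS
import Cfsg.Agent.P18.C
import Cfsg.Agent.P18.Z
import Cfsg.Agent.P18.W
import Cfsg.Agent.P18.F

set_option autoImplicit false

namespace Cfsg.Agent.P18

universe u

theorem cl_of (h0 : B0Stmt.{u}) (h1 : B1Stmt.{u}) (h4 : B4Stmt.{u}) : F.CL.{u} := fun L _ _ =>
  k3_all (bStmt zStmt h0 h1 h4) cStmt wStmt _ L (Nat.lt_succ_self _)

end Cfsg.Agent.P18
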