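/-
P18: finite simple groups without real elements of order three.
-/
import Cfsg.Agent.P18.Main0
import Cfsg.Agent.P18.B0
import Cfsg.Agent.P18.B1
import Cfsg.Agent.P18.B4
import Cfsg.Agent.P18.B4c

set_option autoImplicit false

namespace Cfsg.Agent.P18

universe u

theorem cl : F.CL.{u} := cl_of b0Stmt b1Stmt (B4.b4_of b4c)

end Cfsg.Agent.P18
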